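import Cfsg.Agent.RankOne.Basic
import Cfsg.Agent.S0035

/-!
Doubly transitive groups in which no non-identity element fixes three points and some element fixes
two: Frobenius kernels of the point stabilisers, normal subgroups, and the rank-one set-up in odd
degree.
-/

set_option autoImplicit false

open Subgroup MulAction
open scoped Pointwise

namespace Cfsg.Agent.RankOne

variable {G Ω : Type*} [Group G] [MulAction G Ω]

/-- Doubly transitive, no non-identity element fixing three points, some fixing two. -/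
structure IsThreeFree (G Ω : Type*) [Group G] [MulAction G Ω] : Prop where
  faithful : FaithfulSMul G Ω
  two_transitive : MulAction.IsMultiplyPretransitive G Ω 2
  three : ∀ g : G, ∀ a b c : Ω, a ≠ b → b ≠ c → a ≠ c → g • a = a → g • b = b → g • c = c → g = 1
  two : ∃ g : G, g ≠ 1 ∧ ∃ a b : Ω, a ≠ b ∧ g • a = a ∧ g • b = b

theorem threeFree_of_zassenhaus (hZ : Cfsg.IsZassenhausGroup G Ω) : IsThreeFree G Ω :=
  ⟨hZ.1, hZ.2.1, hZ.2.2.1, hZ.2.2.2.1⟩

namespace IsThreeFree

variable (hT : IsThreeFree G Ω)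
include hT

theorem pairs {x y z w : Ω} (hxy : x ≠ y) (hzw : z ≠ w) : ∃ g : G, g • x = z ∧ g • y = w :=
  (is_two_pretransitive_iff.mp hT.two_transitive) hxy hzw

theorem exists_third (a b : Ω) : ∃ c : Ω, c ≠ a ∧ c ≠ b := by
  by_contra h
  push Not at h
  obtain ⟨g, hg, x, y, hxy, hx, hy⟩ := hT.two
  have := hT.faithful
  apply hg
  refine FaithfulSMul.eq_of_smul_eq_smul (α := Ω) fun z => ?_
  rw [one_smul]
  have hz : z = x ∨ z = y := by
    by_cases ha : x = a
    · have hb : y = b := h y (by rw [← ha]; exact hxy.symm)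
      by_cases hza : z = a
      · exact Or.inl (hza.trans ha.symm)
      · exact Or.inr ((h z hza).trans hb.symm)
    · have hb : x = b := h x ha
      have hya : y = a := by
        by_contra hne
        exact hxy (hb.trans (h y hne).symm)
      by_cases hza : z = a
      · exact Or.inr (hza.trans hya.symm)
      · exact Or.inl ((h z hza).trans hb.symm)
  rcases hz with rfl | rfl <;> assumption

theorem exists_fix_pair {a b : Ω} (hab : a ≠ b) : ∃ d : G, d ≠ 1 ∧ d • a = a ∧ d • b = b := by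
  obtain ⟨g, hg, x, y, hxy, hx, hy⟩ := hT.two
  obtain ⟨h, hha, hhb⟩ := hT.pairs hxy hab
  refine ⟨h * g * h⁻¹, fun e => hg ?_, ?_, ?_⟩
  · simpa [mul_inv_eq_one, mul_eq_left] using e
  · rw [mul_smul, mul_smul, ← hha, inv_smul_smul, hx]
  · rw [mul_smul, mul_smul, ← hhb, inv_smul_smul, hy]

theorem transitive (a b : Ω) : ∃ g : G, g • a = b := by
  obtain ⟨c, hca, -⟩ := hT.exists_third a b
  obtain ⟨d, hdb, -⟩ := hT.exists_third b a
  obtain ⟨g, hg, -⟩ := hT.pairs hca.symm hdb.symm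
  exact ⟨g, hg⟩

/-- The Frobenius kernel of a point stabiliser. -/
theorem exists_kernel [Finite G] (a : Ω) :
    ∃ Q : Subgroup G, Q ≤ stabilizer G a ∧
      (∀ h ∈ stabilizer G a, ∀ x ∈ Q, h * x * h⁻¹ ∈ Q) ∧
      (∀ x, x ∈ Q ↔ x • a = a ∧ (x = 1 ∨ ∀ c : Ω, c ≠ a → x • c ≠ c)) ∧
      ∀ b c : Ω, b ≠ a → c ≠ a → ∃! x : Q, (x : G) • b = c := by
  classical
  obtain ⟨b, hba, -⟩ := hT.exists_third a a
  obtain ⟨c, hca, hcb⟩ := hT.exists_third a b
  set H := stabilizer G a
  let D : Subgroup H := stabilizer H b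
  obtain ⟨d, hd1, hda, hdb⟩ := hT.exists_fix_pair hba.symm
  have hDbot : D ≠ ⊥ := fun e => by
    have hmem : (⟨d, hda⟩ : H) ∈ D := hdb
    rw [e] at hmem
    exact hd1 (congrArg Subtype.val ((Subgroup.mem_bot).mp hmem))
  have hDtop : D ≠ ⊤ := fun e => by
    obtain ⟨g, hg, hgc⟩ := hT.pairs hba.symm hca.symm
    have : (⟨g, hg⟩ : H) ∈ D := e ▸ Subgroup.mem_top _
    exact hcb (hgc.symm.trans this)
  have hconjD : ∀ g k : H, k ∈ MulAut.conj g • D ↔ (k : G) • ((g : G) • b) = (g : G) • b := by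
    intro g k
    rw [Subgroup.mem_pointwise_smul_iff_inv_smul_mem,
      show (MulAut.conj g)⁻¹ • k = g⁻¹ * k * g by simp]
    show ((g : G)⁻¹ * (k : G) * (g : G)) • b = b ↔ _
    rw [mul_smul, mul_smul, inv_smul_eq_iff]
  have hfrob : Cfsg.IsFrobeniusComplement D := by
    refine ⟨hDbot, hDtop, fun g hg => eq_bot_iff.mpr ?_⟩
    rintro x ⟨hx, hx₂⟩
    have hxg := (hconjD g x).mp hx₂
    have hgb : (g : G) • b ≠ b := fun e => hg e
    have hgba : (g : G) • b ≠ a := fun e =>
      hba (MulAction.injective (g : G) (e.trans (show (g : G) • a = a from g.2).symm))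
    exact (Subgroup.mem_bot).mpr (Subtype.ext
      (hT.three x a b ((g : G) • b) hba.symm hgb.symm hgba.symm x.2 hx hxg))
  obtain ⟨K, hKset, hKn, hKcompl⟩ := S0035.result D hfrob
  have horb : ∀ x : Ω, x ≠ a → ∃ g : H, (g : G) • b = x := fun x hx => by
    obtain ⟨g, hg, hgx⟩ := hT.pairs hba.symm hx.symm
    exact ⟨⟨g, hg⟩, hgx⟩
  have hKmem : ∀ k : H, k ∈ K ↔ k = 1 ∨ ∀ x : Ω, x ≠ a → (k : G) • x ≠ x := by
    intro k
    rw [← SetLike.mem_coe, hKset]
    show (k = 1 ∨ ∀ g : H, k ∉ MulAut.conj g • D) ↔ _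
    refine or_congr_right ⟨fun hno x hx e => ?_, fun h g hk => ?_⟩
    · obtain ⟨g, rfl⟩ := horb x hx
      exact hno g ((hconjD g k).mpr e)
    · refine h ((g : G) • b) (fun e => ?_) ((hconjD g k).mp hk)
      exact hba (MulAction.injective (g : G) (e.trans (show (g : G) • a = a from g.2).symm))
  refine ⟨K.map H.subtype, map_subtype_le _, ?_, fun x => ⟨?_, ?_⟩, ?_⟩
  · rintro h hh _ ⟨k, hk, rfl⟩
    exact ⟨⟨h, hh⟩ * k * (⟨h, hh⟩ : H)⁻¹, hKn.conj_mem k hk _, rfl⟩
  · rintro ⟨k, hk, rfl⟩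
    refine ⟨k.2, ?_⟩
    rcases (hKmem k).mp hk with rfl | h
    · exact Or.inl rfl
    · exact Or.inr h
  · rintro ⟨hx, h⟩
    refine ⟨⟨x, hx⟩, (hKmem _).mpr ?_, rfl⟩
    rcases h with rfl | h
    · exact Or.inl rfl
    · exact Or.inr h
  · intro x y hx hy
    have hfree : ∀ k ∈ K, (k : G) • x = x → k = 1 := fun k hk e =>
      ((hKmem k).mp hk).resolve_right fun h => h x hx e
    let S := {z : Ω // z ≠ a}
    have hmem : ∀ k : K, ((k : H) : G) • x ≠ a := fun k e =>
      hx (MulAction.injective ((k : H) : G) (e.trans ((k : H).2 : ((k : H) : G) • a = a).symm))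
    let φ : K → S := fun k => ⟨((k : H) : G) • x, hmem k⟩
    have hinjφ : Function.Injective φ := by
      intro k k' e
      have e1 : ((k : H) : G) • x = ((k' : H) : G) • x := congrArg Subtype.val e
      have := hfree _ (K.mul_mem (K.inv_mem k'.2) k.2) (by
        show (((k' : H) : G)⁻¹ * ((k : H) : G)) • x = x
        rw [mul_smul, e1, inv_smul_smul])
      exact (Subtype.ext (inv_mul_eq_one.mp this)).symm
    have hinjS : Function.Injective (fun z : S => (⟨(z : Ω), horb z z.2⟩ : orbit H b)) :=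
      fun z z' e => Subtype.ext (congrArg Subtype.val e :)
    have hcard : Nat.card S ≤ Nat.card K := by
      have h1 : Nat.card H = Nat.card D * Nat.card (orbit H b) := by
        rw [← Nat.card_congr (orbitProdStabilizerEquivGroup H b), Nat.card_prod, mul_comm]
      have h2 : Nat.card K * Nat.card D = Nat.card H := hKcompl.card_mul_card
      have : Finite (orbit H b) := Set.finite_range _
      calc Nat.card S ≤ Nat.card (orbit H b) := Nat.card_le_card_of_injective _ hinjS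
        _ ≤ Nat.card K :=
          Nat.le_of_mul_le_mul_left (le_of_eq (by rw [← h1, ← h2, mul_comm])) Nat.card_pos
    have : Finite S := by
      have : Finite (orbit H b) := Set.finite_range _
      exact Finite.of_injective _ hinjS
    obtain ⟨hφinj, hφsurj⟩ := hinjφ.bijective_of_nat_card_le hcard
    obtain ⟨k, hk⟩ := hφsurj ⟨y, hy⟩
    refine ⟨⟨(k : H), (k : H), k.2, rfl⟩, congrArg Subtype.val hk, ?_⟩
    rintro ⟨_, k', hk', rfl⟩ e
    have e2 : φ ⟨k', hk'⟩ = φ k := Subtype.ext (e.trans (congrArg Subtype.val hk).symm)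
    exact Subtype.ext (congrArg (fun z : K => ((z : H) : G)) (hφinj e2))

theorem normal_transitive {N : Subgroup G} [N.Normal] (hN : N ≠ ⊥) (c d : Ω) :
    ∃ n ∈ N, n • c = d := by
  by_cases hcd : c = d
  · exact ⟨1, N.one_mem, by rw [one_smul, hcd]⟩
  obtain ⟨n, hn, hn1⟩ := (Subgroup.bot_or_exists_ne_one N).resolve_left hN
  obtain ⟨x, hx⟩ : ∃ x : Ω, n • x ≠ x := by
    by_contra h
    push Not at h
    have := hT.faithful
    exact hn1 (FaithfulSMul.eq_of_smul_eq_smul (α := Ω) fun x => by rw [h x, one_smul])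
  obtain ⟨g, hgx, hgy⟩ := hT.pairs (Ne.symm hx) hcd
  exact ⟨g * n * g⁻¹, Subgroup.Normal.conj_mem inferInstance n hn g,
    by rw [mul_smul, mul_smul, ← hgx, inv_smul_smul, hgy]⟩

/-- A normal subgroup with non-trivial point stabilisers contains an element fixing two points. -/
theorem normal_fix_two [Finite G]
    (hreg : ∀ M : Subgroup G, M.Normal → IsPretransitive M Ω → ∃ a : Ω, stabilizer M a ≠ ⊥)
    {N : Subgroup G} [hNn : N.Normal] (hN : N ≠ ⊥) :
    ∃ n ∈ N, n ≠ 1 ∧ ∃ x y : Ω, x ≠ y ∧ n • x = x ∧ n • y = y := by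
  classical
  by_contra hcon
  push Not at hcon
  have htr : IsPretransitive N Ω :=
    ⟨fun c d => by obtain ⟨n, hn, e⟩ := hT.normal_transitive hN c d; exact ⟨⟨n, hn⟩, e⟩⟩
  obtain ⟨a, ha⟩ := hreg N inferInstance htr
  let D : Subgroup N := stabilizer N a
  obtain ⟨b, hba, -⟩ := hT.exists_third a a
  have hDtop : D ≠ ⊤ := fun e => by
    obtain ⟨n, hn, hnb⟩ := hT.normal_transitive hN a b
    have : (⟨n, hn⟩ : N) ∈ D := e ▸ Subgroup.mem_top _
    exact hba (hnb.symm.trans this)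
  have hconjD : ∀ g k : N, k ∈ MulAut.conj g • D ↔ (k : G) • ((g : G) • a) = (g : G) • a := by
    intro g k
    rw [Subgroup.mem_pointwise_smul_iff_inv_smul_mem,
      show (MulAut.conj g)⁻¹ • k = g⁻¹ * k * g by simp]
    show ((g : G)⁻¹ * (k : G) * (g : G)) • a = a ↔ _
    rw [mul_smul, mul_smul, inv_smul_eq_iff]
  have hfrob : Cfsg.IsFrobeniusComplement D := by
    refine ⟨ha, hDtop, fun g hg => eq_bot_iff.mpr ?_⟩
    rintro x ⟨hx, hx₂⟩
    refine (Subgroup.mem_bot).mpr (Subtype.ext ?_)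
    by_contra hx1
    exact hcon (x : G) x.2 hx1 a ((g : G) • a) (fun e => hg e.symm) hx ((hconjD g x).mp hx₂)
  obtain ⟨K, hKset, -, hKcompl⟩ := S0035.result D hfrob
  have hKmem : ∀ k : N, k ∈ K ↔ k = 1 ∨ ∀ x : Ω, (k : G) • x ≠ x := by
    intro k
    rw [← SetLike.mem_coe, hKset]
    show (k = 1 ∨ ∀ g : N, k ∉ MulAut.conj g • D) ↔ _
    refine or_congr_right ⟨fun hno x e => ?_, fun h g hk => h _ ((hconjD g k).mp hk)⟩
    obtain ⟨n, hn, rfl⟩ := hT.normal_transitive hN a x
    exact hno ⟨n, hn⟩ ((hconjD _ k).mpr e)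
  set M := K.map N.subtype
  have hMn : M.Normal := ⟨by
    rintro _ ⟨k, hk, rfl⟩ g
    refine ⟨⟨g * k * g⁻¹, hNn.conj_mem k k.2 g⟩, (hKmem _).mpr ?_, rfl⟩
    rcases (hKmem k).mp hk with rfl | h
    · exact Or.inl (Subtype.ext (by simp))
    · refine Or.inr fun x e => h (g⁻¹ • x) ?_
      rw [eq_inv_smul_iff, ← mul_smul, ← mul_smul]
      exact e⟩
  have hMt : IsPretransitive M Ω := by
    have hbase : ∀ x : Ω, ∃ m : M, m • a = x := by
      intro x
      obtain ⟨n, hn, rfl⟩ := hT.normal_transitive hN a x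
      obtain ⟨⟨k, d⟩, e⟩ := hKcompl.2 ⟨n, hn⟩
      refine ⟨⟨(k : N), (k : N), k.2, rfl⟩, ?_⟩
      show ((k : N) : G) • a = n • a
      have e' : n = ((k : N) : G) * ((d : N) : G) := (congrArg Subtype.val e).symm
      rw [e', mul_smul, show ((d : N) : G) • a = a from d.2]
    refine ⟨fun x y => ?_⟩
    obtain ⟨m, rfl⟩ := hbase x
    obtain ⟨m', rfl⟩ := hbase y
    exact ⟨m' * m⁻¹, by rw [mul_smul, inv_smul_smul]⟩
  obtain ⟨x, hx⟩ := hreg M hMn hMt
  refine hx (eq_bot_iff.mpr ?_)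
  rintro ⟨_, k, hk, rfl⟩ hkx
  rcases (hKmem k).mp hk with rfl | h
  · exact (Subgroup.mem_bot).mpr (Subtype.ext rfl)
  · exact absurd hkx (h x)

/-- A non-trivial normal subgroup contains the Frobenius kernels of the point stabilisers. -/
theorem kernel_le [Finite G]
    (hreg : ∀ M : Subgroup G, M.Normal → IsPretransitive M Ω → ∃ a : Ω, stabilizer M a ≠ ⊥)
    {N : Subgroup G} [hNn : N.Normal] (hN : N ≠ ⊥) {a : Ω} {Q : Subgroup G}
    (hQa : Q ≤ stabilizer G a) (hQn : ∀ h ∈ stabilizer G a, ∀ x ∈ Q, h * x * h⁻¹ ∈ Q)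
    (hQreg : ∀ b c : Ω, b ≠ a → c ≠ a → ∃! x : Q, (x : G) • b = c) : Q ≤ N := by
  obtain ⟨n, hn, hn1, x, y, hxy, hx, hy⟩ := hT.normal_fix_two hreg hN
  obtain ⟨b, hba, -⟩ := hT.exists_third a a
  obtain ⟨g, hgx, hgy⟩ := hT.pairs hxy hba.symm
  obtain ⟨h, hdef⟩ : ∃ h, h = g * n * g⁻¹ := ⟨_, rfl⟩
  have hhN : h ∈ N := hdef ▸ hNn.conj_mem n hn g
  have hh1 : h ≠ 1 := fun e => hn1 (by simpa [hdef, mul_inv_eq_one, mul_eq_left] using e)
  have hha : h • a = a := by rw [hdef, mul_smul, mul_smul, ← hgx, inv_smul_smul, hx]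
  have hhb : h • b = b := by rw [hdef, mul_smul, mul_smul, ← hgy, inv_smul_smul, hy]
  let φ : Q → Q := fun q => ⟨q * (h * q⁻¹ * h⁻¹), Q.mul_mem q.2 (hQn h hha _ (Q.inv_mem q.2))⟩
  have hinj : Function.Injective φ := by
    intro q q' e
    have e1 : (q : G) * (h * (q : G)⁻¹ * h⁻¹) = q' * (h * (q' : G)⁻¹ * h⁻¹) := congrArg Subtype.val e
    have hc : h * ((q' : G)⁻¹ * q) = ((q' : G)⁻¹ * q) * h := by
      have e2 := congrArg (fun z => (q' : G)⁻¹ * z * h * q) e1
      simp [mul_assoc] at e2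
      rw [mul_assoc, e2]
    have hcQ := Q.mul_mem (Q.inv_mem q'.2) q.2
    set c := (q' : G)⁻¹ * q
    have hfix : h • (c • b) = c • b := by rw [← mul_smul, hc, mul_smul, hhb]
    by_cases hcb : c • b = b
    · have := (hQreg b b hba hba).unique (y₁ := ⟨c, hcQ⟩) (y₂ := 1) hcb
        (by simp)
      exact (Subtype.ext (inv_mul_eq_one.mp (congrArg Subtype.val this))).symm
    · refine absurd (hT.three h a b (c • b) hba.symm (Ne.symm hcb) ?_ hha hhb hfix) hh1
      exact fun e3 => hba (MulAction.injective c (e3.symm.trans (hQa hcQ).symm))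
  intro x hx'
  obtain ⟨q, hq⟩ := Finite.surjective_of_injective hinj ⟨x, hx'⟩
  have e : x = (q : G) * h * (q : G)⁻¹ * h⁻¹ := by
    have e' : (q : G) * (h * (q : G)⁻¹ * h⁻¹) = x := congrArg Subtype.val hq
    rw [← e']
    simp [mul_assoc]
  rw [e]
  exact N.mul_mem (hNn.conj_mem h hhN q) (N.inv_mem hhN)

/-- Every non-trivial normal subgroup is again three-free. -/
theorem normal_threeFree [Finite G]
    (hreg : ∀ M : Subgroup G, M.Normal → IsPretransitive M Ω → ∃ a : Ω, stabilizer M a ≠ ⊥)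
    {N : Subgroup G} [N.Normal] (hN : N ≠ ⊥) : IsThreeFree N Ω := by
  have hf := hT.faithful
  refine ⟨⟨fun {n m} h => Subtype.ext (FaithfulSMul.eq_of_smul_eq_smul (α := Ω) h)⟩, ?_,
    fun g a b c h1 h2 h3 ha hb hc => Subtype.ext (hT.three (g : G) a b c h1 h2 h3 ha hb hc), ?_⟩
  · rw [is_two_pretransitive_iff]
    intro x y z w hxy hzw
    obtain ⟨n, hn, hnx⟩ := hT.normal_transitive hN x z
    obtain ⟨Q, hQa, hQn, -, hQreg⟩ := hT.exists_kernel z
    have hne : n • y ≠ z := fun e => hxy (MulAction.injective n (hnx.trans e.symm))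
    obtain ⟨q, hq, -⟩ := hQreg (n • y) w hne hzw.symm
    refine ⟨⟨(q : G) * n, N.mul_mem (hT.kernel_le hreg hN hQa hQn hQreg q.2) hn⟩, ?_, ?_⟩
    · show ((q : G) * n) • x = z
      rw [mul_smul, hnx]; exact hQa q.2
    · show ((q : G) * n) • y = w
      rw [mul_smul]; exact hq
  · obtain ⟨n, hn, hn1, h⟩ := hT.normal_fix_two hreg hN
    exact ⟨⟨n, hn⟩, fun e => hn1 (congrArg Subtype.val e), h⟩

/-- A regular normal subgroup has exponent two. -/
theorem regular_exponent_two {M : Subgroup G} [hMn : M.Normal] (hMt : IsPretransitive M Ω)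
    (hMr : ∀ a : Ω, stabilizer M a = ⊥) : ∀ x ∈ M, x * x = 1 := by
  intro x hx
  by_cases hx1 : x = 1
  · rw [hx1, one_mul]
  obtain ⟨a, -, -⟩ : ∃ a : Ω, a = a ∧ True := by
    obtain ⟨g, -, a, -⟩ := hT.two
    exact ⟨a, rfl, trivial⟩
  have hinj : ∀ n ∈ M, ∀ m ∈ M, n • a = m • a → n = m := by
    intro n hn m hm e
    have : (⟨m⁻¹ * n, M.mul_mem (M.inv_mem hm) hn⟩ : M) ∈ stabilizer M a := by
      show (m⁻¹ * n) • a = a
      rw [mul_smul, e, inv_smul_smul]
    rw [hMr a, Subgroup.mem_bot] at this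
    exact (inv_mul_eq_one.mp (congrArg Subtype.val this)).symm
  have hxa : x • a ≠ a := fun e => hx1 (hinj x hx 1 M.one_mem (by rw [one_smul, e]))
  obtain ⟨d, hd1, hda, hdb⟩ := hT.exists_fix_pair (Ne.symm hxa)
  have hcom : ∀ n ∈ M, Commute d n → n = 1 ∨ n = x := by
    intro n hn hc
    by_contra hcon
    push Not at hcon
    refine hd1 (hT.three d a (x • a) (n • a) (Ne.symm hxa) ?_ ?_ hda hdb ?_)
    · exact fun e => hcon.2 (hinj n hn x hx e.symm)
    · exact fun e => hcon.1 (hinj n hn 1 M.one_mem (by rw [one_smul, ← e]))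
    · rw [← mul_smul, hc.eq, mul_smul, hda]
  have hdx : Commute d x := by
    have h1 : d * x * d⁻¹ = x := hinj _ (hMn.conj_mem x hx d) x hx (by
      rw [mul_smul, mul_smul, inv_smul_eq_iff.mpr hda.symm, hdb])
    exact mul_inv_eq_iff_eq_mul.mp h1
  rcases hcom (x * x) (M.mul_mem hx hx) (hdx.mul_right hdx) with e | e
  · exact e
  · exact absurd (mul_eq_right.mp e) hx1

/-- In odd degree a Zassenhaus group carries a rank-one set-up with semiregular `D`. -/
theorem exists_setup [Finite G] [Finite Ω] (hodd : Odd (Nat.card Ω)) (a : Ω) :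
    ∃ (t : G) (Q : Subgroup G), Cfsg.IsRankOneSetup G Ω a t Q := by
  classical
  obtain ⟨Q, hQa, hQn, hQmem, hQreg⟩ := hT.exists_kernel a
  obtain ⟨b, hba, -⟩ := hT.exists_third a a
  have hcard : Nat.card Ω = Nat.card Q + 1 := by
    let φ : Option Q → Ω := fun o => o.elim a (fun q => (q : G) • b)
    have hne : ∀ q : Q, (q : G) • b ≠ a := fun q e =>
      hba (MulAction.injective (q : G) (e.trans (show (q : G) • a = a from hQa q.2).symm))
    have hbij : Function.Bijective φ := by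
      refine ⟨?_, fun c => ?_⟩
      · rintro (_ | q) (_ | q') e
        · rfl
        · exact absurd e.symm (hne q')
        · exact absurd e (hne q)
        · exact congrArg some ((hQreg b _ hba (hne q')).unique e rfl)
      · by_cases hc : c = a
        · exact ⟨none, hc.symm⟩
        · obtain ⟨q, hq, -⟩ := hQreg b c hba hc
          exact ⟨some q, hq⟩
    rw [← Nat.card_eq_of_bijective φ hbij, Finite.card_option]
  have hQeven : Even (Nat.card Q) := by
    obtain ⟨k, hk⟩ := hodd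
    exact ⟨k, by omega⟩
  set D := stabilizer G a ⊓ stabilizer G b
  have hDodd : Odd (Nat.card D) := by
    by_contra h
    have : Fact (Nat.Prime 2) := ⟨Nat.prime_two⟩
    obtain ⟨d, hd⟩ := exists_prime_orderOf_dvd_card' (G := D) 2
      (even_iff_two_dvd.mp (Nat.not_odd_iff_even.mp h))
    rw [← Subgroup.orderOf_coe] at hd
    have hd1 : (d : G) ≠ 1 := fun e => by rw [e, orderOf_one] at hd; omega
    have hd2 : (d : G) * d = 1 := by rw [← pow_two, ← hd, pow_orderOf_eq_one]
    let σ : Q → Q := fun q => ⟨(d : G) * q * (d : G)⁻¹, hQn _ d.2.1 _ q.2⟩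
    have hσ : ∀ q, σ (σ q) = q := fun q => Subtype.ext (by
      show (d : G) * ((d : G) * q * (d : G)⁻¹) * (d : G)⁻¹ = q
      calc (d : G) * ((d : G) * q * (d : G)⁻¹) * (d : G)⁻¹
          = ((d : G) * d) * q * ((d : G) * d)⁻¹ := by simp [mul_assoc]
        _ = q := by rw [hd2]; simp)
    have hfix : ∀ q : Q, σ q = q ↔ q = 1 := by
      refine fun q => ⟨fun e => ?_, fun e => e ▸ Subtype.ext (by simp [σ])⟩
      have e1 : (d : G) * q = q * d := mul_inv_eq_iff_eq_mul.mp (congrArg Subtype.val e)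
      by_cases hqb : (q : G) • b = b
      · exact (hQreg b b hba hba).unique hqb (by simp)
      · refine absurd (hT.three (d : G) a b ((q : G) • b) hba.symm (Ne.symm hqb) ?_ d.2.1 d.2.2 ?_) hd1
        · exact fun e2 => hba (MulAction.injective (q : G)
            (e2.symm.trans (show (q : G) • a = a from hQa q.2).symm))
        · rw [← mul_smul, e1, mul_smul, show (d : G) • b = b from d.2.2]
    letI : Fintype Q := Fintype.ofFinite _
    have hpar := Equiv.Perm.card_fixedPoints_modEq (p := 2) (n := 1) (f := (σ : Function.End Q))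
      (funext fun q => hσ q)
    have hone : Fintype.card (Function.fixedPoints (σ : Function.End Q)) = 1 :=
      Fintype.card_eq_one_iff.mpr ⟨⟨1, (hfix 1).mpr rfl⟩, fun y =>
        Subtype.ext ((hfix (y : Q)).mp y.2)⟩
    rw [hone, ← Nat.card_eq_fintype_card] at hpar
    rw [Nat.ModEq] at hpar
    have := Nat.even_iff.mp hQeven
    omega
  -- the involution swapping `a` and `b`
  obtain ⟨g, hga, hgb⟩ := hT.pairs hba.symm hba
  obtain ⟨k, m, hm, hn⟩ := Nat.exists_eq_two_pow_mul_odd (orderOf_pos g).ne'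
  obtain ⟨j, rfl⟩ := hm
  have hsq : ∀ i : ℕ, g ^ (2 * i) ∈ D := by
    intro i
    rw [pow_mul]
    exact pow_mem (show g ^ 2 ∈ D from
      ⟨by show g ^ 2 • a = a; rw [pow_two, mul_smul, hga, hgb],
        by show g ^ 2 • b = b; rw [pow_two, mul_smul, hgb, hga]⟩) i
  set u := g ^ (2 * j + 1)
  have hua : u • a = b := by
    rw [show u = g ^ (2 * j) * g from pow_succ g _, mul_smul, hga]
    exact (hsq j).2
  have hu2 : u * u = 1 := by
    have hmem : u * u ∈ D := by
      rw [show u * u = g ^ (2 * (2 * j + 1)) by rw [two_mul, pow_add]]; exact hsq _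
    have hord : (u * u) ^ (2 ^ k) = 1 := by
      rw [← pow_two, ← pow_mul, ← pow_mul,
        show (2 * j + 1) * (2 * 2 ^ k) = orderOf g * 2 by rw [hn]; ring,
        pow_mul, pow_orderOf_eq_one, one_pow]
    have hcop : (orderOf (u * u)).Coprime (orderOf (u * u)) :=
      Nat.Coprime.coprime_dvd_left (orderOf_dvd_of_pow_eq_one hord)
        (((Nat.coprime_two_left.mpr hDodd).pow_left k).coprime_dvd_right (D.orderOf_dvd_natCard hmem))
    exact orderOf_eq_one_iff.mp ((Nat.coprime_self _).mp hcop)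
  refine ⟨u, Q, hT.two_transitive, hu2, fun e => ?_, fun e => hba (hua.symm.trans e), hQa, hQn,
    ?_, ?_, hQeven, ?_⟩
  · rw [e, one_smul] at hua
    exact hba hua.symm
  · rw [hua, eq_bot_iff]
    rintro x ⟨hx, hxb⟩
    exact (Subgroup.mem_bot).mpr (congrArg Subtype.val
      ((hQreg b b hba hba).unique (y₁ := ⟨x, hx⟩) (y₂ := 1) hxb (by simp)))
  · rw [hua]
    refine le_antisymm (sup_le hQa inf_le_left) fun x hx => ?_
    have hxb : x • b ≠ a := fun e =>
      hba (MulAction.injective x (e.trans (show x • a = a from hx).symm))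
    obtain ⟨q, hq, -⟩ := hQreg b (x • b) hba hxb
    rw [← mul_inv_cancel_left (q : G) x]
    refine Subgroup.mul_mem_sup q.2
      ⟨(stabilizer G a).mul_mem ((stabilizer G a).inv_mem (hQa q.2)) hx, ?_⟩
    show ((q : G)⁻¹ * x) • b = b
    rw [mul_smul, ← hq, inv_smul_smul]
  · rw [hua]; exact hDodd

/-- In a rank-one set-up of a three-free group every element of `D` is inverted by `t`. -/
theorem twoPt_inverted [Finite G] {a : Ω} {t : G} {Q : Subgroup G}
    (hS : Cfsg.IsRankOneSetup G Ω a t Q) :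
    ∀ d ∈ twoPt G a t, d ∈ Cfsg.invertedBy (twoPt G a t) t := by
  classical
  obtain ⟨s, hs⟩ : ∃ s, s ∈ Cfsg.involutionsIn (stabilizer G a : Set G) := by
    have : Fact (Nat.Prime 2) := ⟨Nat.prime_two⟩
    obtain ⟨x, hx⟩ := exists_prime_orderOf_dvd_card' (G := Q) 2 (even_iff_two_dvd.mp hS.even_card)
    rw [← Subgroup.orderOf_coe] at hx
    exact ⟨x, hS.le x.2, fun e => by rw [e, orderOf_one] at hx; omega,
      by rw [← pow_two, ← hx, pow_orderOf_eq_one]⟩
  intro d hd
  obtain ⟨c, hc, e⟩ := exists_conj_invertedBy hS hs (conj_I hS hs (twoPt_le hd))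
  -- `d c⁻¹` centralises `s`, hence fixes three points
  have hdc : Commute (d * c⁻¹) s := by
    show d * c⁻¹ * s = s * (d * c⁻¹)
    calc d * c⁻¹ * s = d * (c⁻¹ * s * c) * c⁻¹ := by simp [mul_assoc]
      _ = s * (d * c⁻¹) := by rw [e]; simp [mul_assoc]
  have hmem : d * c⁻¹ ∈ twoPt G a t := mul_mem hd (inv_mem hc.1)
  have hsb : s • (t • a) ≠ t • a := fun e' => t_smul_ne hS (I_fixes_only hS hs e')
  have h1 : d * c⁻¹ = 1 := by
    refine hT.three _ a (t • a) (s • (t • a)) (t_smul_ne hS).symm hsb.symm ?_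
      (mem_twoPt.mp hmem).1 (mem_twoPt.mp hmem).2 ?_
    · exact (Q_smul_ne hS (mem_I_Q hS hs) (t_smul_ne hS)).symm
    · rw [← mul_smul, hdc.eq, mul_smul, (mem_twoPt.mp hmem).2]
  rw [mul_inv_eq_one.mp h1]
  exact hc

end IsThreeFree

end Cfsg.Agent.RankOne
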