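import Mathlib

/-!
Additive maps, biadditive maps and quadratic maps of a finite field of characteristic two are
combinations of field automorphisms.
-/

set_option autoImplicit false

namespace Cfsg.Agent.RankOne

variable {F : Type*} [Field F]

theorem autFun_linearIndependent :
    LinearIndependent F (fun σ : F ≃+* F => ((σ : F →+* F) : F → F)) :=
  (linearIndependent_monoidHom F F).comp
    (fun σ : F ≃+* F => ((σ : F →+* F) : F →* F))
    (fun σ τ h => RingEquiv.ext fun x => DFunLike.congr_fun h x)

variable [Fintype F] [CharP F 2]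

theorem card_ringAut_eq_finrank [Algebra (ZMod 2) F] :
    Nat.card (F ≃+* F) = Module.finrank (ZMod 2) F := by
  have e : (F ≃ₐ[ZMod 2] F) ≃ (F ≃+* F) :=
    { toFun := fun σ => σ.toRingEquiv
      invFun := fun σ => AlgEquiv.ofRingEquiv (f := σ) (fun c => by
        exact RingHom.congr_fun
          (RingHom.ext_zmod ((σ : F →+* F).comp (algebraMap (ZMod 2) F)) (algebraMap (ZMod 2) F)) c)
      left_inv := fun σ => AlgEquiv.ext fun _ => rfl
      right_inv := fun σ => RingEquiv.ext fun _ => rfl }
  rw [← Nat.card_congr e, IsGalois.card_aut_eq_finrank]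

theorem exists_additive_expand [Fintype (F ≃+* F)] (f : F →+ F) :
    ∃ c : (F ≃+* F) → F, ∀ x : F, f x = ∑ σ, c σ * σ x := by
  classical
  letI : Algebra (ZMod 2) F := ZMod.algebra F 2
  let v : (F ≃+* F) → (F →ₗ[ZMod 2] F) :=
    fun σ => (σ : F →+* F).toAddMonoidHom.toZModLinearMap 2
  have hv : LinearIndependent F v := by
    refine LinearIndependent.of_comp (LinearMap.ltoFun (ZMod 2) F F F) ?_
    exact autFun_linearIndependent
  have hspan := hv.span_eq_top_of_card_eq_finrank (by
    rw [Module.finrank_linearMap_self, ← Nat.card_eq_fintype_card, card_ringAut_eq_finrank])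
  obtain ⟨c, hc⟩ := Submodule.mem_span_range_iff_exists_fun F |>.mp
    (hspan ▸ Submodule.mem_top : f.toZModLinearMap 2 ∈ Submodule.span F (Set.range v))
  refine ⟨c, fun x => ?_⟩
  have := LinearMap.congr_fun hc x
  simpa [v] using this.symm

omit [CharP F 2] in
theorem expand_unique [Fintype (F ≃+* F)] {c d : (F ≃+* F) → F}
    (h : ∀ x : F, ∑ σ, c σ * σ x = ∑ σ, d σ * σ x) : c = d := by
  have hli := Fintype.linearIndependent_iff.mp (autFun_linearIndependent (F := F)) (c - d) (by
    funext x
    simp only [Finset.sum_apply, Pi.smul_apply, Pi.sub_apply, smul_eq_mul, sub_mul,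
      Finset.sum_sub_distrib, Pi.zero_apply, sub_eq_zero]
    exact h x)
  exact funext fun σ => sub_eq_zero.mp (hli σ)

theorem exists_biadditive_expand [Fintype (F ≃+* F)] (B : F →+ F →+ F) :
    ∃ c : (F ≃+* F) × (F ≃+* F) → F, ∀ x y : F, B x y = ∑ p, c p * (p.1 x * p.2 y) := by
  classical
  choose c hc using fun y : F => exists_additive_expand (B.flip y)
  have hadd : ∀ y z : F, c (y + z) = c y + c z := by
    intro y z
    refine expand_unique fun x => ?_
    simp only [Pi.add_apply, add_mul, Finset.sum_add_distrib]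
    rw [← hc, ← hc, ← hc, map_add, AddMonoidHom.add_apply]
  choose d hd using fun σ : F ≃+* F =>
    exists_additive_expand (AddMonoidHom.mk' (fun y => c y σ) (fun y z => by simp [hadd]))
  refine ⟨fun p => d p.1 p.2, fun x y => ?_⟩
  calc B x y = ∑ σ, c y σ * σ x := hc y x
    _ = ∑ σ, ∑ τ, d σ τ * (σ x * τ y) := by
        refine Finset.sum_congr rfl fun σ _ => ?_
        rw [show c y σ = ∑ τ, d σ τ * τ y from hd σ y, Finset.sum_mul]
        exact Finset.sum_congr rfl fun τ _ => by ring
    _ = ∑ p : (F ≃+* F) × (F ≃+* F), d p.1 p.2 * (p.1 x * p.2 y) :=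
        (Fintype.sum_prod_type
          (fun p : (F ≃+* F) × (F ≃+* F) => d p.1 p.2 * (p.1 x * p.2 y))).symm

theorem exists_quadratic_expand [Fintype (F ≃+* F)] (q : F → F)
    (hq : ∀ x y z : F, q (x + y + z) + q (x + y) + q (x + z) + q (y + z) + q x + q y + q z = 0) :
    ∃ c : (F ≃+* F) × (F ≃+* F) → F, ∀ x : F, q x = ∑ p, c p * (p.1 x * p.2 x) := by
  classical
  letI : Algebra (ZMod 2) F := ZMod.algebra F 2
  let b := Module.finBasis (ZMod 2) F
  have h20 : ∀ r : F, r + r = 0 := CharTwo.add_self_eq_zero
  have hq0 : q 0 = 0 := by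
    have := hq 0 0 0
    simp only [h20, zero_add] at this
    exact this
  let P : F → F → F := fun x y => q (x + y) + q x + q y
  have hP : ∀ x y z, P (x + y) z = P x z + P y z := by
    intro x y z
    have h1 := hq x y z
    simp only [P]
    have e : q (x + y + z) + q (x + y) + q z = q (x + z) + q (y + z) + q x + q y := by
      rw [← CharTwo.add_eq_zero, ← h1]
      ring
    rw [e]
    have := h20 (q z)
    linear_combination (-1 : F) * this
  have hPc : ∀ x y, P x y = P y x := by intro x y; simp only [P, add_comm x y]; ring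
  let Bh : F →+ F →+ F :=
    AddMonoidHom.mk' (fun x => AddMonoidHom.mk' (fun y => P x y)
      (fun y z => by rw [hPc, hP, hPc y x, hPc z x]))
      (fun x y => AddMonoidHom.ext fun z => hP x y z)
  let β : F →ₗ[ZMod 2] F →ₗ[ZMod 2] F := b.constr (ZMod 2) fun i => b.constr (ZMod 2) fun j =>
    if i < j then P (b i) (b j) else if i = j then q (b i) else 0
  have hβ : ∀ i j, β (b i) (b j) =
      if i < j then P (b i) (b j) else if i = j then q (b i) else 0 := by
    intro i j
    simp only [β, Module.Basis.constr_basis]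
  have hsum : ∀ x y, P x y = β x y + β y x := by
    let L : F →ₗ[ZMod 2] F →ₗ[ZMod 2] F := β + β.flip
    let R : F →ₗ[ZMod 2] F →ₗ[ZMod 2] F :=
      (AddMonoidHom.mk' (fun x => (Bh x).toZModLinearMap 2)
        (fun x y => LinearMap.ext fun z => by simp)).toZModLinearMap 2
    have hRL : R = L := by
      refine b.ext fun i => b.ext fun j => ?_
      show P (b i) (b j) = β (b i) (b j) + β (b j) (b i)
      rcases lt_trichotomy i j with h | rfl | h
      · simp [hβ, h, not_lt.mpr h.le, h.ne']
      · simp only [hβ, lt_irrefl, if_false, if_true, P, h20, hq0, zero_add]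
      · simp [hβ, h, not_lt.mpr h.le, h.ne', hPc (b i)]
    intro x y
    exact LinearMap.congr_fun (LinearMap.congr_fun hRL x) y
  let d : F →+ F := AddMonoidHom.mk' (fun x => q x + β x x) (fun x y => by
    have h := hsum x y
    simp only [P] at h
    simp only [map_add, LinearMap.add_apply]
    have h1 := h20 (q x)
    have h2 := h20 (q y)
    have h3 := h20 (β x y)
    have h4 := h20 (β y x)
    linear_combination h - h1 - h2 + h3 + h4)
  have hd : d.toZModLinearMap 2 = 0 := by
    refine b.ext fun i => ?_
    show q (b i) + β (b i) (b i) = 0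
    rw [hβ, if_neg (lt_irrefl i), if_pos rfl, h20]
  obtain ⟨c, hc⟩ := exists_biadditive_expand
    (AddMonoidHom.mk' (fun x => (β x).toAddMonoidHom) (fun x y => AddMonoidHom.ext fun z => by simp))
  refine ⟨c, fun x => ?_⟩
  rw [← hc x x]
  have h : q x + β x x = 0 := LinearMap.congr_fun hd x
  exact CharTwo.add_eq_zero.mp h

end Cfsg.Agent.RankOne
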