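import Cfsg.Prelude.Def_LieExceptional

/-!
The Suzuki–Tits ovoid: translations, the inversion swapping the two base points, tangent planes and
their uniqueness.
-/

set_option autoImplicit false

open Matrix

namespace Cfsg.Agent.RankOne.Ovoid

variable {F : Type*} [Field F] {m : ℕ}

/-- The point at infinity. -/
def vInf (F : Type*) [Field F] : Fin 4 → F := ![1, 0, 0, 0]

/-- A finite point of the ovoid. -/
def vPt (m : ℕ) (x y : F) : Fin 4 → F :=
  ![x * y + x ^ (2 ^ (m + 1) + 2) + y ^ (2 ^ (m + 1)), y, x, 1]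

/-- A representative of an ovoid point. -/
def OnOvoid (m : ℕ) (v : Fin 4 → F) : Prop :=
  ∃ c : F, c ≠ 0 ∧ (v = c • vInf F ∨ ∃ x y : F, v = c • vPt m x y)

/-- The alternating form. -/
def B (u v : Fin 4 → F) : F := u 0 * v 3 + u 1 * v 2 + u 2 * v 1 + u 3 * v 0

theorem vPt_three (x y : F) : vPt m x y 3 = 1 := rfl
theorem vPt_two (x y : F) : vPt m x y 2 = x := rfl
theorem vPt_one (x y : F) : vPt m x y 1 = y := rfl
theorem vPt_zero (x y : F) :
    vPt m x y 0 = x * y + x ^ (2 ^ (m + 1) + 2) + y ^ (2 ^ (m + 1)) := rfl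

theorem vPt_ne_zero (x y : F) : vPt m x y ≠ 0 := fun h => one_ne_zero (α := F) (congrFun h 3)

theorem vInf_ne_zero : vInf F ≠ 0 := fun h => one_ne_zero (α := F) (congrFun h 0)

theorem onOvoid_inf : OnOvoid m (vInf F) := ⟨1, one_ne_zero, Or.inl (one_smul F _).symm⟩

theorem onOvoid_pt (x y : F) : OnOvoid m (vPt m x y) :=
  ⟨1, one_ne_zero, Or.inr ⟨x, y, (one_smul F _).symm⟩⟩

theorem onOvoid_smul {v : Fin 4 → F} (hv : OnOvoid m v) {c : F} (hc : c ≠ 0) :
    OnOvoid m (c • v) := by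
  obtain ⟨d, hd, rfl | ⟨x, y, rfl⟩⟩ := hv
  · exact ⟨c * d, mul_ne_zero hc hd, Or.inl (smul_smul c d _)⟩
  · exact ⟨c * d, mul_ne_zero hc hd, Or.inr ⟨x, y, smul_smul c d _⟩⟩

theorem B_comm (u v : Fin 4 → F) : B u v = B v u := by simp only [B]; ring

theorem B_smul_left (c : F) (u v : Fin 4 → F) : B (c • u) v = c * B u v := by
  simp only [B, Pi.smul_apply, smul_eq_mul]; ring

theorem B_smul_right (c : F) (u v : Fin 4 → F) : B u (c • v) = c * B u v := by
  simp only [B, Pi.smul_apply, smul_eq_mul]; ring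

theorem B_add_right (u v w : Fin 4 → F) : B u (v + w) = B u v + B u w := by
  simp only [B, Pi.add_apply]; ring

theorem B_add_left (u v w : Fin 4 → F) : B (u + v) w = B u w + B v w := by
  simp only [B, Pi.add_apply]; ring

/-- `B` as a linear functional in the second variable. -/
def BLin (u : Fin 4 → F) : (Fin 4 → F) →ₗ[F] F where
  toFun := B u
  map_add' := B_add_right u
  map_smul' c v := B_smul_right c u v

theorem mem_suzukiOvoid {v : Fin 4 → F} (hv : v ≠ 0) :
    Projectivization.mk F v hv ∈ Cfsg.suzukiOvoid F m ↔ OnOvoid m v := by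
  constructor
  · rintro ⟨w, hw, e, h⟩
    obtain ⟨c, hc⟩ := (Projectivization.mk_eq_mk_iff F v w hv hw).mp e
    rw [← hc, Units.smul_def]
    refine onOvoid_smul ?_ c.ne_zero
    rcases h with rfl | ⟨x, y, rfl⟩
    · exact onOvoid_inf
    · exact onOvoid_pt x y
  · rintro ⟨c, hc, rfl | ⟨x, y, rfl⟩⟩
    · exact ⟨vInf F, vInf_ne_zero, (Projectivization.mk_eq_mk_iff' F _ _ hv vInf_ne_zero).mpr
        ⟨c, rfl⟩, Or.inl rfl⟩
    · exact ⟨vPt m x y, vPt_ne_zero x y, (Projectivization.mk_eq_mk_iff' F _ _ hv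
        (vPt_ne_zero x y)).mpr ⟨c, rfl⟩, Or.inr ⟨x, y, rfl⟩⟩

theorem card_ovoid [Fintype F] : Nat.card (Cfsg.suzukiOvoid F m) = Fintype.card F ^ 2 + 1 := by
  let φ : Option (F × F) → Cfsg.suzukiOvoid F m := fun o => o.elim
    ⟨Projectivization.mk F (vInf F) vInf_ne_zero, (mem_suzukiOvoid vInf_ne_zero).mpr onOvoid_inf⟩
    (fun p => ⟨Projectivization.mk F (vPt m p.1 p.2) (vPt_ne_zero p.1 p.2),
      (mem_suzukiOvoid (vPt_ne_zero p.1 p.2)).mpr (onOvoid_pt p.1 p.2)⟩)
  have key : ∀ {u w : Fin 4 → F} (hu : u ≠ 0) (hw : w ≠ 0),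
      Projectivization.mk F u hu = Projectivization.mk F w hw → ∃ a : F, a • w = u :=
    fun hu hw h => (Projectivization.mk_eq_mk_iff' F _ _ hu hw).mp h
  have hbij : Function.Bijective φ := by
    refine ⟨?_, ?_⟩
    · rintro (_ | ⟨x, y⟩) (_ | ⟨x', y'⟩) h
      · rfl
      · obtain ⟨a, ha⟩ := key _ _ (congrArg Subtype.val h)
        have h3 : a * 1 = 0 := congrFun ha 3
        rw [mul_one] at h3
        rw [h3, zero_smul] at ha
        exact absurd ha.symm vInf_ne_zero
      · obtain ⟨a, ha⟩ := key _ _ (congrArg Subtype.val h)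
        have h3 : a * 0 = 1 := congrFun ha 3
        rw [mul_zero] at h3
        exact absurd h3 zero_ne_one
      · obtain ⟨a, ha⟩ := key _ _ (congrArg Subtype.val h)
        have h3 : a * 1 = 1 := congrFun ha 3
        rw [mul_one] at h3
        rw [h3, one_smul] at ha
        have h2 : x' = x := congrFun ha 2
        have h1 : y' = y := congrFun ha 1
        rw [h1, h2]
    · rintro ⟨p, hp⟩
      induction p using Projectivization.ind with
      | h v hv =>
        obtain ⟨c, hc, rfl | ⟨x, y, rfl⟩⟩ := (mem_suzukiOvoid hv).mp hp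
        · exact ⟨none, Subtype.ext
            ((Projectivization.mk_eq_mk_iff' F _ _ hv vInf_ne_zero).mpr ⟨c, rfl⟩).symm⟩
        · exact ⟨some (x, y), Subtype.ext
            ((Projectivization.mk_eq_mk_iff' F _ _ hv (vPt_ne_zero x y)).mpr ⟨c, rfl⟩).symm⟩
  rw [← Nat.card_eq_of_bijective φ hbij, Finite.card_option, Nat.card_prod,
    Nat.card_eq_fintype_card, pow_two]

/-- `s` squares to the Frobenius map. -/
structure Good (F : Type*) [Field F] (m : ℕ) : Prop where
  two : (2 : F) = 0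
  add : ∀ x y : F, (x + y) ^ (2 ^ (m + 1)) = x ^ (2 ^ (m + 1)) + y ^ (2 ^ (m + 1))
  sq : ∀ x : F, (x ^ (2 ^ (m + 1))) ^ (2 ^ (m + 1)) = x ^ 2

theorem good_of_card [Fintype F] (hF : Fintype.card F = 2 ^ (2 * m + 1)) : Good F m := by
  have : Fact (Nat.Prime 2) := ⟨Nat.prime_two⟩
  have : CharP F 2 := charP_of_card_eq_prime_pow hF
  refine ⟨CharTwo.two_eq_zero, fun x y => add_pow_char_pow x y 2 (m + 1), fun x => ?_⟩
  rw [← pow_mul, ← pow_add, show m + 1 + (m + 1) = 2 * m + 1 + 1 by omega, pow_succ 2 (2 * m + 1),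
    pow_mul, ← hF, FiniteField.pow_card]

/-- The translation by `(a, b)`. -/
def transl (m : ℕ) (a b : F) : (Fin 4 → F) →ₗ[F] (Fin 4 → F) where
  toFun v := ![v 0 + a * v 1 + (b + a * a ^ (2 ^ (m + 1))) * v 2 + vPt m a b 0 * v 3,
    v 1 + a ^ (2 ^ (m + 1)) * v 2 + b * v 3, v 2 + a * v 3, v 3]
  map_add' u v := by
    funext i; fin_cases i <;> simp <;> ring
  map_smul' c v := by
    funext i; fin_cases i <;> simp <;> ring

theorem transl_B (hG : Good F m) (a b : F) (u v : Fin 4 → F) :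
    B (transl m a b u) (transl m a b v) = B u v := by
  have h2 := hG.two
  simp [B, transl]
  grind

theorem transl_inf (a b : F) : transl m a b (vInf F) = vInf F := by
  funext i; fin_cases i <;> simp [transl, vInf]

theorem transl_pt (hG : Good F m) (a b x y : F) :
    transl m a b (vPt m x y) = vPt m (x + a) (y + a ^ (2 ^ (m + 1)) * x + b) := by
  have h2 := hG.two
  have hmul : (a ^ (2 ^ (m + 1)) * x) ^ (2 ^ (m + 1)) = a ^ 2 * x ^ (2 ^ (m + 1)) := by
    rw [mul_pow, hG.sq]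
  funext i
  fin_cases i <;> simp [transl, vPt]
  rw [pow_add x (2 ^ (m + 1)) 2, pow_add (x + a) (2 ^ (m + 1)) 2, pow_add a (2 ^ (m + 1)) 2, hG.add,
    hG.add, hG.add, hmul]
  grind

theorem transl_zero_pt (hG : Good F m) (a b : F) : transl m a b (vPt m 0 0) = vPt m a b := by
  rw [transl_pt hG]; simp

/-- The inversion swapping the two base points. -/
def inver : (Fin 4 → F) →ₗ[F] (Fin 4 → F) where
  toFun v := ![v 3, v 2, v 1, v 0]
  map_add' u v := by funext i; fin_cases i <;> simp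
  map_smul' c v := by funext i; fin_cases i <;> simp

theorem inver_B (u v : Fin 4 → F) : B (inver u) (inver v) = B u v := by
  simp [B, inver]; ring

theorem inver_inver (v : Fin 4 → F) : inver (inver v) = v := by
  funext i; fin_cases i <;> simp [inver]

theorem vPt_zero_zero : vPt m (0 : F) 0 = ![0, 0, 0, 1] := by
  funext i; fin_cases i <;> simp [vPt]

theorem inver_zero : inver (vPt m (0 : F) 0) = vInf F := by
  rw [vPt_zero_zero]; funext i; fin_cases i <;> simp [inver, vInf]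

theorem inver_inf : inver (vInf F) = vPt m (0 : F) 0 := by
  rw [vPt_zero_zero]; funext i; fin_cases i <;> simp [inver, vInf]

theorem key_identity (hG : Good F m) (x y : F) :
    vPt m x y 0 * vPt m x y 0 ^ (2 ^ (m + 1)) =
      x * y * vPt m x y 0 ^ (2 ^ (m + 1)) + y ^ 2 * y ^ (2 ^ (m + 1)) +
        vPt m x y 0 ^ 2 * x ^ (2 ^ (m + 1)) := by
  have h2 := hG.two
  rw [vPt_zero, pow_add x _ 2, hG.add, hG.add, mul_pow, mul_pow, hG.sq, hG.sq,
    ← pow_mul x 2, mul_comm 2, pow_mul]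
  grind

theorem pt_zero_eq_zero (hG : Good F m) {x y : F} (h : vPt m x y 0 = 0) : x = 0 ∧ y = 0 := by
  have h0 := key_identity hG x y
  rw [h, zero_mul, zero_pow (two_ne_zero : 2 ≠ 0), zero_mul, add_zero,
    zero_pow (by positivity : 2 ^ (m + 1) ≠ 0), mul_zero, zero_add] at h0
  have hy : y = 0 := by
    rcases mul_eq_zero.mp h0.symm with h1 | h1 <;> exact eq_zero_of_pow_eq_zero h1
  subst hy
  rw [vPt_zero, mul_zero, zero_add, zero_pow (by positivity : 2 ^ (m + 1) ≠ 0), add_zero] at h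
  exact ⟨eq_zero_of_pow_eq_zero h, rfl⟩

theorem inver_pt (hG : Good F m) {x y : F} (hz : vPt m x y 0 ≠ 0) :
    inver (vPt m x y) = vPt m x y 0 • vPt m (y / vPt m x y 0) (x / vPt m x y 0) := by
  have hid := key_identity hG x y
  set z := vPt m x y 0 with hzdef
  have hzs : z ^ (2 ^ (m + 1)) ≠ 0 := pow_ne_zero _ hz
  funext i
  fin_cases i <;> simp [inver, vPt_one, vPt_two, vPt_three, ← hzdef]
  · rw [vPt_zero, pow_add _ _ 2, div_pow, div_pow, div_pow]
    field_simp
    linear_combination hid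
  all_goals field_simp

theorem inver_onOvoid (hG : Good F m) {v : Fin 4 → F} (hv : OnOvoid m v) : OnOvoid m (inver v) := by
  obtain ⟨c, hc, rfl | ⟨x, y, rfl⟩⟩ := hv
  · rw [map_smul, inver_inf (m := m)]; exact onOvoid_smul (onOvoid_pt 0 0) hc
  · rw [map_smul]
    refine onOvoid_smul ?_ hc
    by_cases hz : vPt m x y 0 = 0
    · obtain ⟨rfl, rfl⟩ := pt_zero_eq_zero hG hz
      rw [inver_zero]; exact onOvoid_inf
    · rw [inver_pt hG hz]; exact onOvoid_smul (onOvoid_pt _ _) hz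

theorem transl_onOvoid (hG : Good F m) (a b : F) {v : Fin 4 → F} (hv : OnOvoid m v) :
    OnOvoid m (transl m a b v) := by
  obtain ⟨c, hc, rfl | ⟨x, y, rfl⟩⟩ := hv
  · rw [map_smul, transl_inf]; exact onOvoid_smul onOvoid_inf hc
  · rw [map_smul, transl_pt hG]; exact onOvoid_smul (onOvoid_pt _ _) hc

theorem transl_surj (hG : Good F m) (a b : F) {v : Fin 4 → F} (hv : OnOvoid m v) :
    ∃ u, OnOvoid m u ∧ transl m a b u = v := by
  obtain ⟨c, hc, rfl | ⟨x, y, rfl⟩⟩ := hv
  · exact ⟨c • vInf F, onOvoid_smul onOvoid_inf hc, by rw [map_smul, transl_inf]⟩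
  · refine ⟨c • vPt m (x - a) (y - a ^ (2 ^ (m + 1)) * (x - a) - b),
      onOvoid_smul (onOvoid_pt _ _) hc, ?_⟩
    rw [map_smul, transl_pt hG]
    congr 2 <;> ring

theorem transl_inj (a b : F) : Function.Injective (transl m a b : (Fin 4 → F) →ₗ[F] (Fin 4 → F)) := by
  intro u v h
  have h3 : u 3 = v 3 := congrFun h 3
  have h2 : u 2 + a * u 3 = v 2 + a * v 3 := congrFun h 2
  rw [h3, add_left_inj] at h2
  have h1 : u 1 + a ^ (2 ^ (m + 1)) * u 2 + b * u 3 = v 1 + a ^ (2 ^ (m + 1)) * v 2 + b * v 3 :=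
    congrFun h 1
  rw [h3, h2, add_left_inj, add_left_inj] at h1
  have h0 : u 0 + a * u 1 + (b + a * a ^ (2 ^ (m + 1))) * u 2 + vPt m a b 0 * u 3 =
      v 0 + a * v 1 + (b + a * a ^ (2 ^ (m + 1))) * v 2 + vPt m a b 0 * v 3 := congrFun h 0
  rw [h3, h2, h1, add_left_inj, add_left_inj, add_left_inj] at h0
  funext i; fin_cases i <;> assumption

/-- A symmetry carrying `∞` to a given point of the ovoid. -/
theorem exists_move (hG : Good F m) {v : Fin 4 → F} (hv : OnOvoid m v) :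
    ∃ T : (Fin 4 → F) ≃ₗ[F] (Fin 4 → F), (∀ u w, B (T u) (T w) = B u w) ∧
      (∀ u, OnOvoid m u → OnOvoid m (T u)) ∧ (∀ w, OnOvoid m w → ∃ u, OnOvoid m u ∧ T u = w) ∧
      ∃ c : F, c ≠ 0 ∧ T (vInf F) = c • v := by
  obtain ⟨c, hc, rfl | ⟨x, y, rfl⟩⟩ := hv
  · exact ⟨LinearEquiv.refl F _, fun _ _ => rfl, fun _ h => h, fun w h => ⟨w, h, rfl⟩, c⁻¹,
      inv_ne_zero hc, (inv_smul_smul₀ hc _).symm⟩
  · let T := LinearEquiv.ofInjectiveEndo ((transl m x y).comp inver)
      ((transl_inj x y).comp (Function.LeftInverse.injective inver_inver))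
    refine ⟨T, fun u w => (transl_B hG x y _ _).trans (inver_B u w),
      fun u hu => transl_onOvoid hG x y (inver_onOvoid hG hu), fun w hw => ?_, c⁻¹,
      inv_ne_zero hc, ?_⟩
    · obtain ⟨u, hu, rfl⟩ := transl_surj hG x y hw
      exact ⟨inver u, inver_onOvoid hG hu, congrArg (transl m x y) (inver_inver u)⟩
    · show transl m x y (inver (vInf F)) = _
      rw [inver_inf (m := m), transl_zero_pt hG, inv_smul_smul₀ hc]

theorem tangent_inf {w : Fin 4 → F} (hw : OnOvoid m w) (h : B (vInf F) w = 0) :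
    ∃ c : F, w = c • vInf F := by
  obtain ⟨c, hc, rfl | ⟨x, y, rfl⟩⟩ := hw
  · exact ⟨c, rfl⟩
  · simp [B, vInf, vPt, hc] at h

/-- The tangent plane at an ovoid point meets the ovoid only there. -/
theorem tangent (hG : Good F m) {v w : Fin 4 → F} (hv : OnOvoid m v) (hw : OnOvoid m w)
    (h : B v w = 0) : ∃ c : F, w = c • v := by
  obtain ⟨T, hTB, -, hTs, c, hc, hT⟩ := exists_move hG hv
  obtain ⟨u, hu, rfl⟩ := hTs w hw
  have h1 : B (vInf F) u = 0 := by
    rw [← hTB, hT, B_smul_left, h, mul_zero]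
  obtain ⟨d, rfl⟩ := tangent_inf hu h1
  exact ⟨d * c, by rw [map_smul, hT, smul_smul]⟩

/-- The tangent plane is the only plane meeting the ovoid in that point alone. -/
theorem tangent_unique (hG : Good F m) {v : Fin 4 → F} (hv : OnOvoid m v)
    (φ : (Fin 4 → F) →ₗ[F] F) (h0 : φ v = 0)
    (h1 : ∀ w, OnOvoid m w → (∀ c : F, w ≠ c • v) → φ w ≠ 0) :
    ∃ k : F, ∀ u, φ u = k * B v u := by
  obtain ⟨T, hTB, hTon, -, c, hc, hT⟩ := exists_move hG hv
  set ψ := φ.comp (T : (Fin 4 → F) →ₗ[F] (Fin 4 → F))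
  have hinf : ψ (vInf F) = 0 := by
    show φ (T (vInf F)) = 0
    rw [hT, map_smul, h0, smul_zero]
  have hpt : ∀ x y : F, ψ (vPt m x y) ≠ 0 := by
    intro x y
    refine h1 _ (hTon _ (onOvoid_pt x y)) fun d hd => ?_
    have e : T (vPt m x y) = T ((d * c⁻¹) • vInf F) := by
      rw [map_smul, hT, smul_smul, mul_assoc, inv_mul_cancel₀ hc, mul_one]
      exact hd
    have h3 := congrFun (T.injective e) 3
    simp [vPt, vInf] at h3
  have hexp : ∀ u : Fin 4 → F, ψ u =
      u 0 * ψ (vInf F) + u 1 * ψ ![0, 1, 0, 0] + u 2 * ψ ![0, 0, 1, 0] + u 3 * ψ ![0, 0, 0, 1] := by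
    intro u
    have e : u = u 0 • vInf F + u 1 • ![0, 1, 0, 0] + u 2 • ![0, 0, 1, 0] + u 3 • ![0, 0, 0, 1] := by
      funext i; fin_cases i <;> simp [vInf]
    conv_lhs => rw [e]
    simp only [map_add, map_smul, smul_eq_mul]
  set p := ψ ![0, 1, 0, 0]
  set q := ψ ![0, 0, 1, 0]
  set r := ψ ![0, 0, 0, 1]
  have hval : ∀ x y : F, ψ (vPt m x y) = y * p + x * q + r := by
    intro x y
    rw [hexp, hinf, vPt_one, vPt_two, vPt_three]
    ring
  have hp : p = 0 := by
    by_contra hp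
    exact hpt 0 (-r / p) (by rw [hval, div_mul_cancel₀ _ hp]; ring)
  have hq : q = 0 := by
    by_contra hq
    exact hpt (-r / q) 0 (by rw [hval, div_mul_cancel₀ _ hq]; ring)
  refine ⟨r * c, fun u => ?_⟩
  have hB : B v u = c⁻¹ * B (vInf F) (T.symm u) := by
    have h := hTB (vInf F) (T.symm u)
    rw [T.apply_symm_apply, hT, B_smul_left] at h
    rw [← h, ← mul_assoc, inv_mul_cancel₀ hc, one_mul]
  have hBi : B (vInf F) (T.symm u) = T.symm u 3 := by simp [B, vInf]
  calc φ u = ψ (T.symm u) := (congrArg φ (T.apply_symm_apply u)).symm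
    _ = T.symm u 3 * r := by rw [hexp, hinf, hp, hq]; ring
    _ = r * c * B v u := by
        have hBv : B v u * c = T.symm u 3 := by
          rw [hB, hBi, mul_comm, ← mul_assoc, mul_inv_cancel₀ hc, one_mul]
        rw [← hBv]
        ring

/-- A linear map preserving the ovoid multiplies the form by a scalar. -/
theorem form_scaled (hG : Good F m) (g : (Fin 4 → F) ≃ₗ[F] (Fin 4 → F))
    (hg : ∀ v, OnOvoid m v → OnOvoid m (g v)) : ∃ k : F, ∀ u w, B (g u) (g w) = k * B u w := by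
  have hk : ∀ v, OnOvoid m v → ∃ k : F, ∀ u, B (g v) (g u) = k * B v u := by
    intro v hv
    refine tangent_unique hG hv ((BLin (g v)).comp (g : (Fin 4 → F) →ₗ[F] (Fin 4 → F))) ?_ ?_
    · show B (g v) (g v) = 0
      simp only [B]
      linear_combination (g v 0 * g v 3 + g v 1 * g v 2) * hG.two
    · intro w hw hne h
      obtain ⟨c, hc⟩ := tangent hG (hg v hv) (hg w hw) h
      exact hne c (g.injective (by rw [hc, map_smul]))
  choose k hk using hk
  set v₁ : Fin 4 → F := vInf F with hv₁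
  have hv₁' : OnOvoid m v₁ := onOvoid_inf
  have hB0 : ∀ x y : F, B v₁ (vPt m x y) = 1 := fun x y => by simp [hv₁, B, vInf, vPt]
  have hconst : ∀ x y, k _ (onOvoid_pt (m := m) x y) = k v₁ hv₁' := by
    intro x y
    have e1 := hk _ (onOvoid_pt (m := m) x y) v₁
    have e2 := hk v₁ hv₁' (vPt m x y)
    rw [B_comm, e2, B_comm (vPt m x y), hB0, mul_one, mul_one] at e1
    exact e1.symm
  refine ⟨k v₁ hv₁', fun u w => ?_⟩
  set K := k v₁ hv₁'
  have hon : ∀ z, B (g v₁) (g z) = K * B v₁ z := hk v₁ hv₁'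
  have hpts : ∀ x y z, B (g (vPt m x y)) (g z) = K * B (vPt m x y) z := fun x y z => by
    rw [hk _ (onOvoid_pt x y) z, hconst]
  have hz0 : vPt m (0 : F) 0 = ![0, 0, 0, 1] := vPt_zero_zero
  have e : u = (u 0 - u 1 - u 2) • v₁ + u 1 • vPt m 0 1 + u 2 • vPt m 1 0 +
      (u 3 - u 1 - u 2) • vPt m 0 0 := by
    rw [hz0]
    funext i
    fin_cases i <;> simp [hv₁, vInf, vPt] <;> ring
  rw [e]
  simp only [map_add, map_smul, B_add_left, B_smul_left, hon, hpts]
  ring

end Cfsg.Agent.RankOne.Ovoid
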