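import Cfsg.Agent.RankOne.Centralized
import Cfsg.Agent.Coherence.ThompsonFPF
import Cfsg.Agent.Core.Solvable

/-!
With a four-group present: `Q` is nilpotent (Thompson) and the involutions fixing `a` are central
in `Q`.
-/

set_option autoImplicit false

open Subgroup MulAction

namespace Cfsg.Agent.RankOne

variable {G Ω : Type*} [Group G] [MulAction G Ω] {a : Ω} {t : G} {Q : Subgroup G}

theorem exists_inverted_ne_one [Finite G] (hS : Cfsg.IsRankOneSetup G Ω a t Q)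
    (h2 : ∃ x y : G, x ≠ 1 ∧ y ≠ 1 ∧ x ≠ y ∧ x * x = 1 ∧ y * y = 1 ∧ x * y = y * x) :
    ∃ c ∈ Cfsg.invertedBy (twoPt G a t) t, c ≠ 1 := by
  obtain ⟨s, hs, s', hs', hne, -⟩ := exists_two_invol hS h2
  obtain ⟨c, hc, e⟩ := exists_conj_invertedBy hS hs hs'
  refine ⟨c, hc, fun h => hne ?_⟩
  rw [← e, h]
  simp

theorem nilpotent_Q [Finite G] (hS : Cfsg.IsRankOneSetup G Ω a t Q)
    (h2 : ∃ x y : G, x ≠ 1 ∧ y ≠ 1 ∧ x ≠ y ∧ x * x = 1 ∧ y * y = 1 ∧ x * y = y * x) :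
    Group.IsNilpotent Q := by
  obtain ⟨c, hc, hc1⟩ := exists_inverted_ne_one hS h2
  have hne : orderOf c ≠ 1 := fun h => hc1 (orderOf_eq_one_iff.mp h)
  obtain ⟨p, hp, hdvd⟩ := Nat.exists_prime_and_dvd hne
  set y := c ^ (orderOf c / p)
  have hy : orderOf y = p := orderOf_pow_orderOf_div (orderOf_pos c).ne' hdvd
  have hymem := pow_mem_invertedBy hS.mul_self hc (orderOf c / p)
  refine Coherence.isNilpotent_of_fpf_prime hp (c := y) (hy ▸ pow_orderOf_eq_one y)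
    (stabilizer_normalizes hS (twoPt_le hymem.1)) (inf_centralizer_inverted hS hymem fun h => ?_)
  exact hp.ne_one (by rw [← hy]; exact orderOf_eq_one_iff.mpr h)

theorem exists_central_invol [Finite G] (hS : Cfsg.IsRankOneSetup G Ω a t Q)
    (h2 : ∃ x y : G, x ≠ 1 ∧ y ≠ 1 ∧ x ≠ y ∧ x * x = 1 ∧ y * y = 1 ∧ x * y = y * x) :
    ∃ z ∈ Cfsg.involutionsIn (stabilizer G a : Set G), ∀ x ∈ Q, z * x = x * z := by
  have := nilpotent_Q hS h2
  have : Fact (Nat.Prime 2) := ⟨Nat.prime_two⟩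
  obtain ⟨P⟩ : Nonempty (Sylow 2 Q) := inferInstance
  have hP : (P : Subgroup Q) ≠ ⊥ := P.ne_bot_of_dvd_card (even_iff_two_dvd.mp hS.even_card)
  have hne := Core.inf_center_ne_bot hP
  obtain ⟨w, hw, hw1⟩ := (Subgroup.bot_or_exists_ne_one _).resolve_left hne
  replace hw : w ∈ (P : Subgroup Q) ⊓ center Q ∧ w ≠ 1 := ⟨hw, hw1⟩
  obtain ⟨k, hk⟩ := P.2 ⟨w, hw.1.1⟩
  have hk' : (w : Q) ^ (2 ^ k) = 1 := congrArg Subtype.val hk
  obtain ⟨j, hj, hord⟩ := (Nat.dvd_prime_pow Nat.prime_two).mp (orderOf_dvd_of_pow_eq_one hk')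
  have hj0 : j ≠ 0 := by
    rintro rfl
    exact hw.2 (orderOf_eq_one_iff.mp (by simpa using hord))
  set z := w ^ (2 ^ (j - 1))
  have hz2 : z * z = 1 := by
    have e : 2 ^ (j - 1) + 2 ^ (j - 1) = 2 ^ j := by
      obtain ⟨i, rfl⟩ := Nat.exists_eq_succ_of_ne_zero hj0
      rw [Nat.succ_sub_one, pow_succ]
      omega
    rw [← pow_add, e, ← hord, pow_orderOf_eq_one]
  have hz1 : z ≠ 1 := by
    refine pow_ne_one_of_lt_orderOf (by positivity) ?_
    rw [hord]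
    exact Nat.pow_lt_pow_right one_lt_two (by omega)
  refine ⟨z, ⟨hS.le z.2, fun h => hz1 (Subtype.ext h), congrArg Subtype.val hz2⟩, fun x hx => ?_⟩
  exact (congrArg Subtype.val
    (Subgroup.mem_center_iff.mp (pow_mem hw.1.2 (2 ^ (j - 1))) ⟨x, hx⟩)).symm

theorem invol_central [Finite G] (hS : Cfsg.IsRankOneSetup G Ω a t Q)
    (h2 : ∃ x y : G, x ≠ 1 ∧ y ≠ 1 ∧ x ≠ y ∧ x * x = 1 ∧ y * y = 1 ∧ x * y = y * x) {s : G}
    (hs : s ∈ Cfsg.involutionsIn (stabilizer G a : Set G)) {x : G} (hx : x ∈ Q) :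
    s * x = x * s := by
  obtain ⟨z, hz, hzc⟩ := exists_central_invol hS h2
  obtain ⟨c, hc, rfl⟩ := exists_conj_invertedBy hS hz hs
  have h := hzc _ (conj_mem_Q hS (twoPt_le hc.1) hx)
  calc c⁻¹ * z * c * x = c⁻¹ * (z * (c * x * c⁻¹)) * c := by simp [mul_assoc]
    _ = c⁻¹ * (c * x * c⁻¹ * z) * c := by rw [h]
    _ = x * (c⁻¹ * z * c) := by simp [mul_assoc]

/-- Two involutions with a common fixed point commute. -/
theorem commute_of_common_fixed [Finite G] (hS : Cfsg.IsRankOneSetup G Ω a t Q)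
    (h2 : ∃ x y : G, x ≠ 1 ∧ y ≠ 1 ∧ x ≠ y ∧ x * x = 1 ∧ y * y = 1 ∧ x * y = y * x) {u v : G}
    (hu : u * u = 1) (hu1 : u ≠ 1) (hv : v * v = 1) (hv1 : v ≠ 1) {c : Ω} (hc : u • c = c)
    (hc' : v • c = c) : Commute u v := by
  obtain ⟨g, hg⟩ := exists_smul hS c a
  have h := invol_central hS h2 (conj_mem_I hS hu hu1 hg hc)
    (mem_I_Q hS (conj_mem_I hS hv hv1 hg hc'))
  have e : g * (u * v) * g⁻¹ = g * (v * u) * g⁻¹ := by
    simpa [mul_assoc] using h
  exact mul_left_cancel (mul_right_cancel e)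

/-- Two non-commuting involutions can be moved simultaneously into `I` and onto `t`. -/
theorem exists_conj_pair [Finite G] (hS : Cfsg.IsRankOneSetup G Ω a t Q)
    (h2 : ∃ x y : G, x ≠ 1 ∧ y ≠ 1 ∧ x ≠ y ∧ x * x = 1 ∧ y * y = 1 ∧ x * y = y * x) {u v : G}
    (hu : u * u = 1) (hu1 : u ≠ 1) (hv : v * v = 1) (hv1 : v ≠ 1) (hne : ¬ Commute u v) :
    ∃ g : G, g * u * g⁻¹ ∈ Cfsg.involutionsIn (stabilizer G a : Set G) ∧ g * v * g⁻¹ = t := by
  obtain ⟨c, hc⟩ := exists_fixed_point hS hu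
  have hvc : v • c ≠ c := fun h => hne (commute_of_common_fixed hS h2 hu hu1 hv hv1 hc h)
  obtain ⟨g, hga, hgb⟩ := exists_smul_pair hS hvc.symm (t_smul_ne hS).symm
  have hw : g * v * g⁻¹ * (g * v * g⁻¹) = 1 := by
    calc g * v * g⁻¹ * (g * v * g⁻¹) = g * (v * v) * g⁻¹ := by simp [mul_assoc]
      _ = 1 := by rw [hv, mul_one, mul_inv_cancel]
  have hwa : (g * v * g⁻¹) • a = t • a := by
    rw [mul_smul, mul_smul, ← hga, inv_smul_smul, hgb, hga]
  have hy := mem_invertedBy_of_swap hS hw hwa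
  set y := g * v * g⁻¹ * t with hydef
  have hk := oddRoot_mem_invertedBy hS.mul_self (inv_mem_invertedBy hS.mul_self hy)
  have hkk : oddRoot y⁻¹ * oddRoot y⁻¹ = y⁻¹ :=
    oddRoot_mul_self (odd_orderOf_of_mem hS.odd_card (inv_mem hy.1))
  set k := oddRoot y⁻¹
  refine ⟨k * g, conj_mem_I hS hu hu1 ?_ hc, ?_⟩
  · rw [mul_smul, hga]
    exact twoPt_le hk.1
  · have h2' : t * k⁻¹ = k * t := by
      rw [← ((mem_invertedBy hS.mul_self).mp hk).2]
      simp only [← mul_assoc, hS.mul_self, one_mul]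
    have h3 : g * v * g⁻¹ = (k * k)⁻¹ * t := by
      rw [hkk, inv_inv, hydef, mul_assoc _ t t, hS.mul_self, mul_one]
    calc k * g * v * (k * g)⁻¹ = k * (g * v * g⁻¹) * k⁻¹ := by simp [mul_assoc]
      _ = k * (k * k)⁻¹ * (t * k⁻¹) := by rw [h3]; simp [mul_assoc]
      _ = t := by rw [h2']; simp [mul_assoc]

/-- The centraliser of a non-involutory product of two involutions has odd order. -/
theorem odd_centralizer [Finite G] (hS : Cfsg.IsRankOneSetup G Ω a t Q)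
    (h2 : ∃ x y : G, x ≠ 1 ∧ y ≠ 1 ∧ x ≠ y ∧ x * x = 1 ∧ y * y = 1 ∧ x * y = y * x) {u v : G}
    (hu : u * u = 1) (hu1 : u ≠ 1) (hv : v * v = 1) (hv1 : v ≠ 1) (hne : ¬ Commute u v) :
    Odd (Nat.card (centralizer ({u * v} : Set G))) := by
  by_contra hodd
  have : Fact (Nat.Prime 2) := ⟨Nat.prime_two⟩
  obtain ⟨w, hw⟩ := exists_prime_orderOf_dvd_card' (G := centralizer ({u * v} : Set G)) 2
    (even_iff_two_dvd.mp (Nat.not_odd_iff_even.mp hodd))
  rw [← Subgroup.orderOf_coe] at hw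
  have hw2 : (w : G) * w = 1 := by rw [← pow_two, ← hw, pow_orderOf_eq_one]
  have hw1 : (w : G) ≠ 1 := fun h => by rw [h, orderOf_one] at hw; omega
  have hwx : Commute (w : G) (u * v) := mem_centralizer_singleton_iff.mp w.2
  obtain ⟨c, hc⟩ := exists_fixed_point hS hw2
  have hxc : (u * v) • c = c := commute_fixed_point hS hw2 hw1 hc hwx
  by_cases huc : u • c = c
  · refine hne (commute_of_common_fixed hS h2 hu hu1 hv hv1 huc ?_)
    rw [mul_smul] at hxc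
    have h3 : u • v • c = u • c := hxc.trans huc.symm
    exact MulAction.injective u h3
  -- move `c` to `a` and `u • c` to `t • a`
  obtain ⟨g, hga, hgb⟩ := exists_smul_pair hS (Ne.symm huc) (t_smul_ne hS).symm
  set x' := g * (u * v) * g⁻¹ with hx'
  set u' := g * u * g⁻¹ with hu'
  set w' := g * (w : G) * g⁻¹ with hw'
  have hu'2 : u' * u' = 1 := by
    calc g * u * g⁻¹ * (g * u * g⁻¹) = g * (u * u) * g⁻¹ := by simp [mul_assoc]
      _ = 1 := by rw [hu, mul_one, mul_inv_cancel]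
  have hu'a : u' • a = t • a := by
    rw [hu', mul_smul, mul_smul, ← hga, inv_smul_smul, hgb, hga]
  have hu'b : u' • (t • a) = a := by rw [← hu'a, smul_smul, hu'2, one_smul]
  have hinv : u' * x' * u' = x'⁻¹ := by
    have h1 : u * (u * v) * u = (u * v)⁻¹ := by
      rw [mul_inv_rev, inv_eq_of_mul_eq_one_right hu, inv_eq_of_mul_eq_one_right hv, ← mul_assoc,
        hu, one_mul]
    calc g * u * g⁻¹ * (g * (u * v) * g⁻¹) * (g * u * g⁻¹) = g * (u * (u * v) * u) * g⁻¹ := by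
          simp [mul_assoc]
      _ = (g * (u * v) * g⁻¹)⁻¹ := by rw [h1]; simp [mul_assoc]
  have hxa : x' • a = a := by
    rw [hx', mul_smul, mul_smul, ← hga, inv_smul_smul, hxc]
  have hxb : x' • (t • a) = t • a := by
    have h : (u' * x' * u') • (t • a) = t • a → x'⁻¹ • (t • a) = t • a := by rw [hinv]; exact id
    exact (inv_smul_eq_iff.mp (h (by rw [mul_smul, mul_smul, hu'b, hxa, hu'a]))).symm
  -- `k` carries `u'` to `t`
  have hy := mem_invertedBy_of_swap hS hu'2 hu'a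
  set y := u' * t with hydef
  have hk := oddRoot_mem_invertedBy hS.mul_self (inv_mem_invertedBy hS.mul_self hy)
  have hkk : oddRoot y⁻¹ * oddRoot y⁻¹ = y⁻¹ :=
    oddRoot_mul_self (odd_orderOf_of_mem hS.odd_card (inv_mem hy.1))
  set k := oddRoot y⁻¹
  have hku : k * u' * k⁻¹ = t := by
    have h2' : t * k⁻¹ = k * t := by
      rw [← ((mem_invertedBy hS.mul_self).mp hk).2]
      simp only [← mul_assoc, hS.mul_self, one_mul]
    have h3 : u' = (k * k)⁻¹ * t := by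
      rw [hkk, inv_inv, hydef, mul_assoc _ t t, hS.mul_self, mul_one]
    calc k * u' * k⁻¹ = k * (k * k)⁻¹ * (t * k⁻¹) := by rw [h3]; simp [mul_assoc]
      _ = t := by rw [h2']; simp [mul_assoc]
  have hxk : k * x' * k⁻¹ ∈ Cfsg.invertedBy (twoPt G a t) t := by
    refine (mem_invertedBy hS.mul_self).mpr
      ⟨mul_mem (mul_mem hk.1 (mem_twoPt.mpr ⟨hxa, hxb⟩)) (inv_mem hk.1), ?_⟩
    rw [← hku]
    calc k * u' * k⁻¹ * (k * x' * k⁻¹) * (k * u' * k⁻¹) = k * (u' * x' * u') * k⁻¹ := by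
          simp [mul_assoc]
      _ = (k * x' * k⁻¹)⁻¹ := by rw [hinv]; simp [mul_assoc]
  have hwmem : k * w' * k⁻¹ ∈ Cfsg.involutionsIn (stabilizer G a : Set G) := by
    have hka : (k * g) • c = a := by rw [mul_smul, hga]; exact twoPt_le hk.1
    have := conj_mem_I hS hw2 hw1 hka hc
    simpa [hw', mul_assoc] using this
  have hx1 : k * x' * k⁻¹ ≠ 1 := by
    intro h
    have h1 : u * v = 1 := by simpa [hx', mul_inv_eq_one, mul_eq_left] using h
    exact hne (by rw [eq_inv_of_mul_eq_one_right h1]; exact (Commute.refl u).inv_right)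
  refine hwmem.2.1 ((Subgroup.mem_bot).mp
    (inf_centralizer_inverted hS hxk hx1 ▸ (⟨mem_I_Q hS hwmem, ?_⟩ :
      k * w' * k⁻¹ ∈ Q ⊓ centralizer {k * x' * k⁻¹})))
  refine mem_centralizer_singleton_iff.mpr ?_
  calc k * w' * k⁻¹ * (k * x' * k⁻¹) = k * g * ((w : G) * (u * v)) * g⁻¹ * k⁻¹ := by
        simp [hw', hx', mul_assoc]
    _ = k * g * ((u * v) * (w : G)) * g⁻¹ * k⁻¹ := by rw [hwx.eq]
    _ = k * x' * k⁻¹ * (k * w' * k⁻¹) := by simp [hw', hx', mul_assoc]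

end Cfsg.Agent.RankOne
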