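import Cfsg.Agent.RankOne.Basic

/-!
A set `X` of elements of the two-point stabiliser fixing three points: its centraliser is doubly
transitive on the fixed points, contains an involution swapping `a` and `t • a`, and no non-identity
inverted element of `D` fixes a third point.
-/

set_option autoImplicit false

open Subgroup MulAction

namespace Cfsg.Agent.RankOne

variable {G Ω : Type*} [Group G] [MulAction G Ω] {a : Ω} {t : G} {Q : Subgroup G} {X : Set G}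

theorem mem_fixed_smul {g : G} (hg : g ∈ centralizer X) {c : Ω} (hc : ∀ x ∈ X, x • c = c) :
    ∀ x ∈ X, x • (g • c) = g • c := fun x hx => by
  rw [← mul_smul, mem_centralizer_iff.mp hg x hx, mul_smul, hc x hx]

theorem cent_Q_trans (hS : Cfsg.IsRankOneSetup G Ω a t Q) (hX : ∀ x ∈ X, x ∈ twoPt G a t) {c : Ω}
    (hc : ∀ x ∈ X, x • c = c) (hca : c ≠ a) : ∃ q ∈ centralizer X ⊓ Q, q • (t • a) = c := by
  obtain ⟨q, hq, hqc⟩ := exists_Q_smul hS hca
  refine ⟨q, ⟨mem_centralizer_iff.mpr fun x hx => ?_, hq⟩, hqc⟩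
  have h1 : x * q * x⁻¹ = q := by
    refine Q_smul_inj hS (conj_mem_Q hS (twoPt_le (hX x hx)) hq) hq (t_smul_ne hS) ?_
    rw [mul_smul, mul_smul, inv_smul_eq_iff.mpr (mem_twoPt.mp (hX x hx)).2.symm, hqc, hc x hx]
  exact mul_inv_eq_iff_eq_mul.mp h1

theorem conj_set_twoPt (hS : Cfsg.IsRankOneSetup G Ω a t Q) (hX : ∀ x ∈ X, x ∈ twoPt G a t) :
    ∀ x ∈ (fun y => t * y * t) '' X, x ∈ twoPt G a t := by
  rintro _ ⟨y, hy, rfl⟩
  exact t_conj_twoPt hS (hX y hy)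

theorem cent_opp_trans (hS : Cfsg.IsRankOneSetup G Ω a t Q) (hX : ∀ x ∈ X, x ∈ twoPt G a t) {c : Ω}
    (hc : ∀ x ∈ X, x • c = c) (hcb : c ≠ t • a) : ∃ g ∈ centralizer X, g • a = c := by
  obtain ⟨q, ⟨hq, -⟩, hqc⟩ := cent_Q_trans hS (conj_set_twoPt hS hX) (c := t • c)
    (by
      rintro _ ⟨y, hy, rfl⟩
      rw [mul_smul, mul_smul, ← mul_smul t t c, hS.mul_self, one_smul, hc y hy])
    (fun h => hcb (by rw [← inv_smul_smul t c, h, t_inv hS]))
  refine ⟨t * q * t, mem_centralizer_iff.mpr fun x hx => ?_, ?_⟩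
  · have h := mem_centralizer_iff.mp hq _ ⟨x, hx, rfl⟩
    calc x * (t * q * t) = t * (t * x * t * q) * t := by
          simp only [mul_assoc]
          simp only [← mul_assoc t t, hS.mul_self, one_mul]
      _ = t * (q * (t * x * t)) * t := by rw [h]
      _ = t * q * t * x := by simp only [mul_assoc, hS.mul_self, mul_one]
  · rw [mul_smul, mul_smul, hqc, ← mul_smul, hS.mul_self, one_smul]

theorem cent_trans (hS : Cfsg.IsRankOneSetup G Ω a t Q) (hX : ∀ x ∈ X, x ∈ twoPt G a t)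
    (h3 : ∃ d : Ω, d ≠ a ∧ d ≠ t • a ∧ ∀ x ∈ X, x • d = d) {c : Ω} (hc : ∀ x ∈ X, x • c = c) :
    ∃ g ∈ centralizer X, g • a = c := by
  by_cases hcb : c = t • a
  · obtain ⟨d, hda, hdb, hd⟩ := h3
    obtain ⟨g, hg, hga⟩ := cent_opp_trans hS hX hd hdb
    obtain ⟨q, hq, hqd⟩ := cent_Q_trans hS hX hd hda
    refine ⟨q⁻¹ * g, mul_mem (inv_mem hq.1) hg, ?_⟩
    rw [mul_smul, hga, ← hqd, inv_smul_smul, hcb]
  · exact cent_opp_trans hS hX hc hcb

theorem cent_pairs (hS : Cfsg.IsRankOneSetup G Ω a t Q) (hX : ∀ x ∈ X, x ∈ twoPt G a t)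
    (h3 : ∃ d : Ω, d ≠ a ∧ d ≠ t • a ∧ ∀ x ∈ X, x • d = d) {b₁ b₂ : Ω}
    (h₁ : ∀ x ∈ X, x • b₁ = b₁) (h₂ : ∀ x ∈ X, x • b₂ = b₂) (hne : b₁ ≠ b₂) :
    ∃ g ∈ centralizer X, g • a = b₁ ∧ g • (t • a) = b₂ := by
  obtain ⟨g, hg, hga⟩ := cent_trans hS hX h3 h₁
  obtain ⟨q, hq, hqb⟩ := cent_Q_trans hS hX (mem_fixed_smul (inv_mem hg) h₂)
    (fun h => hne (by rw [← hga, ← h, smul_inv_smul]))
  refine ⟨g * q, mul_mem hg hq.1, ?_, ?_⟩
  · rw [mul_smul, smul_a_of_mem_Q hS hq.2, hga]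
  · rw [mul_smul, hqb, smul_inv_smul]

theorem exists_third (hX : ∀ x ∈ X, x ∈ twoPt G a t)
    (h3 : ∃ b c d : Ω, b ≠ c ∧ b ≠ d ∧ c ≠ d ∧ ∀ x ∈ X, x • b = b ∧ x • c = c ∧ x • d = d) :
    ∃ d : Ω, d ≠ a ∧ d ≠ t • a ∧ ∀ x ∈ X, x • d = d := by
  obtain ⟨b, c, d, hbc, hbd, hcd, h⟩ := h3
  have := hX
  by_contra hcon
  push Not at hcon
  have key : ∀ e : Ω, (∀ x ∈ X, x • e = e) → e = a ∨ e = t • a := by
    intro e he
    by_contra hh
    push Not at hh
    obtain ⟨x, hx, hxe⟩ := hcon e hh.1 hh.2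
    exact hxe (he x hx)
  rcases key b (fun x hx => (h x hx).1) with rfl | rfl <;>
    rcases key c (fun x hx => (h x hx).2.1) with rfl | rfl <;>
      rcases key d (fun x hx => (h x hx).2.2) with rfl | rfl <;> simp_all

theorem exists_swap_invol [Finite G] (hS : Cfsg.IsRankOneSetup G Ω a t Q)
    (hX : ∀ x ∈ X, x ∈ twoPt G a t)
    (h3 : ∃ d : Ω, d ≠ a ∧ d ≠ t • a ∧ ∀ x ∈ X, x • d = d) :
    ∃ u ∈ centralizer X, u * u = 1 ∧ u ≠ 1 ∧ u • a = t • a := by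
  obtain ⟨g, hg, hga, hgb⟩ := cent_pairs hS hX h3
    (b₁ := t • a) (b₂ := a) (fun x hx => (mem_twoPt.mp (hX x hx)).2)
    (fun x hx => (mem_twoPt.mp (hX x hx)).1) (t_smul_ne hS)
  obtain ⟨k, m, hm, hn⟩ := Nat.exists_eq_two_pow_mul_odd (orderOf_pos g).ne'
  obtain ⟨j, rfl⟩ := hm
  have hsq : ∀ i : ℕ, (g ^ (2 * i)) • a = a ∧ (g ^ (2 * i)) • (t • a) = t • a := by
    intro i
    induction i with
    | zero => simp
    | succ i ih =>
      have e : 2 * (i + 1) = 2 * i + 1 + 1 := by omega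
      constructor
      · rw [e, pow_succ, pow_succ, mul_smul, mul_smul, hga, hgb, ih.1]
      · rw [e, pow_succ, pow_succ, mul_smul, mul_smul, hgb, hga, ih.2]
  set u := g ^ (2 * j + 1)
  have hua : u • a = t • a := by rw [show u = g ^ (2 * j) * g from pow_succ g _, mul_smul, hga, (hsq j).2]
  have hu2 : u * u ∈ twoPt G a t := by
    have : u * u = g ^ (2 * (2 * j + 1)) := by rw [two_mul, pow_add]
    rw [this]
    exact mem_twoPt.mpr (hsq _)
  have hord : (u * u) ^ (2 ^ k) = 1 := by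
    rw [← pow_two, ← pow_mul, ← pow_mul]
    have : (2 * j + 1) * (2 * 2 ^ k) = orderOf g * 2 := by rw [hn]; ring
    rw [this, pow_mul, pow_orderOf_eq_one, one_pow]
  refine ⟨u, pow_mem hg _, ?_, ?_, hua⟩
  · exact eq_one_of_mem_twoPt hS (mem_Q_of_pow_two_pow hS k (twoPt_le hu2) hord) hu2
  · intro h
    rw [h, one_smul] at hua
    exact t_smul_ne hS hua.symm

theorem exists_invol_cent [Finite G] (hS : Cfsg.IsRankOneSetup G Ω a t Q)
    (hX : ∀ x ∈ X, x ∈ twoPt G a t)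
    (h3 : ∃ d : Ω, d ≠ a ∧ d ≠ t • a ∧ ∀ x ∈ X, x • d = d) :
    ∃ s ∈ centralizer X, s ∈ Cfsg.involutionsIn (stabilizer G a : Set G) := by
  obtain ⟨u, hu, hu2, hu1, -⟩ := exists_swap_invol hS hX h3
  obtain ⟨c, hc⟩ := exists_fixed_point hS hu2
  have hcX : ∀ x ∈ X, x • c = c := fun x hx =>
    commute_fixed_point hS hu2 hu1 hc (mem_centralizer_iff.mp hu x hx).symm
  obtain ⟨g, hg, hga⟩ := cent_trans hS hX h3 hcX
  refine ⟨g⁻¹ * u * g, mul_mem (mul_mem (inv_mem hg) hu) hg, ?_⟩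
  have := conj_mem_I hS hu2 hu1 (g := g⁻¹) (c := c) (by rw [← hga, inv_smul_smul]) hc
  simpa using this

theorem exists_conj_cent_t [Finite G] (hS : Cfsg.IsRankOneSetup G Ω a t Q)
    (hX : ∀ x ∈ X, x ∈ twoPt G a t)
    (h3 : ∃ d : Ω, d ≠ a ∧ d ≠ t • a ∧ ∀ x ∈ X, x • d = d) :
    ∃ k ∈ Cfsg.invertedBy (twoPt G a t) t, ∀ x ∈ X, Commute (k * x * k⁻¹) t := by
  obtain ⟨u, hu, hu2, -, hua⟩ := exists_swap_invol hS hX h3
  have hy := mem_invertedBy_of_swap hS hu2 hua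
  set y := u * t
  refine ⟨oddRoot y⁻¹, oddRoot_mem_invertedBy hS.mul_self (inv_mem_invertedBy hS.mul_self hy),
    fun x hx => ?_⟩
  have hk : oddRoot y⁻¹ * oddRoot y⁻¹ = y⁻¹ :=
    oddRoot_mul_self (odd_orderOf_of_mem hS.odd_card (inv_mem hy.1))
  have hk2 := ((mem_invertedBy hS.mul_self).mp
    (oddRoot_mem_invertedBy hS.mul_self (inv_mem_invertedBy hS.mul_self hy))).2
  set k := oddRoot y⁻¹
  have huk : k * u * k⁻¹ = t := by
    have h1 : u = y * t := by simp [y, mul_assoc, hS.mul_self]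
    have h2 : t * k⁻¹ = k * t := by
      rw [← hk2]
      simp only [← mul_assoc, hS.mul_self, one_mul]
    have h3' : y = (k * k)⁻¹ := by rw [hk, inv_inv]
    rw [h1, mul_assoc k (y * t), mul_assoc y t, h2, h3']
    simp [mul_assoc]
  have h := mem_centralizer_iff.mp hu x hx
  rw [← huk]
  show k * x * k⁻¹ * (k * u * k⁻¹) = k * u * k⁻¹ * (k * x * k⁻¹)
  calc k * x * k⁻¹ * (k * u * k⁻¹) = k * (x * u) * k⁻¹ := by simp [mul_assoc]
    _ = k * (u * x) * k⁻¹ := by rw [h]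
    _ = k * u * k⁻¹ * (k * x * k⁻¹) := by simp [mul_assoc]

/-- A non-identity inverted element of `D` fixes no third point. -/
theorem inverted_fixes_two [Finite G] (hS : Cfsg.IsRankOneSetup G Ω a t Q) {x : G}
    (hx : x ∈ Cfsg.invertedBy (twoPt G a t) t) (hx1 : x ≠ 1) {c : Ω} (hc : x • c = c) :
    c = a ∨ c = t • a := by
  by_contra h
  push Not at h
  obtain ⟨u, hu, hu2, -, hua⟩ := exists_swap_invol hS (X := {x}) (by intro y hy; rw [Set.mem_singleton_iff.mp hy]; exact hx.1)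
    ⟨c, h.1, h.2, by simp [hc]⟩
  have hy := mem_invertedBy_of_swap hS hu2 hua
  have hux : u * x = x * u := (mem_centralizer_iff.mp hu x rfl).symm
  set y := u * t
  have h1 : y * x⁻¹ * y⁻¹ = x := by
    rw [← ((mem_invertedBy hS.mul_self).mp hx).2]
    simp only [y, mul_inv_rev, t_inv hS, mul_assoc]
    simp only [← mul_assoc t t, hS.mul_self, one_mul]
    rw [← mul_assoc u x, hux, mul_assoc, mul_inv_cancel, mul_one]
  have h2 : Commute (y * y) x := by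
    show y * y * x = x * (y * y)
    have a1 : y * x⁻¹ = x * y := mul_inv_eq_iff_eq_mul.mp h1
    have a2 : y * x = x⁻¹ * y := by
      rw [eq_inv_mul_iff_mul_eq, ← mul_assoc, ← a1, inv_mul_cancel_right]
    rw [mul_assoc, a2, ← mul_assoc, a1, mul_assoc]
  have h3 := commute_of_commute_sq hS.odd_card hy.1 h2
  rw [h3.inv_right.eq, mul_inv_cancel_right] at h1
  exact hx1 (eq_one_of_sq_eq_one hS.odd_card hx.1 (by nth_rw 2 [← h1]; exact mul_inv_cancel x))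

theorem inf_centralizer_inverted [Finite G] (hS : Cfsg.IsRankOneSetup G Ω a t Q) {x : G}
    (hx : x ∈ Cfsg.invertedBy (twoPt G a t) t) (hx1 : x ≠ 1) : Q ⊓ centralizer {x} = ⊥ := by
  refine eq_bot_iff.mpr fun q ⟨hq, hqx⟩ => Subgroup.mem_bot.mpr ?_
  have h : q * x = x * q := mem_centralizer_singleton_iff.mp hqx
  have h1 : x • (q • (t • a)) = q • (t • a) := by
    rw [← mul_smul, ← h, mul_smul, (mem_twoPt.mp hx.1).2]
  rcases inverted_fixes_two hS hx hx1 h1 with h2 | h2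
  · exact absurd h2 (Q_smul_ne hS hq (t_smul_ne hS))
  · exact eq_one_of_mem hS hq h2

end Cfsg.Agent.RankOne
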