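import Cfsg.Agent.Fusion.RankTwo

/-!
A `p`-group of linear maps (`p` odd) all whose stabilisers of non-zero vectors have the same order
is cyclic and fixed-point-free.
-/

set_option autoImplicit false

namespace Cfsg.Agent.RankOne

variable {P E : Type*} [Group P] [AddCommGroup E] [DistribMulAction P E] {p : ℕ}

/-- The orbit sum of a vector under the powers of `u`. -/
def nsum (p : ℕ) (u : P) (v : E) : E := ∑ i ∈ Finset.range p, u ^ i • v

theorem nsum_add (u : P) (v w : E) : nsum p u (v + w) = nsum p u v + nsum p u w := by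
  simp [nsum, smul_add, Finset.sum_add_distrib]

theorem nsum_sub (u : P) (v w : E) : nsum p u (v - w) = nsum p u v - nsum p u w := by
  simp [nsum, smul_sub, Finset.sum_sub_distrib]

theorem nsum_nsmul (u : P) (n : ℕ) (v : E) : nsum p u (n • v) = n • nsum p u v := by
  simp only [nsum, Finset.smul_sum, smul_comm _ n]

theorem smul_nsum {u : P} (hu : u ^ p = 1) (v : E) : u • nsum p u v = nsum p u v := by
  have h : ∑ i ∈ Finset.range (p + 1), u ^ i • v = nsum p u v + v := by
    rw [Finset.sum_range_succ, hu, one_smul]; rfl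
  rw [Finset.sum_range_succ', pow_zero, one_smul] at h
  conv_lhs => rw [nsum, Finset.smul_sum]
  simpa only [smul_smul, ← pow_succ'] using add_right_cancel h

theorem nsum_of_fixed {u : P} {v : E} (h : u • v = v) : nsum p u v = p • v := by
  have : ∀ i : ℕ, u ^ i • v = v := by
    intro i
    induction i with
    | zero => rw [pow_zero, one_smul]
    | succ i ih => rw [pow_succ, mul_smul, h, ih]
  simp [nsum, this]

theorem nsum_comm {u g : P} (h : Commute u g) (v : E) : nsum p u (g • v) = g • nsum p u v := by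
  simp only [nsum, Finset.smul_sum, smul_smul]
  exact Finset.sum_congr rfl fun i _ => by rw [(h.pow_left i).eq]

theorem nsum_nsum {z w : P} (h : Commute z w) (v : E) (j : ℕ) (hz : z ^ p = 1) :
    nsum p (z ^ j * w) (nsum p z v) = nsum p w (nsum p z v) := by
  have hfix : z • nsum p z v = nsum p z v := smul_nsum hz v
  have hzj : ∀ i : ℕ, z ^ i • nsum p z v = nsum p z v := by
    intro i
    induction i with
    | zero => rw [pow_zero, one_smul]
    | succ i ih => rw [pow_succ, mul_smul, hfix, ih]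
  show ∑ i ∈ Finset.range p, (z ^ j * w) ^ i • nsum p z v = ∑ i ∈ Finset.range p, w ^ i • nsum p z v
  refine Finset.sum_congr rfl fun i _ => ?_
  rw [(h.pow_left j).mul_pow, ← pow_mul, (h.pow_pow (j * i) i).eq, mul_smul, hzj]

variable [Finite P] [Fact p.Prime] {q : ℕ}

omit [Finite P] in
theorem p_smul_eq_zero (hq : q.Prime) (hpq : p ≠ q) (hE : ∀ e : E, q • e = 0) {v : E}
    (h : p • v = 0) : v = 0 := by
  have h1 : addOrderOf v ∣ p := addOrderOf_dvd_of_nsmul_eq_zero h
  have h2 : addOrderOf v ∣ q := addOrderOf_dvd_of_nsmul_eq_zero (hE v)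
  have h3 := Nat.dvd_gcd h1 h2
  rw [Nat.coprime_iff_gcd_eq_one.mp
    ((Nat.coprime_primes (Fact.out : p.Prime) hq).mpr hpq)] at h3
  exact AddMonoid.addOrderOf_eq_one_iff.mp (Nat.dvd_one.mp h3)

theorem stabilizer_eq_of_pair
    (hconst : ∀ a b : E, a ≠ 0 → b ≠ 0 →
      Nat.card (MulAction.stabilizer P a) = Nat.card (MulAction.stabilizer P b))
    {a b : E} (ha : a ≠ 0) (hb : b ≠ 0) (hab : a + b ≠ 0)
    (h : ∀ g : P, g • (a + b) = a + b → g • a = a ∧ g • b = b) :
    MulAction.stabilizer P a = MulAction.stabilizer P b := by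
  have h1 : MulAction.stabilizer P (a + b) = MulAction.stabilizer P a :=
    Subgroup.eq_of_le_of_card_ge (fun g hg => (h g hg).1) (hconst a (a + b) ha hab).le
  have h2 : MulAction.stabilizer P (a + b) = MulAction.stabilizer P b :=
    Subgroup.eq_of_le_of_card_ge (fun g hg => (h g hg).2) (hconst b (a + b) hb hab).le
  rw [← h1, h2]

variable [FaithfulSMul P E]

/-- Central elements of order `p` fix no non-zero vector. -/
theorem central_free (hq : q.Prime) (hpq : p ≠ q) (hE : ∀ e : E, q • e = 0)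
    (hconst : ∀ a b : E, a ≠ 0 → b ≠ 0 →
      Nat.card (MulAction.stabilizer P a) = Nat.card (MulAction.stabilizer P b))
    {z : P} (hz : ∀ g : P, Commute z g) (hzp : z ^ p = 1) (hz1 : z ≠ 1) {a : E} (ha : z • a = a) :
    a = 0 := by
  by_contra ha0
  obtain ⟨v, hv⟩ : ∃ v : E, z • v ≠ v := by
    by_contra h
    push Not at h
    exact hz1 (FaithfulSMul.eq_of_smul_eq_smul (α := E) fun v => by rw [h v, one_smul])
  set b := p • v - nsum p z v with hb
  have hNb : nsum p z b = 0 := by
    rw [hb, nsum_sub, nsum_nsmul, nsum_of_fixed (smul_nsum hzp v), sub_self]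
  have hNa : nsum p z a = p • a := nsum_of_fixed ha
  have hb0 : b ≠ 0 := by
    intro h
    apply hv
    have h1 : p • v = nsum p z v := sub_eq_zero.mp h
    have h2 : p • (z • v - v) = 0 := by
      rw [smul_sub, ← smul_comm z p v, h1, smul_nsum hzp, sub_self]
    exact sub_eq_zero.mp (p_smul_eq_zero hq hpq hE h2)
  have hab : a + b ≠ 0 := by
    intro h
    have h1 : nsum p z (a + b) = 0 := by rw [h]; simp [nsum]
    rw [nsum_add, hNa, hNb, add_zero] at h1
    exact ha0 (p_smul_eq_zero hq hpq hE h1)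
  have key := stabilizer_eq_of_pair hconst ha0 hb0 hab (fun g hg => by
    have h1 := congrArg (nsum p z) hg
    rw [nsum_comm (hz g), nsum_add, hNa, hNb, add_zero, smul_comm g p a] at h1
    have h2 : g • a = a :=
      sub_eq_zero.mp (p_smul_eq_zero hq hpq hE (by rw [smul_sub, h1, sub_self]))
    rw [smul_add, h2] at hg
    exact ⟨h2, add_left_cancel hg⟩)
  have hzb : z • b = b := by
    have : z ∈ MulAction.stabilizer P b := key ▸ ha
    exact this
  rw [nsum_of_fixed hzb] at hNb
  exact hb0 (p_smul_eq_zero hq hpq hE hNb)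

theorem isCyclic_of_const (hp2 : p ≠ 2) (hP : IsPGroup p P) (hq : q.Prime) (hpq : p ≠ q)
    (hE : ∀ e : E, q • e = 0) [Nontrivial E]
    (hconst : ∀ a b : E, a ≠ 0 → b ≠ 0 →
      Nat.card (MulAction.stabilizer P a) = Nat.card (MulAction.stabilizer P b)) : IsCyclic P := by
  have hpp : p.Prime := Fact.out
  by_contra hnc
  obtain ⟨A, hAn, hA, hAcard⟩ := Fusion.exists_normal_elementary_card_sq hp2 hP hnc
  have hAab : ∀ x ∈ A, ∀ y ∈ A, Commute x y := fun x hx y hy =>
    congrArg Subtype.val (hA.1.is_comm.comm (⟨x, hx⟩ : A) ⟨y, hy⟩)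
  have hAp : ∀ x ∈ A, x ^ p = 1 := hA.2
  -- a central element `z` of `A`
  have hAne : A ≠ ⊥ := by
    intro h
    rw [h, Subgroup.card_bot] at hAcard
    have := hpp.two_le
    nlinarith
  obtain ⟨z, hzA, hzc, hz1⟩ : ∃ z ∈ A, z ∈ Subgroup.center P ∧ z ≠ 1 := by
    obtain ⟨z, hz, hz1⟩ := (Subgroup.bot_or_exists_ne_one _).resolve_left
      (Fusion.pGroup_inf_center_ne_bot hP A hAne)
    exact ⟨z, hz.1, hz.2, hz1⟩
  have hzcomm : ∀ g : P, Commute z g := fun g => (Subgroup.mem_center_iff.mp hzc g).symm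
  have hzp : z ^ p = 1 := hAp z hzA
  have free := fun (a : E) => central_free hq hpq hE hconst hzcomm hzp hz1 (a := a)
  -- `w ∈ A` outside `⟨z⟩`
  obtain ⟨w₀, hw₀A, hw₀⟩ : ∃ w ∈ A, w ∉ Subgroup.zpowers z := by
    by_contra h
    push Not at h
    have h1 := Subgroup.card_dvd_of_le (show A ≤ Subgroup.zpowers z from h)
    rw [hAcard, Nat.card_zpowers] at h1
    have h2 := Nat.le_of_dvd (orderOf_pos z) h1
    have h3 := Nat.le_of_dvd hpp.pos (orderOf_dvd_of_pow_eq_one hzp)
    have := hpp.two_le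
    nlinarith
  -- some element `z ^ k * w₀` fixes a non-zero vector
  obtain ⟨k, v, hkv⟩ : ∃ (k : ℕ) (v : E), nsum p (z ^ k * w₀) v ≠ 0 := by
    by_contra h
    push Not at h
    obtain ⟨v, hv⟩ := exists_ne (0 : E)
    apply hv
    have hz0 : ∀ u : E, nsum p z u = 0 := fun u => free _ (smul_nsum hzp u)
    have hsum : ∑ i ∈ Finset.range p, nsum p (z ^ i * w₀) v = 0 :=
      Finset.sum_eq_zero fun i _ => h i v
    unfold nsum at hsum
    rw [Finset.sum_comm] at hsum
    have hterm : ∀ m ∈ Finset.range p, m ≠ 0 →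
        ∑ i ∈ Finset.range p, (z ^ i * w₀) ^ m • v = 0 := by
      intro m hm hm0
      have hzm : nsum p (z ^ m) (w₀ ^ m • v) = 0 := by
        refine free _ ?_
        -- the orbit sum of `z ^ m` is fixed by `z`
        have hcop : Nat.Coprime m p := ((Nat.Prime.coprime_iff_not_dvd hpp).mpr fun hd =>
          absurd (Nat.le_of_dvd (Nat.pos_of_ne_zero hm0) hd) (by
            have := Finset.mem_range.mp hm; omega)).symm
        obtain ⟨j, hj⟩ : ∃ j : ℕ, (z ^ m) ^ j = z := by
          obtain ⟨j, -, hj⟩ := Nat.exists_mul_mod_eq_one_of_coprime hcop hpp.one_lt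
          refine ⟨j, ?_⟩
          rw [← pow_mul, ← Nat.mod_add_div (m * j) p, hj, pow_add, pow_mul, hzp, one_pow, mul_one,
            pow_one]
        have hfix : z ^ m • nsum p (z ^ m) (w₀ ^ m • v) = nsum p (z ^ m) (w₀ ^ m • v) :=
          smul_nsum (by rw [← pow_mul, mul_comm, pow_mul, hzp, one_pow]) _
        have hfixj : ∀ j : ℕ, (z ^ m) ^ j • nsum p (z ^ m) (w₀ ^ m • v) =
            nsum p (z ^ m) (w₀ ^ m • v) := by
          intro j
          induction j with
          | zero => rw [pow_zero, one_smul]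
          | succ j ih => rw [pow_succ, mul_smul, hfix, ih]
        nth_rw 1 [← hj]
        exact hfixj j
      rw [← hzm]
      unfold nsum
      refine Finset.sum_congr rfl fun i _ => ?_
      rw [((hzcomm w₀).pow_left i).mul_pow, mul_smul, ← pow_mul, ← pow_mul, mul_comm]
    rw [Finset.sum_eq_single_of_mem 0 (Finset.mem_range.mpr hpp.pos) hterm] at hsum
    simp only [pow_zero, one_smul, Finset.sum_const, Finset.card_range] at hsum
    exact p_smul_eq_zero hq hpq hE hsum
  obtain ⟨w, hwdef⟩ : ∃ w, w = z ^ k * w₀ := ⟨_, rfl⟩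
  rw [← hwdef] at hkv
  have hwA : w ∈ A := hwdef ▸ A.mul_mem (A.pow_mem hzA k) hw₀A
  have hwz : w ∉ Subgroup.zpowers z := fun h => hw₀ (by
    have h1 := mul_mem (inv_mem (pow_mem (Subgroup.mem_zpowers z) k)) h
    rwa [hwdef, inv_mul_cancel_left] at h1)
  set a := nsum p w v
  have hwa : w • a = a := smul_nsum (hAp w hwA) v
  have hwc : w ∉ Subgroup.center P := fun h =>
    hkv (central_free hq hpq hE hconst (fun g => (Subgroup.mem_center_iff.mp h g).symm) (hAp w hwA)
      (fun h1 => hwz (h1 ▸ one_mem _)) hwa)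
  -- `A` consists of the `z ^ i * w ^ l`, and conjugation maps `w` into `⟨z⟩ w`
  have hzord : orderOf z = p := orderOf_eq_prime hzp hz1
  have hword : orderOf w = p := orderOf_eq_prime (hAp w hwA) fun h1 => hwz (h1 ▸ one_mem _)
  let f : ℕ × ℕ → P := fun x => z ^ x.1 * w ^ x.2
  have hspan : ∀ x ∈ A, ∃ i < p, ∃ l < p, x = z ^ i * w ^ l := by
    let φ : Fin p × Fin p → A :=
      fun x => ⟨z ^ (x.1 : ℕ) * w ^ (x.2 : ℕ), A.mul_mem (A.pow_mem hzA _) (A.pow_mem hwA _)⟩
    have hinj : Function.Injective φ := by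
      rintro ⟨i₁, l₁⟩ ⟨i₂, l₂⟩ h
      have h : z ^ (i₁ : ℕ) * w ^ (l₁ : ℕ) = z ^ (i₂ : ℕ) * w ^ (l₂ : ℕ) := congrArg Subtype.val h
      have hmem : w ^ ((l₁ : ℤ) - l₂) ∈ Subgroup.zpowers z := by
        have e : w ^ ((l₁ : ℤ) - l₂) = (z ^ (i₁ : ℕ))⁻¹ * z ^ (i₂ : ℕ) := by
          rw [zpow_sub, zpow_natCast, zpow_natCast, eq_inv_mul_iff_mul_eq, ← mul_assoc, h,
            mul_inv_cancel_right]
        exact e ▸ mul_mem (inv_mem (pow_mem (Subgroup.mem_zpowers z) _))
          (pow_mem (Subgroup.mem_zpowers z) _)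
      have hl : (l₁ : ℕ) = l₂ := by
        by_contra hne
        apply hwz
        obtain ⟨s, t, hst⟩ := Int.isCoprime_iff_gcd_eq_one.mpr
          (show Int.gcd ((l₁ : ℤ) - l₂) (p : ℤ) = 1 by
            rw [Int.gcd_comm, ← Int.isCoprime_iff_gcd_eq_one]
            refine (Nat.prime_iff_prime_int.mp hpp).coprime_iff_not_dvd.mpr fun hd => ?_
            have h1 := l₁.isLt
            have h2 := l₂.isLt
            rcases lt_or_gt_of_ne hne with hlt | hlt
            · have := Int.le_of_dvd (by omega) (dvd_neg.mpr hd); omega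
            · have := Int.le_of_dvd (by omega) hd; omega)
        have e : w = (w ^ ((l₁ : ℤ) - l₂)) ^ s := by
          calc w = w ^ (s * ((l₁ : ℤ) - l₂) + t * (p : ℤ)) := by rw [hst, zpow_one]
            _ = _ := by
              rw [zpow_add, ← zpow_mul, mul_comm s, mul_comm t, zpow_mul w (p : ℤ) t,
                zpow_natCast, hAp w hwA, one_zpow, mul_one]
        rw [e]
        exact zpow_mem hmem s
      rw [hl] at h
      have hi : (i₁ : ℕ) = i₂ :=
        pow_injOn_Iio_orderOf (by rw [hzord]; exact i₁.isLt) (by rw [hzord]; exact i₂.isLt)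
          (mul_right_cancel h)
      exact Prod.ext (Fin.ext hi) (Fin.ext hl)
    have hbij : Function.Bijective φ :=
      (Nat.bijective_iff_injective_and_card _).mpr ⟨hinj, by
        rw [hAcard, Nat.card_prod, Nat.card_eq_fintype_card, Fintype.card_fin, pow_two]⟩
    intro x hx
    obtain ⟨⟨i, l⟩, h⟩ := hbij.2 ⟨x, hx⟩
    exact ⟨i, i.isLt, l, l.isLt, (congrArg Subtype.val h).symm⟩
  have hconj : ∀ g : P, ∃ i < p, g * w * g⁻¹ = z ^ i * w := by
    intro g
    obtain ⟨i, hi, l, hl, e⟩ := hspan _ (hAn.conj_mem w hwA g)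
    suffices l = 1 by exact ⟨i, hi, by rw [e, this, pow_one]⟩
    obtain ⟨n, hn⟩ := hP g
    have hiter : ∀ m : ℕ, ∃ c ∈ Subgroup.zpowers z, g ^ m * w * (g ^ m)⁻¹ = c * w ^ (l ^ m) := by
      intro m
      induction m with
      | zero => exact ⟨1, one_mem _, by simp⟩
      | succ m ih =>
        obtain ⟨c, hc, hm⟩ := ih
        refine ⟨c * (z ^ i) ^ (l ^ m), mul_mem hc (pow_mem (pow_mem (Subgroup.mem_zpowers z) i) _),
          ?_⟩
        have hgc : g * c * g⁻¹ = c := by
          obtain ⟨j, rfl⟩ := Subgroup.mem_zpowers_iff.mp hc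
          rw [((hzcomm g).zpow_left j).symm.eq, mul_inv_cancel_right]
        calc g ^ (m + 1) * w * (g ^ (m + 1))⁻¹ = g * (g ^ m * w * (g ^ m)⁻¹) * g⁻¹ := by
              rw [pow_succ']; simp [mul_assoc]
          _ = (g * c * g⁻¹) * (g * w * g⁻¹) ^ (l ^ m) := by
              rw [hm, conj_pow]; simp [mul_assoc]
          _ = _ := by
              rw [hgc, e, ((hzcomm w).pow_pow i l).mul_pow, ← pow_mul w l, ← pow_succ', mul_assoc]
    obtain ⟨c, hc, hm⟩ := hiter (p ^ n)
    rw [hn, inv_one, one_mul, mul_one] at hm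
    have hfer : ∀ m : ℕ, l ^ (p ^ m) ≡ l [MOD p] := by
      intro m
      induction m with
      | zero => simp [Nat.ModEq]
      | succ m ih =>
        rw [pow_succ, pow_mul]
        refine (ih.pow p).trans ?_
        rw [← ZMod.natCast_eq_natCast_iff]
        push_cast
        exact ZMod.pow_card _
    have h1 : w ^ l = w ^ (l ^ (p ^ n)) := by
      rw [pow_eq_pow_iff_modEq, hword]; exact (hfer n).symm
    rw [← h1] at hm
    have h2 : z ^ 0 * w ^ 1 = c * w ^ l := by rw [pow_zero, one_mul, pow_one, ← hm]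
    by_contra hne
    apply hwz
    obtain ⟨j, rfl⟩ := Subgroup.mem_zpowers_iff.mp hc
    have h3 : w ^ ((1 : ℤ) - l) ∈ Subgroup.zpowers z := by
      have e3 : w ^ ((1 : ℤ) - l) = z ^ j := by
        rw [zpow_sub, zpow_one, zpow_natCast, mul_inv_eq_iff_eq_mul]; exact hm
      exact e3 ▸ zpow_mem (Subgroup.mem_zpowers z) j
    obtain ⟨s, t, hst⟩ := Int.isCoprime_iff_gcd_eq_one.mpr
      (show Int.gcd ((1 : ℤ) - l) (p : ℤ) = 1 by
        rw [Int.gcd_comm, ← Int.isCoprime_iff_gcd_eq_one]
        refine (Nat.prime_iff_prime_int.mp hpp).coprime_iff_not_dvd.mpr fun hd => ?_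
        rcases lt_or_gt_of_ne hne with hlt | hlt
        · have := Int.le_of_dvd (by omega) hd; have := hpp.two_le; omega
        · have := Int.le_of_dvd (by omega) (dvd_neg.mpr hd); omega)
    have e4 : w = (w ^ ((1 : ℤ) - l)) ^ s := by
      calc w = w ^ (s * ((1 : ℤ) - l) + t * (p : ℤ)) := by rw [hst, zpow_one]
        _ = _ := by
          rw [zpow_add, ← zpow_mul, mul_comm s, mul_comm t, zpow_mul w (p : ℤ) t,
            zpow_natCast, hAp w hwA, one_zpow, mul_one]
    rw [e4]
    exact zpow_mem h3 s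
  obtain ⟨g₀, hg₀⟩ : ∃ g : P, g * w * g⁻¹ ≠ w := by
    by_contra h
    push Not at h
    exact hwc (Subgroup.mem_center_iff.mpr fun g => mul_inv_eq_iff_eq_mul.mp (h g))
  obtain ⟨j, hj, hgj⟩ := hconj g₀
  have hj0 : j ≠ 0 := fun h => hg₀ (by rw [hgj, h, pow_zero, one_mul])
  set b := g₀ • a
  have hbw : (z ^ j * w) • b = b := by
    rw [← hgj, mul_smul, mul_smul, inv_smul_smul, hwa]
  -- orbit sums separate the fixed spaces
  have hsep : ∀ i m : ℕ, ¬ i ≡ m [MOD p] → ∀ x : E, (z ^ i * w) • x = x →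
      nsum p (z ^ m * w) x = 0 := by
    intro i m him x hx
    refine free _ ?_
    set y := nsum p (z ^ m * w) x
    have h1 : (z ^ m * w) • y = y :=
      smul_nsum (hAp _ (A.mul_mem (A.pow_mem hzA m) hwA)) x
    have h2 : (z ^ i * w) • y = y := by
      rw [← nsum_comm (hAab _ (A.mul_mem (A.pow_mem hzA m) hwA) _
        (A.mul_mem (A.pow_mem hzA i) hwA)), hx]
    have h3 : z ^ i • y = z ^ m • y := by
      have e1 := h2.trans h1.symm
      rw [((hzcomm w).pow_left i).eq, ((hzcomm w).pow_left m).eq, mul_smul, mul_smul] at e1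
      exact MulAction.injective w e1
    have h4 : (z ^ ((i : ℤ) - m)) • y = y := by
      rw [zpow_sub, ((Commute.refl z).zpow_zpow (i : ℤ) m).inv_right.eq, mul_smul, zpow_natCast,
        zpow_natCast, h3, inv_smul_smul]
    obtain ⟨s, t, hst⟩ := Int.isCoprime_iff_gcd_eq_one.mpr
      (show Int.gcd ((i : ℤ) - m) (p : ℤ) = 1 by
        rw [Int.gcd_comm, ← Int.isCoprime_iff_gcd_eq_one]
        exact (Nat.prime_iff_prime_int.mp hpp).coprime_iff_not_dvd.mpr fun hd =>
          him (Nat.modEq_iff_dvd.mpr (by rwa [← neg_sub, dvd_neg])))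
    have e : z = (z ^ ((i : ℤ) - m)) ^ s := by
      calc z = z ^ (s * ((i : ℤ) - m) + t * (p : ℤ)) := by rw [hst, zpow_one]
        _ = _ := by
          rw [zpow_add, ← zpow_mul, mul_comm s, mul_comm t, zpow_mul z (p : ℤ) t,
            zpow_natCast, hzp, one_zpow, mul_one]
    rw [e]
    have hst' : z ^ ((i : ℤ) - m) ∈ MulAction.stabilizer P y := h4
    exact zpow_mem hst' s
  have hmod : ∀ {x y : ℕ}, x < p → y < p → (x ≡ y [MOD p] ↔ x = y) := fun {x y} hx hy =>
    ⟨fun h => h.eq_of_lt_of_lt hx hy, fun h => h ▸ rfl⟩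
  have hNa : nsum p (z ^ 0 * w) a = p • a := nsum_of_fixed (by rw [pow_zero, one_mul]; exact hwa)
  have hNb : nsum p (z ^ 0 * w) b = 0 :=
    hsep j 0 (fun h => hj0 ((hmod hj hpp.pos).mp h)) b hbw
  have hb0 : b ≠ 0 := fun h => hkv ((smul_eq_zero_iff_eq g₀).mp h)
  have hab : a + b ≠ 0 := by
    intro h
    have h1 : nsum p (z ^ 0 * w) (a + b) = 0 := by rw [h]; simp [nsum]
    rw [nsum_add, hNa, hNb, add_zero] at h1
    exact hkv (p_smul_eq_zero hq hpq hE h1)
  have key := stabilizer_eq_of_pair hconst hkv hb0 hab (fun g hg => by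
    obtain ⟨i, hi, hgi⟩ := hconj g
    have hga : (z ^ i * w) • (g • a) = g • a := by
      rw [← hgi, mul_smul, mul_smul, inv_smul_smul, hwa]
    have hgb : (z ^ (i + j) * w) • (g • b) = g • b := by
      have e : g * (z ^ j * w) * g⁻¹ = z ^ (i + j) * w := by
        calc g * (z ^ j * w) * g⁻¹ = (g * z ^ j) * w * g⁻¹ := by simp [mul_assoc]
          _ = z ^ j * (g * w * g⁻¹) := by rw [((hzcomm g).pow_left j).symm.eq]; simp [mul_assoc]
          _ = z ^ (i + j) * w := by rw [hgi, ← mul_assoc, ← pow_add, add_comm]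
      rw [← e, mul_smul, mul_smul, inv_smul_smul, hbw]
    rw [smul_add] at hg
    have hi0 : i = 0 := by
      by_contra hi0
      by_cases hij : i = j
      · subst hij
        -- the component at `2 i`
        have h1 := congrArg (nsum p (z ^ (i + i) * w)) hg
        have hne0 : ¬ 0 ≡ i + i [MOD p] := by
          intro h
          have h' : p ∣ 2 * i := by
            have := (Nat.modEq_zero_iff_dvd.mp h.symm); rwa [two_mul]
          rcases hpp.dvd_mul.mp h' with h2 | h2
          · exact hp2 ((Nat.prime_dvd_prime_iff_eq hpp Nat.prime_two).mp h2)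
          · exact absurd (Nat.le_of_dvd (Nat.pos_of_ne_zero hi0) h2) (by omega)
        have hne1 : ¬ i ≡ i + i [MOD p] := by
          intro h
          have h' : 0 ≡ i [MOD p] := Nat.ModEq.add_left_cancel' i (by simpa using h)
          exact hi0 ((hmod hpp.pos hi).mp h').symm
        rw [nsum_add, nsum_add, hsep i (i + i) hne1 _ hga, nsum_of_fixed hgb,
          hsep 0 (i + i) hne0 a (by rw [pow_zero, one_mul]; exact hwa),
          hsep i (i + i) hne1 b hbw, zero_add, zero_add] at h1
        exact hb0 ((smul_eq_zero_iff_eq g).mp (p_smul_eq_zero hq hpq hE h1))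
      · have h1 := congrArg (nsum p (z ^ i * w)) hg
        have hne : ¬ i + j ≡ i [MOD p] := by
          intro h
          have h' : j ≡ 0 [MOD p] := Nat.ModEq.add_left_cancel' i (by simpa using h)
          exact hj0 ((hmod hj hpp.pos).mp h')
        rw [nsum_add, nsum_add, nsum_of_fixed hga, hsep (i + j) i hne _ hgb,
          hsep 0 i (fun h => hi0 ((hmod hpp.pos hi).mp h).symm) a
            (by rw [pow_zero, one_mul]; exact hwa),
          hsep j i (fun h => hij ((hmod hj hi).mp h).symm) b hbw, add_zero, add_zero] at h1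
        exact hkv ((smul_eq_zero_iff_eq g).mp (p_smul_eq_zero hq hpq hE h1))
    subst hi0
    rw [zero_add] at hgb
    have h1 := congrArg (nsum p (z ^ 0 * w)) hg
    rw [nsum_add, nsum_add, nsum_of_fixed hga,
      hsep j 0 (fun h => hj0 ((hmod hj hpp.pos).mp h)) _ hgb, hNa, hNb, add_zero, add_zero] at h1
    have h2 : g • a = a :=
      sub_eq_zero.mp (p_smul_eq_zero hq hpq hE (by rw [smul_sub, h1, sub_self]))
    rw [h2] at hg
    exact ⟨h2, add_left_cancel hg⟩)
  have hwb : w • b = b := by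
    have : w ∈ MulAction.stabilizer P b := key ▸ hwa
    exact this
  refine hb0 (p_smul_eq_zero hq hpq hE ?_)
  rw [← hNb, nsum_of_fixed (by rw [pow_zero, one_mul]; exact hwb)]

end Cfsg.Agent.RankOne
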