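import Mathlib

/-!
The integer profile of the restrictions of the irreducible characters to a trivial-intersection
abelian subgroup: there is a family of exceptional characters of small degree.
-/

set_option autoImplicit false

namespace Cfsg.Agent.RankOne

variable {X ι : Type*} [Fintype X] [Fintype ι] [DecidableEq X]

omit [Fintype ι] in
/-- An integer vector of squared length two and weighted sum zero, for positive weights. -/
theorem exists_pm_pair (d : X → ℤ) (w : X → ℤ) (hw : ∀ χ, 0 < w χ) (h2 : ∑ χ, d χ ^ 2 = 2)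
    (h0 : ∑ χ, d χ * w χ = 0) :
    ∃ a b : X, a ≠ b ∧ w a = w b ∧
      ∀ χ, d χ = (if χ = a then 1 else 0) - (if χ = b then 1 else 0) := by
  classical
  obtain ⟨a, ha⟩ : ∃ a, 0 < d a := by
    by_contra h
    push Not at h
    have hz : ∀ χ, d χ * w χ = 0 := fun χ =>
      (Finset.sum_eq_zero_iff_of_nonpos fun χ _ =>
        mul_nonpos_of_nonpos_of_nonneg (h χ) (hw χ).le).mp h0 χ (Finset.mem_univ χ)
    rw [Finset.sum_eq_zero fun χ _ => by
      rw [(mul_eq_zero.mp (hz χ)).resolve_right (hw χ).ne']; norm_num] at h2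
    norm_num at h2
  obtain ⟨b, hb⟩ : ∃ b, d b < 0 := by
    by_contra h
    push Not at h
    have := Finset.single_le_sum (fun χ _ => mul_nonneg (h χ) (hw χ).le) (Finset.mem_univ a)
    rw [h0] at this
    have := mul_pos ha (hw a)
    omega
  have hab : a ≠ b := by rintro rfl; omega
  have hsq : d a ^ 2 + d b ^ 2 + ∑ χ ∈ (Finset.univ.erase a).erase b, d χ ^ 2 = 2 := by
    rw [← h2, ← Finset.add_sum_erase _ _ (Finset.mem_univ a),
      ← Finset.add_sum_erase (Finset.univ.erase a) (fun χ => d χ ^ 2)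
        (Finset.mem_erase.mpr ⟨hab.symm, Finset.mem_univ b⟩), add_assoc]
  have hnn : (0 : ℤ) ≤ ∑ χ ∈ (Finset.univ.erase a).erase b, d χ ^ 2 :=
    Finset.sum_nonneg fun χ _ => sq_nonneg _
  have hda : d a = 1 := by nlinarith
  have hdb : d b = -1 := by nlinarith
  have hrest : ∀ χ, χ ≠ a → χ ≠ b → d χ = 0 := by
    intro χ h1 h2'
    have hz : ∑ χ ∈ (Finset.univ.erase a).erase b, d χ ^ 2 = 0 := by
      rw [hda, hdb] at hsq; omega
    exact sq_eq_zero_iff.mp ((Finset.sum_eq_zero_iff_of_nonneg fun χ _ => sq_nonneg _).mp hz χ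
      (Finset.mem_erase.mpr ⟨h2', Finset.mem_erase.mpr ⟨h1, Finset.mem_univ χ⟩⟩))
  have hall : ∀ χ, d χ = (if χ = a then 1 else 0) - (if χ = b then 1 else 0) := by
    intro χ
    by_cases h1 : χ = a
    · subst h1; simp [hda, hab]
    by_cases h2' : χ = b
    · subst h2'; simp [hdb, h1]
    · simp [hrest χ h1 h2', h1, h2']
  refine ⟨a, b, hab, ?_, hall⟩
  simp_rw [hall, sub_mul, ite_mul, one_mul, zero_mul, Finset.sum_sub_distrib,
    Finset.sum_ite_eq' Finset.univ, Finset.mem_univ, if_true, sub_eq_zero] at h0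
  exact h0

/-- The star lemma: pairwise differences of squared length two come from a single family. -/
theorem exists_star (m : X → ι → ℤ) (w : X → ℤ) (hw : ∀ χ, 0 < w χ) (hcard : 5 ≤ Fintype.card ι)
    (h2 : ∀ i j, i ≠ j → ∑ χ, (m χ i - m χ j) ^ 2 = 2)
    (h0 : ∀ i j, ∑ χ, (m χ i - m χ j) * w χ = 0) :
    ∃ (ξ : ι → X) (ε : ℤ), (ε = 1 ∨ ε = -1) ∧ Function.Injective ξ ∧ (∀ i j, w (ξ i) = w (ξ j)) ∧
      ∀ i j χ, m χ i - m χ j = ε * ((if χ = ξ i then 1 else 0) - (if χ = ξ j then 1 else 0)) := by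
  classical
  obtain ⟨o⟩ : Nonempty ι := Fintype.card_pos_iff.mp (by omega)
  have hpair : ∀ i : ι, ∃ a b : X, i ≠ o → a ≠ b ∧ w a = w b ∧
      ∀ χ, m χ i - m χ o = (if χ = a then 1 else 0) - (if χ = b then 1 else 0) := by
    intro i
    by_cases hi : i = o
    · obtain ⟨j, hj⟩ := Fintype.exists_ne_of_one_lt_card (by omega) o
      obtain ⟨a, b, -, -, -⟩ := exists_pm_pair _ w hw (h2 j o hj) (h0 j o)
      exact ⟨a, b, fun h => absurd hi h⟩
    · obtain ⟨a, b, h⟩ := exists_pm_pair _ w hw (h2 i o hi) (h0 i o)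
      exact ⟨a, b, fun _ => h⟩
  choose a b hab using hpair
  have hshare : ∀ i j, i ≠ o → j ≠ o → i ≠ j →
      (a i = a j ∧ b i ≠ b j) ∨ (b i = b j ∧ a i ≠ a j) := by
    intro i j hi hj hij
    obtain ⟨hne1, -, e1⟩ := hab i hi
    obtain ⟨hne2, -, e2⟩ := hab j hj
    have h := h2 i j hij
    have hexp : ∀ χ, (m χ i - m χ j) ^ 2 = (m χ i - m χ o) ^ 2 + (m χ j - m χ o) ^ 2 -
        2 * ((if χ = a i then (1 : ℤ) else 0) * (m χ j - m χ o)) +
        2 * ((if χ = b i then (1 : ℤ) else 0) * (m χ j - m χ o)) := by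
      intro χ
      rw [show m χ i - m χ j = (m χ i - m χ o) - (m χ j - m χ o) by ring, e1]
      ring
    rw [Finset.sum_congr rfl fun χ _ => hexp χ, Finset.sum_add_distrib, Finset.sum_sub_distrib,
      Finset.sum_add_distrib, h2 i o hi, h2 j o hj, ← Finset.mul_sum, ← Finset.mul_sum] at h
    simp only [ite_mul, one_mul, zero_mul, Finset.sum_ite_eq', Finset.mem_univ, if_true] at h
    rw [e2, e2] at h
    have hne1' := hne1.symm
    have hne2' := hne2.symm
    by_cases c1 : a i = a j <;> by_cases c2 : b i = b j <;>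
      by_cases c3 : a i = b j <;> by_cases c4 : b i = a j <;> simp_all
  have hstar : (∀ i j, i ≠ o → j ≠ o → a i = a j) ∨ (∀ i j, i ≠ o → j ≠ o → b i = b j) := by
    by_contra hcon
    push Not at hcon
    obtain ⟨⟨i, j, hi, hj, hA⟩, ⟨k, l, hk, hl, hB⟩⟩ := hcon
    have hij : i ≠ j := fun e => hA (by rw [e])
    have hkl : k ≠ l := fun e => hB (by rw [e])
    have hbij : b i = b j := ((hshare i j hi hj hij).resolve_left fun h => hA h.1).1
    have hakl : a k = a l := ((hshare k l hk hl hkl).resolve_right fun h => hB h.1).1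
    obtain ⟨p, hp, hpi, hpj⟩ : ∃ p, p ≠ o ∧ p ≠ i ∧ p ≠ j ∧ b p ≠ b i := by
      by_cases hk' : b k = b i
      · refine ⟨l, hl, ?_, ?_, fun e => hB (hk'.trans e.symm)⟩
        · rintro rfl; exact hB hk'
        · rintro rfl; exact hB (hk'.trans hbij)
      · refine ⟨k, hk, ?_, ?_, hk'⟩
        · rintro rfl; exact hk' rfl
        · rintro rfl; exact hk' hbij.symm
    have h1 : a p = a i := ((hshare p i hp hi hpi).resolve_right fun h => hpj.2 h.1).1
    have h2' : a p = a j :=
      ((hshare p j hp hj hpj.1).resolve_right fun h => hpj.2 (h.1.trans hbij.symm)).1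
    exact hA (h1.symm.trans h2')
  obtain ⟨p, hp⟩ := Fintype.exists_ne_of_one_lt_card (by omega) o
  rcases hstar with hs | hs
  · refine ⟨fun i => if i = o then a p else b i, -1, Or.inr rfl, ?_, ?_, ?_⟩
    · intro i j e
      by_contra hij
      by_cases hi : i = o <;> by_cases hj : j = o <;> simp only [hi, hj, if_true, if_false] at e
      · exact hij (hi.trans hj.symm)
      · exact (hab j hj).1 ((hs j p hj hp).trans e)
      · exact (hab i hi).1 ((hs i p hi hp).trans e.symm)
      · exact ((hshare i j hi hj hij).resolve_right fun h => h.2 (hs i j hi hj)).2 e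
    · have : ∀ i, w (if i = o then a p else b i) = w (a p) := fun i => by
        split_ifs with hi
        · rfl
        · rw [← (hab i hi).2.1, hs i p hi hp]
      exact fun i j => (this i).trans (this j).symm
    · have key : ∀ i χ, m χ i - m χ o = -1 * ((if χ = (if i = o then a p else b i) then 1 else 0) -
          (if χ = a p then 1 else 0)) := by
        intro i χ
        by_cases hi : i = o
        · simp [hi]
        · rw [if_neg hi, (hab i hi).2.2, hs i p hi hp]; ring
      intro i j χ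
      rw [show m χ i - m χ j = (m χ i - m χ o) - (m χ j - m χ o) by ring, key, key]
      ring
  · refine ⟨fun i => if i = o then b p else a i, 1, Or.inl rfl, ?_, ?_, ?_⟩
    · intro i j e
      by_contra hij
      by_cases hi : i = o <;> by_cases hj : j = o <;> simp only [hi, hj, if_true, if_false] at e
      · exact hij (hi.trans hj.symm)
      · exact (hab j hj).1 (e.symm.trans (hs p j hp hj))
      · exact (hab i hi).1 (e.trans (hs p i hp hi))
      · exact ((hshare i j hi hj hij).resolve_left fun h => h.2 (hs i j hi hj)).2 e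
    · have : ∀ i, w (if i = o then b p else a i) = w (b p) := fun i => by
        split_ifs with hi
        · rfl
        · rw [(hab i hi).2.1, hs i p hi hp]
      exact fun i j => (this i).trans (this j).symm
    · have key : ∀ i χ, m χ i - m χ o = 1 * ((if χ = (if i = o then b p else a i) then 1 else 0) -
          (if χ = b p then 1 else 0)) := by
        intro i χ
        by_cases hi : i = o
        · simp [hi]
        · rw [if_neg hi, (hab i hi).2.2, hs i p hi hp]; ring
      intro i j χ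
      rw [show m χ i - m χ j = (m χ i - m χ o) - (m χ j - m χ o) by ring, key, key]
      ring

/-- The exceptional characters of the profile have degree `n`. -/
theorem profile_exceptional (n q : ℤ) (hn : 3 ≤ n) (hq : (n + 1) ^ 2 ≤ q) (μ deg : X → ℤ)
    (m : X → ι → ℤ) (hμ : ∀ χ, 0 ≤ μ χ) (hm : ∀ χ i, 0 ≤ m χ i) (hpos : ∀ χ, 0 < deg χ)
    (hk : (Fintype.card ι : ℤ) * n = q - 1)
    (hdeg : ∀ χ, deg χ = μ χ + n * ∑ i, m χ i)
    (hpars : ∑ χ, (q * (μ χ ^ 2 + n * ∑ i, m χ i ^ 2) - deg χ ^ 2) = q * (q - 1))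
    (hnn : ∀ χ, 0 ≤ q * (μ χ ^ 2 + n * ∑ i, m χ i ^ 2) - deg χ ^ 2)
    (hsq : ∑ χ, deg χ ^ 2 = q * (q + 1) * n)
    (h2 : ∀ i j, i ≠ j → ∑ χ, (m χ i - m χ j) ^ 2 = 2)
    (h0 : ∀ i j, ∑ χ, (m χ i - m χ j) * deg χ = 0)
    (one : X) (hμ1 : μ one = 1) (hm1 : ∀ i, m one i = 0) :
    (∃ χ, deg χ = n) ∧ ∀ χ, deg χ < q - 1 → deg χ = n ∨ μ χ = deg χ := by
  classical
  have hk4 : n + 2 ≤ (Fintype.card ι : ℤ) := by nlinarith
  have hk5' : 5 ≤ Fintype.card ι := by omega
  obtain ⟨ξ, ε, hε, hinj, hw, hdiff⟩ := exists_star m deg hpos hk5' h2 h0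
  obtain ⟨o⟩ : Nonempty ι := Fintype.card_pos_iff.mp (by omega)
  have hconst : ∀ χ, (∀ i, χ ≠ ξ i) → ∀ i j, m χ i = m χ j := fun χ hχ i j => by
    have := hdiff i j χ
    rw [if_neg (hχ i), if_neg (hχ j)] at this
    omega
  -- the value of `m (ξ l)` away from `l`
  have hb : ∀ l, ∃ b, ∀ i, m (ξ l) i = b + ε * (if i = l then 1 else 0) := by
    intro l
    refine ⟨m (ξ l) l - ε, fun i => ?_⟩
    by_cases hil : i = l
    · subst hil; simp
    · have := hdiff l i (ξ l)
      rw [if_pos rfl, if_neg (fun e => hil (hinj e).symm)] at this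
      rw [if_neg hil]
      linarith
  choose b hb using hb
  have hε2 : ε * ε = 1 := by rcases hε with rfl | rfl <;> norm_num
  have hsum1 : ∀ l, ∑ i, m (ξ l) i = Fintype.card ι * b l + ε := by
    intro l
    simp_rw [hb l, Finset.sum_add_distrib, ← Finset.mul_sum, Finset.sum_ite_eq', Finset.mem_univ,
      if_true, Finset.sum_const, Finset.card_univ]
    simp
  have hsum2 : ∀ l, ∑ i, m (ξ l) i ^ 2 = Fintype.card ι * b l ^ 2 + 2 * b l * ε + 1 := by
    intro l
    have : ∀ i, m (ξ l) i ^ 2 = b l ^ 2 + (2 * b l * ε + 1) * (if i = l then 1 else 0) := by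
      intro i
      rw [hb l i]
      split_ifs
      · linear_combination hε2
      · ring
    simp_rw [this, Finset.sum_add_distrib, ← Finset.mul_sum, Finset.sum_ite_eq', Finset.mem_univ,
      if_true, Finset.sum_const, Finset.card_univ]
    simp
    ring
  have hd : ∀ l, deg (ξ l) = μ (ξ l) - b l + q * b l + n * ε := fun l => by
    rw [hdeg, hsum1, mul_add, ← mul_assoc, mul_comm n (Fintype.card ι : ℤ), hk]
    ring
  -- the contribution of `ξ l`
  have hP : ∀ l, q * (μ (ξ l) ^ 2 + n * ∑ i, m (ξ l) i ^ 2) - deg (ξ l) ^ 2 =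
      (q - 1) * (μ (ξ l) - b l) ^ 2 - 2 * n * ε * (μ (ξ l) - b l) + q * n - n ^ 2 := fun l => by
    rw [hd, hsum2]
    linear_combination (q * b l ^ 2) * hk - n ^ 2 * hε2
  have hone : ∀ l, one ≠ ξ l := by
    intro l e
    have := hb l l
    rw [← e, hm1, if_pos rfl, mul_one] at this
    obtain ⟨i, hi⟩ := Fintype.exists_ne_of_one_lt_card (by omega) l
    have h' := hb l i
    rw [← e, hm1, if_neg hi, mul_zero, add_zero] at h'
    omega
  have hone' : q * (μ one ^ 2 + n * ∑ i, m one i ^ 2) - deg one ^ 2 = q - 1 := by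
    rw [hdeg, hμ1]
    simp [hm1]
  have hbound : ∀ l, q * (μ (ξ l) ^ 2 + n * ∑ i, m (ξ l) i ^ 2) - deg (ξ l) ^ 2 ≤ q * (q - 1) := by
    intro l
    rw [← hpars]
    exact Finset.single_le_sum (fun χ _ => hnn χ) (Finset.mem_univ (ξ l))
  have hceq : ∀ l, μ (ξ l) - b l = μ (ξ o) - b o := by
    intro l
    have hb' : ∀ l, 2 * |μ (ξ l) - b l| < q := by
      intro l
      have h := hbound l
      rw [hP] at h
      set c := μ (ξ l) - b l
      by_contra hlt
      push Not at hlt
      have h1 : c * c = |c| * |c| := (abs_mul_abs_self c).symm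
      have h2 : ε * c ≤ |c| := by
        rcases hε with rfl | rfl
        · simpa using le_abs_self c
        · simpa using neg_le_abs c
      have h4 : 16 ≤ q := by nlinarith
      have h5 : 4 * n ≤ q := by nlinarith
      have h6 : n ^ 2 ≤ q := by nlinarith
      nlinarith [mul_nonneg (show (0 : ℤ) ≤ 2 * |c| - q by linarith) (show (0 : ℤ) ≤ q - 1 by linarith),
        abs_nonneg c, mul_le_mul_of_nonneg_left h2 (show (0 : ℤ) ≤ 2 * n by linarith)]
    have e := hw l o
    rw [hd, hd] at e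
    have hdvd : q ∣ (μ (ξ l) - b l) - (μ (ξ o) - b o) := ⟨b o - b l, by linarith⟩
    have := Int.eq_zero_of_abs_lt_dvd hdvd (by
      have := hb' l
      have := hb' o
      calc |μ (ξ l) - b l - (μ (ξ o) - b o)| ≤ |μ (ξ l) - b l| + |μ (ξ o) - b o| := abs_sub _ _
        _ < q := by omega)
    omega
  set c := μ (ξ o) - b o
  -- `c = 0`
  have himg : ∀ (f : X → ℤ), ∑ χ ∈ Finset.univ.image ξ, f χ = ∑ l, f (ξ l) :=
    fun f => Finset.sum_image fun x _ y _ e => hinj e
  have hc : c = 0 := by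
    by_contra hc
    have hle : ∑ χ ∈ insert one (Finset.univ.image ξ),
        (q * (μ χ ^ 2 + n * ∑ i, m χ i ^ 2) - deg χ ^ 2) ≤ q * (q - 1) := by
      rw [← hpars]
      exact Finset.sum_le_sum_of_subset_of_nonneg (Finset.subset_univ _) fun χ _ _ => hnn χ
    rw [Finset.sum_insert (by simp [fun l => (hone l).symm]), himg, hone',
      Finset.sum_congr rfl fun l _ => by rw [hP, hceq], Finset.sum_const, Finset.card_univ,
      nsmul_eq_mul] at hle
    have h1 : 1 ≤ c * c := by nlinarith [mul_self_pos.mpr hc]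
    have h2 : ε * c ≤ c * c := by
      rcases hε with rfl | rfl
      · nlinarith [sq_nonneg (c - 1)]
      · nlinarith [sq_nonneg (c + 1)]
    have hkq : (Fintype.card ι : ℤ) * ((q - 1) * c ^ 2 - 2 * n * ε * c - n ^ 2) ≤ -(q - 1) := by
      have e : q * (q - 1) = (Fintype.card ι : ℤ) * (q * n) := by rw [← hk]; ring
      linarith
    have h3 : 0 ≤ (q - 1) * c ^ 2 - 2 * n * ε * c - n ^ 2 := by
      nlinarith [mul_le_mul_of_nonneg_left h2 (show (0 : ℤ) ≤ 2 * n by linarith),
        mul_le_mul_of_nonneg_right (show (n + 1) ^ 2 - 1 ≤ q - 1 by linarith)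
          (show (0 : ℤ) ≤ c * c by nlinarith)]
    have : 0 ≤ (Fintype.card ι : ℤ) * ((q - 1) * c ^ 2 - 2 * n * ε * c - n ^ 2) :=
      mul_nonneg (by positivity) h3
    nlinarith
  have hdo : ∀ l, deg (ξ l) = q * b l + n * ε := fun l => by
    rw [hd, show μ (ξ l) - b l = 0 from (hceq l).trans hc]; ring
  have hbo : b o = 0 := by
    by_contra hne
    have hb1 : 1 ≤ b o := by
      obtain ⟨i, hi⟩ := Fintype.exists_ne_of_one_lt_card (by omega) o
      have := hb o i
      rw [if_neg hi, mul_zero, add_zero] at this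
      have := hm (ξ o) i
      omega
    have hle : ∑ χ ∈ Finset.univ.image ξ, deg χ ^ 2 ≤ q * (q + 1) * n := by
      rw [← hsq]
      exact Finset.sum_le_sum_of_subset_of_nonneg (Finset.subset_univ _) fun χ _ _ => sq_nonneg _
    rw [himg, Finset.sum_congr rfl fun l _ => by rw [hw l o], Finset.sum_const, Finset.card_univ,
      nsmul_eq_mul] at hle
    have hdl : q - n ≤ deg (ξ o) := by
      rw [hdo]
      rcases hε with rfl | rfl <;> nlinarith
    have hqn : 0 ≤ q - n := by nlinarith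
    have h1 : (Fintype.card ι : ℤ) * n * (q - n) ^ 2 ≤ q * (q + 1) * n * n := by
      have : (q - n) ^ 2 ≤ deg (ξ o) ^ 2 := pow_le_pow_left₀ hqn hdl 2
      nlinarith
    rw [hk] at h1
    -- a cubic inequality in `q`
    obtain ⟨p, hp, rfl⟩ : ∃ p, 0 ≤ p ∧ q = (n + 1) ^ 2 + p := ⟨q - (n + 1) ^ 2, by linarith, by ring⟩
    nlinarith [mul_nonneg hp hp, mul_nonneg (mul_nonneg hp hp) hp, mul_nonneg hp (sq_nonneg n),
      mul_nonneg (mul_nonneg hp hp) (show (0 : ℤ) ≤ n by linarith),
      mul_nonneg hp (show (0 : ℤ) ≤ n by linarith), mul_nonneg (mul_nonneg hp (sq_nonneg n)) (sq_nonneg n),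
      mul_nonneg (mul_nonneg hp (sq_nonneg n)) (show (0 : ℤ) ≤ n by linarith)]
  have hε1 : ε = 1 := by
    rcases hε with rfl | rfl
    · rfl
    · have := hb o o
      rw [hbo, if_pos rfl] at this
      have := hm (ξ o) o
      omega
  have hdn : ∀ l, deg (ξ l) = n := fun l => by rw [hw l o, hdo, hbo, hε1]; ring
  refine ⟨⟨ξ o, hdn o⟩, fun χ hχ => ?_⟩
  by_cases h : ∃ l, χ = ξ l
  · obtain ⟨l, rfl⟩ := h
    exact Or.inl (hdn l)
  · push Not at h
    right
    have e : ∀ i, m χ i = m χ o := fun i => hconst χ h i o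
    rw [hdeg, Finset.sum_congr rfl fun i _ => e i, Finset.sum_const, Finset.card_univ,
      nsmul_eq_mul, ← mul_assoc, mul_comm n (Fintype.card ι : ℤ), hk] at hχ ⊢
    have : m χ o = 0 := by
      by_contra hne
      have := hm χ o
      have := hμ χ
      nlinarith [mul_le_mul_of_nonneg_left (show 1 ≤ m χ o by omega)
        (show (0:ℤ) ≤ q - 1 by nlinarith)]
    rw [this, mul_zero, add_zero]

end Cfsg.Agent.RankOne
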