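import Cfsg.Agent.RankOne.Zassenhaus
import Cfsg.Agent.RankOne.Profile
import Cfsg.Agent.Char.Ortho
import Cfsg.Agent.Char.Gen
import Cfsg.Agent.Char.Linear

/-!
In a simple three-free group of odd degree an abelian 2-group kernel has exponent two.
-/

set_option autoImplicit false

open Subgroup MulAction
open scoped ComplexConjugate

namespace Cfsg.Agent.RankOne.AbelianKernel

variable {G Ω : Type*} [Group G] [MulAction G Ω] {a : Ω} {t : G} {Q : Subgroup G}

theorem free (hT : IsThreeFree G Ω) (hS : Cfsg.IsRankOneSetup G Ω a t Q) {d u : G}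
    (hd : d ∈ twoPt G a t) (hu : u ∈ Q) (hu1 : u ≠ 1) (h : d * u = u * d) : d = 1 :=
  hT.three d a (t • a) (u • (t • a)) (t_smul_ne hS).symm
    (fun e => t_smul_ne hS (fixes_only hS hu hu1 e.symm)) (Q_smul_ne hS hu (t_smul_ne hS)).symm
    (mem_twoPt.mp hd).1 (mem_twoPt.mp hd).2 (by rw [← mul_smul, h, mul_smul, (mem_twoPt.mp hd).2])

theorem fix_of_conj (hS : Cfsg.IsRankOneSetup G Ω a t Q) {g u u' : G} (hu : u ∈ Q) (hu' : u' ∈ Q)
    (hu1 : u' ≠ 1) (h : g * u * g⁻¹ = u') : g ∈ stabilizer G a :=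
  fixes_only hS hu' hu1 (c := g • a) (by
    rw [← h, mul_smul, mul_smul, inv_smul_smul, smul_a_of_mem_Q hS hu])

theorem fusion (hS : Cfsg.IsRankOneSetup G Ω a t Q) (hab : ∀ x ∈ Q, ∀ y ∈ Q, x * y = y * x)
    {g u u' : G} (hu : u ∈ Q) (hu' : u' ∈ Q) (hu1 : u' ≠ 1) (h : g * u * g⁻¹ = u') :
    ∃ x ∈ Q, ∃ d ∈ twoPt G a t, g = x * d ∧ d * u * d⁻¹ = u' := by
  obtain ⟨x, hx, d, hd, rfl⟩ := stabilizer_split hS (fix_of_conj hS hu hu' hu1 h)
  have hdu := conj_mem_Q hS (twoPt_le hd) hu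
  refine ⟨x, hx, d, hd, rfl, ?_⟩
  rw [← h]
  calc d * u * d⁻¹ = x * (d * u * d⁻¹) * x⁻¹ := by rw [hab x hx _ hdu, mul_inv_cancel_right]
    _ = _ := by simp [mul_assoc]

theorem centralizer_eq (hT : IsThreeFree G Ω) (hS : Cfsg.IsRankOneSetup G Ω a t Q)
    (hab : ∀ x ∈ Q, ∀ y ∈ Q, x * y = y * x) {u : G} (hu : u ∈ Q) (hu1 : u ≠ 1) :
    centralizer ({u} : Set G) = Q := by
  ext g
  rw [mem_centralizer_singleton_iff]
  refine ⟨fun h => ?_, fun hg => hab g hg u hu⟩
  obtain ⟨x, hx, d, hd, rfl, e⟩ := fusion hS hab hu hu hu1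
    (mul_inv_eq_iff_eq_mul.mpr h : g * u * g⁻¹ = u)
  rw [free hT hS hd hu hu1 (mul_inv_eq_iff_eq_mul.mp e), mul_one]
  exact hx

/-- Conjugation by an element of the two-point stabiliser, as an endomorphism of `Q`. -/
def cj (hS : Cfsg.IsRankOneSetup G Ω a t Q) (d : twoPt G a t) : Q →* Q where
  toFun u := ⟨(d : G) * u * (d : G)⁻¹, conj_mem_Q hS (twoPt_le d.2) u.2⟩
  map_one' := Subtype.ext (by simp)
  map_mul' x y := Subtype.ext (by simp [mul_assoc])

theorem cj_cj (hS : Cfsg.IsRankOneSetup G Ω a t Q) (d d' : twoPt G a t) (u : Q) :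
    cj hS d (cj hS d' u) = cj hS (d * d') u :=
  Subtype.ext (by simp [cj, mul_assoc])

theorem cj_one (hS : Cfsg.IsRankOneSetup G Ω a t Q) (u : Q) : cj hS 1 u = u :=
  Subtype.ext (by simp [cj])

theorem cj_surjective (hS : Cfsg.IsRankOneSetup G Ω a t Q) (d : twoPt G a t) :
    Function.Surjective (cj hS d) := fun u => ⟨cj hS d⁻¹ u, by rw [cj_cj, mul_inv_cancel, cj_one]⟩

theorem cj_injective (hS : Cfsg.IsRankOneSetup G Ω a t Q) (d : twoPt G a t) :
    Function.Injective (cj hS d) := fun u u' h => by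
  simpa [cj_cj, cj_one] using congrArg (cj hS d⁻¹) h

theorem cj_free (hT : IsThreeFree G Ω) (hS : Cfsg.IsRankOneSetup G Ω a t Q) {d : twoPt G a t}
    {u : Q} (hu : u ≠ 1) (h : cj hS d u = u) : d = 1 :=
  Subtype.ext (free hT hS d.2 u.2 (fun e => hu (Subtype.ext e))
    (mul_inv_eq_iff_eq_mul.mp (congrArg Subtype.val h)))

theorem cj_orbit_inj (hT : IsThreeFree G Ω) (hS : Cfsg.IsRankOneSetup G Ω a t Q) {u : Q}
    (hu : u ≠ 1) : Function.Injective (fun d : twoPt G a t => cj hS d u) := fun d d' h => by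
  have h' : cj hS (d'⁻¹ * d) u = u := by
    rw [← cj_cj, show cj hS d u = cj hS d' u from h, cj_cj, inv_mul_cancel, cj_one]
  exact (inv_mul_eq_one.mp (cj_free hT hS hu h')).symm

/-- The action of `D` on the characters of `Q`. -/
def shift (hS : Cfsg.IsRankOneSetup G Ω a t Q) (d : twoPt G a t) (ψ : Cfsg.IrrCharacter Q) :
    Cfsg.IrrCharacter Q :=
  ⟨fun u => (ψ : Q → ℂ) (cj hS d u), Char.isIrrCharacter_comp _ (cj_surjective hS d) ψ.2⟩

theorem shift_shift (hS : Cfsg.IsRankOneSetup G Ω a t Q) (d d' : twoPt G a t)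
    (ψ : Cfsg.IrrCharacter Q) : shift hS d (shift hS d' ψ) = shift hS (d' * d) ψ :=
  Subtype.ext (funext fun u => congrArg (ψ : Q → ℂ) (cj_cj hS d' d u))

theorem shift_one (hS : Cfsg.IsRankOneSetup G Ω a t Q) (ψ : Cfsg.IrrCharacter Q) :
    shift hS 1 ψ = ψ :=
  Subtype.ext (funext fun u => congrArg (ψ : Q → ℂ) (cj_one hS u))

/-- The trivial character. -/
def triv (H : Type*) [Group H] : Cfsg.IrrCharacter H := ⟨fun _ => 1, Char.isIrrCharacter_one⟩

theorem shift_triv (hS : Cfsg.IsRankOneSetup G Ω a t Q) (d : twoPt G a t) :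
    shift hS d (triv Q) = triv Q := Subtype.ext rfl

theorem shift_free [Finite G] (hT : IsThreeFree G Ω) (hS : Cfsg.IsRankOneSetup G Ω a t Q)
    (hab : ∀ x ∈ Q, ∀ y ∈ Q, x * y = y * x) {d : twoPt G a t} {ψ : Cfsg.IrrCharacter Q}
    (h : shift hS d ψ = ψ) : d = 1 ∨ ψ = triv Q := by
  by_cases hd : d = 1
  · exact Or.inl hd
  refine Or.inr (Subtype.ext (funext fun u => ?_))
  obtain ⟨f, hf⟩ := Char.IsChar.exists_hom (Char.IsIrr.isCharacter ψ.2)
    (Char.IsIrr.degree_one_of_comm ψ.2 fun x y => Subtype.ext (hab _ x.2 _ y.2))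
  let φ : Q → Q := fun u => u⁻¹ * cj hS d u
  have hinj : Function.Injective φ := by
    intro u u' e
    have hc : cj hS d (u' * u⁻¹) = u' * u⁻¹ := by
      have hcomm : ∀ x y : Q, x * y = y * x := fun x y => Subtype.ext (hab _ x.2 _ y.2)
      have e' : cj hS d u' = u' * (u⁻¹ * cj hS d u) := by
        rw [show u⁻¹ * cj hS d u = u'⁻¹ * cj hS d u' from e, mul_inv_cancel_left]
      rw [map_mul, map_inv, e', ← mul_assoc, mul_inv_cancel_right]
    by_contra hne
    exact hd (cj_free hT hS (fun e' => hne (mul_inv_eq_one.mp e').symm) hc)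
  obtain ⟨w, hw⟩ := Finite.surjective_of_injective hinj u
  show (ψ : Q → ℂ) u = 1
  have e1 : f (cj hS d w) = f w := by
    have := congrFun (congrArg Subtype.val h) w
    simp only [shift, hf] at this
    exact Units.ext this
  rw [hf, ← hw]
  show (f (w⁻¹ * cj hS d w) : ℂ) = 1
  rw [map_mul, map_inv, e1, inv_mul_cancel, Units.val_one]

theorem card_involutions [Finite G] (hT : IsThreeFree G Ω)
    (hS : Cfsg.IsRankOneSetup G Ω a t Q) :
    Nat.card (Cfsg.involutionsIn (stabilizer G a : Set G)) = Nat.card (twoPt G a t) := by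
  rw [← card_invertedBy hS]
  exact Nat.card_congr (Equiv.subtypeEquivRight fun x => ⟨fun h => h.1, hT.twoPt_inverted hS x⟩)

theorem three_le_card_twoPt [Finite G] (hT : IsThreeFree G Ω)
    (hS : Cfsg.IsRankOneSetup G Ω a t Q) : 3 ≤ Nat.card (twoPt G a t) := by
  obtain ⟨d, hd1, hda, hdb⟩ := hT.exists_fix_pair (t_smul_ne hS).symm
  have hne : Nontrivial (twoPt G a t) :=
    ⟨⟨⟨d, mem_twoPt.mpr ⟨hda, hdb⟩⟩, 1, fun e => hd1 (congrArg Subtype.val e)⟩⟩
  have := Finite.one_lt_card_iff_nontrivial.mpr hne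
  obtain ⟨k, hk⟩ : Odd (Nat.card (twoPt G a t)) := hS.odd_card
  omega

theorem card_sq_le [Finite G] (hT : IsThreeFree G Ω) (hS : Cfsg.IsRankOneSetup G Ω a t Q)
    (hab : ∀ x ∈ Q, ∀ y ∈ Q, x * y = y * x) (h2 : IsPGroup 2 Q) (hne : ¬ ∀ x ∈ Q, x * x = 1) :
    (Nat.card (twoPt G a t) + 1) ^ 2 ≤ Nat.card Q := by
  classical
  have hcomm : ∀ x y : Q, x * y = y * x := fun x y => Subtype.ext (hab _ x.2 _ y.2)
  let φ : Q →* Q := ⟨⟨fun u => u * u, mul_one 1⟩, fun x y => by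
    show x * y * (x * y) = x * x * (y * y)
    rw [mul_assoc, ← mul_assoc y, hcomm y x, mul_assoc, mul_assoc]⟩
  have hker : ∀ u : Q, u ∈ φ.ker ↔
      u = 1 ∨ (u : G) ∈ Cfsg.involutionsIn (stabilizer G a : Set G) := by
    intro u
    refine ⟨fun h => ?_, fun h => ?_⟩
    · by_cases hu : u = 1
      · exact Or.inl hu
      · exact Or.inr ⟨hS.le u.2, fun e => hu (Subtype.ext e), congrArg Subtype.val h⟩
    · rcases h with rfl | h
      · exact mul_one 1
      · exact Subtype.ext h.2.2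
  have hcardker : Nat.card φ.ker = Nat.card (twoPt G a t) + 1 := by
    rw [← card_involutions hT hS, ← Finite.card_option]
    refine (Nat.card_eq_of_bijective
      (fun o : Option (Cfsg.involutionsIn (stabilizer G a : Set G)) =>
        (o.elim ⟨1, φ.ker.one_mem⟩
          fun s => ⟨⟨s, mem_I_Q hS s.2⟩, (hker _).mpr (Or.inr s.2)⟩ : φ.ker)) ⟨?_, ?_⟩).symm
    · rintro (_ | s) (_ | s') e
      · rfl
      · exact absurd (congrArg (fun z : φ.ker => ((z : Q) : G)) e).symm s'.2.2.1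
      · exact absurd (congrArg (fun z : φ.ker => ((z : Q) : G)) e) s.2.2.1
      · exact congrArg some (Subtype.ext (congrArg (fun z : φ.ker => ((z : Q) : G)) e))
    · rintro ⟨u, hu⟩
      rcases (hker u).mp hu with rfl | h
      · exact ⟨none, rfl⟩
      · exact ⟨some ⟨u, h⟩, rfl⟩
  -- some involution is a square
  obtain ⟨w, hw⟩ : ∃ w : Q, φ w ∈ φ.ker ∧ φ w ≠ 1 := by
    push Not at hne
    obtain ⟨x, hx, hx1⟩ := hne
    have hx1' : φ ⟨x, hx⟩ ≠ 1 := fun e => hx1 (congrArg Subtype.val e)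
    obtain ⟨k, hk⟩ := h2 ⟨x, hx⟩
    generalize (⟨x, hx⟩ : Q) = w at hx1' hk
    clear hx1 hx x
    induction k generalizing w with
    | zero =>
      rw [pow_zero, pow_one] at hk
      exact absurd (by rw [hk]; exact map_one φ) hx1'
    | succ k ih =>
      by_cases h : φ (φ w) = 1
      · exact ⟨w, h, hx1'⟩
      · refine ih (φ w) h ?_
        rw [show φ w = w ^ 2 from (pow_two w).symm, ← pow_mul, ← pow_succ', hk]
  have hle : φ.ker ≤ φ.range := by
    intro u hu
    rcases (hker u).mp hu with rfl | h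
    · exact one_mem _
    · obtain ⟨c, hc, e⟩ := exists_conj_invertedBy hS
        (((hker _).mp hw.1).resolve_left hw.2) h
      refine ⟨cj hS ⟨c⁻¹, inv_mem hc.1⟩ w, ?_⟩
      show cj hS _ w * cj hS _ w = u
      rw [← map_mul]
      refine Subtype.ext ?_
      show c⁻¹ * ((φ w : Q) : G) * c⁻¹⁻¹ = u
      rw [inv_inv]
      exact e
  have hmul := φ.ker.card_mul_index
  rw [Subgroup.index_ker] at hmul
  have := Subgroup.card_le_of_le hle
  rw [← hmul, hcardker, pow_two]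
  rw [hcardker] at this
  exact Nat.mul_le_mul_left _ this

open scoped Classical in
/-- The character-theoretic heart: a simple group has no such kernel of order `≥ (n + 1)²`. -/
theorem not_sq_le [Finite G] [IsSimpleGroup G] (hT : IsThreeFree G Ω)
    (hS : Cfsg.IsRankOneSetup G Ω a t Q) (hab : ∀ x ∈ Q, ∀ y ∈ Q, x * y = y * x)
    (hle : (Nat.card (twoPt G a t) + 1) ^ 2 ≤ Nat.card Q) : False := by
  have := Fintype.ofFinite G
  have := Fintype.ofFinite Q
  have := Fintype.ofFinite (twoPt G a t)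
  have hn3 := three_le_card_twoPt hT hS
  have hG := card_group hS
  have hcomm : ∀ x y : Q, x * y = y * x := fun x y => Subtype.ext (hab _ x.2 _ y.2)
  set n := Nat.card (twoPt G a t) with hn
  set q := Nat.card Q with hq
  have hq0 : (q : ℂ) ≠ 0 := Char.card_ne_zero
  -- the orbits on non-trivial characters
  let Λ := {ψ : Cfsg.IrrCharacter Q // ψ ≠ triv Q}
  let r : Setoid Λ := ⟨fun x y => ∃ d, shift hS d x.1 = y.1,
    ⟨fun x => ⟨1, shift_one hS _⟩,
      fun {x y} ⟨d, h⟩ => ⟨d⁻¹, by rw [← h, shift_shift, mul_inv_cancel, shift_one]⟩,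
      fun {x y z} ⟨d, h⟩ ⟨d', h'⟩ => ⟨d * d', by rw [← h', ← h, shift_shift]⟩⟩⟩
  let ι := Quotient r
  have : Fintype ι := Fintype.ofFinite _
  have hshne : ∀ (d : twoPt G a t) (x : Λ), shift hS d x.1 ≠ triv Q := fun d x h =>
    x.2 (by rw [← shift_one hS x.1, ← mul_inv_cancel d, ← shift_shift, h, shift_triv])
  have hsfree : ∀ (x : Λ) d d', shift hS d x.1 = shift hS d' x.1 → d = d' := fun x d d' h => by
    have h' : shift hS (d * d'⁻¹) x.1 = x.1 := by
      rw [← shift_shift, h, shift_shift, mul_inv_cancel, shift_one]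
    exact mul_inv_eq_one.mp ((shift_free hT hS hab h').resolve_right x.2)
  let e : ι × twoPt G a t → Λ := fun p => ⟨shift hS p.2 (Quotient.out p.1).1, hshne _ _⟩
  have he : Function.Bijective e := by
    refine ⟨fun p p' h => ?_, fun x => ?_⟩
    · have h' := congrArg Subtype.val h
      have hi : p.1 = p'.1 := by
        rw [← Quotient.out_eq p.1, ← Quotient.out_eq p'.1]
        refine Quotient.sound ⟨p.2 * p'.2⁻¹, ?_⟩
        rw [← shift_shift, show shift hS p.2 _ = _ from h', shift_shift, mul_inv_cancel, shift_one]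
      obtain ⟨i, d⟩ := p
      obtain ⟨i', d'⟩ := p'
      simp only at hi
      subst hi
      exact Prod.ext rfl (hsfree _ _ _ h')
    · obtain ⟨d, hd⟩ := Quotient.exact (Quotient.out_eq (⟦x⟧ : ι))
      exact ⟨(⟦x⟧, d), Subtype.ext hd⟩
  have hk : (Fintype.card ι : ℤ) * n = (q : ℤ) - 1 := by
    have h1 := Nat.card_eq_of_bijective e he
    have h2 : Nat.card (Cfsg.IrrCharacter Q) = q := by
      rw [Char.card_irrCharacter, Char.card_conjClasses_eq_card_iff.mpr hcomm]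
    have h3 : Nat.card Λ + 1 = q := by
      rw [← h2, ← Finite.card_option]
      exact Nat.card_congr (Equiv.optionSubtypeNe (triv Q))
    rw [Nat.card_prod, Nat.card_eq_fintype_card (α := ι), ← hn] at h1
    rw [← h3, ← h1]
    push_cast
    ring
  have hsum : ∀ f : Cfsg.IrrCharacter Q → ℤ, (∀ d ψ, f (shift hS d ψ) = f ψ) →
      ∑ ψ, f ψ = f (triv Q) + n * ∑ i : ι, f (Quotient.out i).1 := by
    intro f hf
    rw [← Fintype.sum_equiv (Equiv.optionSubtypeNe (triv Q)) (fun o => f (o.elim (triv Q) (·.1))) f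
      (fun o => by cases o <;> simp), Fintype.sum_option]
    simp only [Option.elim_none, Option.elim_some]
    rw [← Fintype.sum_bijective e he
      (fun p => f (Quotient.out p.1).1) (fun x => f x.1) (fun p => (hf p.2 _).symm),
      Fintype.sum_prod_type, Finset.mul_sum]
    simp [hn]
  -- multiplicities and degrees
  have hres : ∀ χ : Cfsg.IrrCharacter G, Cfsg.IsCharacter Q (fun u : Q => (χ : G → ℂ) u) :=
    fun χ => Char.isCharacter_res Q (Char.IsIrr.isCharacter χ.2)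
  choose M hM using fun (χ : Cfsg.IrrCharacter G) (ψ : Cfsg.IrrCharacter Q) =>
    Char.classInner_isCharacter_eq_natCast (hres χ) (Char.IsIrr.isCharacter ψ.2)
  choose D hD0 hD using fun χ : Cfsg.IrrCharacter G => Char.IsIrr.degree χ.2
  have hψ1 : ∀ ψ : Cfsg.IrrCharacter Q, (ψ : Q → ℂ) 1 = 1 :=
    fun ψ => Char.IsIrr.degree_one_of_comm ψ.2 hcomm
  have hexp : ∀ (χ : Cfsg.IrrCharacter G) (u : Q), (χ : G → ℂ) u = ∑ ψ, (M χ ψ : ℂ) * (ψ : Q → ℂ) u := fun χ u => by
    have := congrFun (Char.classFun_expansion (Char.isClassFunction_of_isCharacter (hres χ))) u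
    simpa [hM] using this
  have hdsum : ∀ χ : Cfsg.IrrCharacter G, (D χ : ℤ) = ∑ ψ, (M χ ψ : ℤ) := fun χ => by
    have h1 : (D χ : ℂ) = ∑ ψ, (M χ ψ : ℂ) := by
      rw [← hD]
      simpa [hψ1] using hexp χ 1
    exact_mod_cast h1
  have hMinv : ∀ (χ : Cfsg.IrrCharacter G) (d : twoPt G a t) (ψ : Cfsg.IrrCharacter Q), M χ (shift hS d ψ) = M χ ψ := fun χ d ψ => by
    have h1 : (M χ (shift hS d ψ) : ℂ) = M χ ψ := by
      rw [← hM, ← hM]
      simp only [Cfsg.classInner]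
      congr 1
      refine Fintype.sum_bijective (cj hS d) ⟨cj_injective hS d, cj_surjective hS d⟩ _ _ fun u => ?_
      show (χ : G → ℂ) u * _ = (χ : G → ℂ) ((d : G) * u * (d : G)⁻¹) * _
      rw [Char.isClassFunction_of_isIrr χ.2 (u : G) (d : G)]
      rfl
    exact_mod_cast h1
  have hqM : ∀ (χ : Cfsg.IrrCharacter G) (ψ : Cfsg.IrrCharacter Q), (q : ℂ) * M χ ψ = ∑ u : Q, (χ : G → ℂ) u * conj ((ψ : Q → ℂ) u) := fun χ ψ => by
    rw [← hM, Cfsg.classInner, ← mul_assoc, ← hq, mul_inv_cancel₀ hq0, one_mul]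
  have hnorm : ∀ χ : Cfsg.IrrCharacter G, (q : ℂ) * ∑ ψ, (M χ ψ : ℂ) ^ 2 =
      ∑ u : Q, (χ : G → ℂ) u * conj ((χ : G → ℂ) u) := fun χ => by
    have h1 := Char.classInner_eq_sum (f' := fun u : Q => (χ : G → ℂ) u)
      (Char.isClassFunction_of_isCharacter (hres χ))
    rw [Cfsg.classInner, ← hq, inv_mul_eq_iff_eq_mul₀ hq0] at h1
    rw [h1]
    congr 1
    refine Finset.sum_congr rfl fun ψ _ => ?_
    rw [← Char.classInner_conj_symm (fun u : Q => (χ : G → ℂ) u) (ψ : Q → ℂ), hM,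
      Complex.conj_natCast, pow_two]
  -- column sums
  have hconj : ∀ u u' : Q, u' ≠ 1 → (IsConj (u : G) u' ↔ ∃ d, cj hS d u = u') := by
    intro u u' hu'
    refine ⟨fun h => ?_, fun ⟨d, hd⟩ => hd ▸ isConj_iff.mpr ⟨d, rfl⟩⟩
    obtain ⟨g, hg⟩ := isConj_iff.mp h
    obtain ⟨x, -, d, hd, -, e'⟩ := fusion hS hab u.2 u'.2 (fun e => hu' (Subtype.ext e)) hg
    exact ⟨⟨d, hd⟩, Subtype.ext e'⟩
  have hcol : ∀ u : Q, u ≠ 1 → Nat.card (centralizer ({(u : G)} : Set G)) = q := fun u hu => by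
    rw [centralizer_eq hT hS hab u.2 (fun e => hu (Subtype.ext e))]
  have hcol1 : Nat.card (centralizer ({((1 : Q) : G)} : Set G)) = Nat.card G := by
    rw [show centralizer ({((1 : Q) : G)} : Set G) = ⊤ by
      ext; simp [mem_centralizer_singleton_iff], Subgroup.card_top]
  have hne1 : ∀ u : Q, u ≠ 1 → ¬ IsConj (u : G) ((1 : Q) : G) ∧ ¬ IsConj ((1 : Q) : G) u :=
    fun u hu => ⟨fun h => hu (Subtype.ext (isConj_one_left.mp h)),
      fun h => hu (Subtype.ext (isConj_one_right.mp h))⟩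
  have hS1 : ∀ u : Q, ∑ χ : Cfsg.IrrCharacter G, (χ : G → ℂ) u * (D χ : ℂ) =
      if u = 1 then (Nat.card G : ℂ) else 0 := fun u => by
    have h1 := Char.second_orthogonality (u : G) 1
    simp only [hD, Complex.conj_natCast] at h1
    rw [h1]
    by_cases hu : u = 1
    · subst hu
      rw [if_pos (by simp), if_pos rfl, hcol1]
    · rw [if_neg (fun h => hu (Subtype.ext (isConj_one_left.mp h))), if_neg hu]
  have hT' : ∀ (ψ : Cfsg.IrrCharacter Q) (u : Q),
      ∑ u' : Q, (ψ : Q → ℂ) u' * ∑ χ : Cfsg.IrrCharacter G, (χ : G → ℂ) u * conj ((χ : G → ℂ) u') =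
        (q : ℂ) * (∑ d : twoPt G a t, (ψ : Q → ℂ) (cj hS d u)) +
          (if u = 1 then (Nat.card G : ℂ) - q * n else 0) := by
    intro ψ u
    by_cases hu : u = 1
    · subst hu
      rw [Finset.sum_eq_single 1 (fun u' _ hu' => by
        rw [Char.second_orthogonality, if_neg (hne1 u' hu').2, mul_zero]) (by simp), Char.second_orthogonality,
        if_pos (IsConj.refl _), hcol1, if_pos rfl]
      simp [hψ1, hn]
    · rw [if_neg hu, add_zero, Finset.mul_sum]
      have h1 : ∀ u' : Q, (ψ : Q → ℂ) u' *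
          ∑ χ : Cfsg.IrrCharacter G, (χ : G → ℂ) u * conj ((χ : G → ℂ) u') =
          if u' ∈ Finset.univ.image (fun d => cj hS d u) then (q : ℂ) * (ψ : Q → ℂ) u' else 0 := by
        intro u'
        rw [Char.second_orthogonality, hcol u hu]
        by_cases hu' : u' = 1
        · subst hu'
          rw [if_neg (hne1 u hu).1, mul_zero, if_neg]
          simp only [Finset.mem_image, Finset.mem_univ, true_and, not_exists]
          exact fun d h => hu (cj_injective hS d (h.trans (map_one _).symm))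
        · simp only [Finset.mem_image, Finset.mem_univ, true_and, hconj u u' hu']
          split_ifs <;> ring
      rw [Finset.sum_congr rfl fun u' _ => h1 u', Finset.sum_ite_mem, Finset.univ_inter,
        Finset.sum_image fun d _ d' _ h => cj_orbit_inj hT hS hu h]
  have hB : ∀ ψ ψ', (q : ℂ) ^ 2 * ∑ χ, (M χ ψ : ℂ) * M χ ψ' =
      (q : ℂ) ^ 2 * (Finset.univ.filter fun d => shift hS d ψ' = ψ).card +
        ((Nat.card G : ℂ) - q * n) := by
    intro ψ ψ'
    have h1 : ∀ χ, (q : ℂ) ^ 2 * ((M χ ψ : ℂ) * M χ ψ') = ∑ u : Q, ∑ u' : Q,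
        conj ((ψ : Q → ℂ) u) * ((ψ' : Q → ℂ) u' * ((χ : G → ℂ) u * conj ((χ : G → ℂ) u'))) := by
      intro χ
      have hb : conj ((q : ℂ) * M χ ψ') = (q : ℂ) * M χ ψ' := by simp
      rw [show (q : ℂ) ^ 2 * ((M χ ψ : ℂ) * M χ ψ') = (q * M χ ψ) * (q * M χ ψ') by ring, ← hb,
        hqM, hqM, map_sum, Finset.sum_mul_sum]
      refine Finset.sum_congr rfl fun u _ => Finset.sum_congr rfl fun u' _ => ?_
      rw [map_mul, Complex.conj_conj]
      ring
    rw [Finset.mul_sum, Finset.sum_congr rfl fun χ _ => h1 χ, Finset.sum_comm]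
    rw [Finset.sum_congr rfl fun u _ => show
        (∑ χ : Cfsg.IrrCharacter G, ∑ u' : Q, conj ((ψ : Q → ℂ) u) *
          ((ψ' : Q → ℂ) u' * ((χ : G → ℂ) u * conj ((χ : G → ℂ) u')))) =
        (q : ℂ) * (∑ d : twoPt G a t, conj ((ψ : Q → ℂ) u) * (ψ' : Q → ℂ) (cj hS d u)) +
          conj ((ψ : Q → ℂ) u) * (if u = 1 then (Nat.card G : ℂ) - q * n else 0) by
      rw [Finset.sum_comm]
      simp_rw [← Finset.mul_sum]
      rw [hT']
      ring]
    rw [Finset.sum_add_distrib, ← Finset.mul_sum, Finset.sum_comm]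
    congr 1
    · have h2 : ∀ d, ∑ u : Q, conj ((ψ : Q → ℂ) u) * (ψ' : Q → ℂ) (cj hS d u) =
          if shift hS d ψ' = ψ then (q : ℂ) else 0 := by
        intro d
        have h3 := Char.classInner_irrChar (shift hS d ψ') ψ
        rw [Cfsg.classInner, ← hq, inv_mul_eq_iff_eq_mul₀ hq0, mul_ite, mul_one, mul_zero] at h3
        rw [← h3]
        exact Finset.sum_congr rfl fun u _ => mul_comm _ _
      rw [Finset.sum_congr rfl fun d _ => h2 d, ← Finset.sum_filter, Finset.sum_const, nsmul_eq_mul]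
      ring
    · simp [hψ1]
  have hcnt : ∀ i j : ι, (Finset.univ.filter fun d =>
      shift hS d (Quotient.out j).1 = (Quotient.out i).1).card = if i = j then 1 else 0 := by
    intro i j
    split_ifs with hij
    · subst hij
      rw [Finset.card_eq_one]
      refine ⟨1, Finset.ext fun d => ?_⟩
      simp only [Finset.mem_filter, Finset.mem_univ, true_and, Finset.mem_singleton]
      exact ⟨fun h => hsfree _ d 1 (h.trans (shift_one hS _).symm), fun h => h ▸ shift_one hS _⟩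
    · rw [Finset.card_eq_zero, Finset.filter_eq_empty_iff]
      intro d _ h
      refine hij ?_
      rw [← Quotient.out_eq i, ← Quotient.out_eq j]
      exact (Quotient.sound (s := r)
        (⟨d, h⟩ : ∃ d', shift hS d' (Quotient.out j).1 = (Quotient.out i).1)).symm
  let deg : Cfsg.IrrCharacter G → ℤ := fun χ => D χ
  let μ : Cfsg.IrrCharacter G → ℤ := fun χ => M χ (triv Q)
  let m : Cfsg.IrrCharacter G → ι → ℤ := fun χ i => M χ (Quotient.out i).1
  have hdeg : ∀ χ, deg χ = μ χ + n * ∑ i, m χ i := fun χ => by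
    rw [show deg χ = _ from hdsum χ, hsum _ fun d ψ => by rw [hMinv]]
  have hsq2 : ∀ χ, μ χ ^ 2 + (n : ℤ) * ∑ i, m χ i ^ 2 = ∑ ψ, (M χ ψ : ℤ) ^ 2 := fun χ =>
    (hsum (fun ψ => (M χ ψ : ℤ) ^ 2) fun d ψ => by rw [hMinv]).symm
  have hnn : ∀ χ, 0 ≤ (q : ℤ) * (μ χ ^ 2 + n * ∑ i, m χ i ^ 2) - deg χ ^ 2 := fun χ => by
    rw [hsq2, sub_nonneg]
    have h2 : ((D χ : ℝ)) ^ 2 ≤ (q : ℝ) * ∑ ψ, (M χ ψ : ℝ) ^ 2 := by
      have h3 : ((q : ℝ) * ∑ ψ, (M χ ψ : ℝ) ^ 2 : ℂ) =
          ((∑ u : Q, Complex.normSq ((χ : G → ℂ) u) : ℝ) : ℂ) := by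
        push_cast
        simp_rw [Complex.normSq_eq_conj_mul_self, mul_comm (conj _)]
        exact hnorm χ
      have h4 : (q : ℝ) * ∑ ψ, (M χ ψ : ℝ) ^ 2 = ∑ u : Q, Complex.normSq ((χ : G → ℂ) u) := by
        exact_mod_cast h3
      rw [h4]
      refine le_trans ?_ (Finset.single_le_sum (fun u _ => Complex.normSq_nonneg _)
        (Finset.mem_univ (1 : Q)))
      simp [hD, Complex.normSq_natCast, pow_two]
    show (D χ : ℤ) ^ 2 ≤ _
    exact_mod_cast h2
  have hsq : ∑ χ, deg χ ^ 2 = (q : ℤ) * (q + 1) * n := by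
    have h1 : ∑ χ : Cfsg.IrrCharacter G, (D χ : ℂ) ^ 2 = (Nat.card G : ℂ) := by
      rw [← Char.sum_sq_degree]
      simp [hD]
    have h2 : ∑ χ : Cfsg.IrrCharacter G, (D χ : ℤ) ^ 2 = (Nat.card G : ℤ) := by exact_mod_cast h1
    show ∑ χ : Cfsg.IrrCharacter G, (D χ : ℤ) ^ 2 = _
    rw [h2, hG]
    push_cast [← hn, ← hq]
    ring
  have hpars : ∑ χ, ((q : ℤ) * (μ χ ^ 2 + n * ∑ i, m χ i ^ 2) - deg χ ^ 2) = (q : ℤ) * (q - 1) := by
    have h1 : ∑ χ : Cfsg.IrrCharacter G, (q : ℂ) * ∑ ψ, (M χ ψ : ℂ) ^ 2 =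
        (Nat.card G : ℂ) + ((q : ℂ) - 1) * q := by
      rw [Finset.sum_congr rfl fun χ _ => hnorm χ, Finset.sum_comm,
        ← Finset.add_sum_erase _ _ (Finset.mem_univ (1 : Q)), Char.second_orthogonality,
        if_pos (IsConj.refl _), hcol1, Finset.sum_congr rfl fun u hu => by
          rw [Char.second_orthogonality, if_pos (IsConj.refl _), hcol u (Finset.ne_of_mem_erase hu)],
        Finset.sum_const, Finset.card_erase_of_mem (Finset.mem_univ _), Finset.card_univ,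
        ← Nat.card_eq_fintype_card, ← hq, nsmul_eq_mul, Nat.cast_sub (show 1 ≤ q from Nat.card_pos), Nat.cast_one]
    have h2 : ∑ χ : Cfsg.IrrCharacter G, (q : ℤ) * ∑ ψ, (M χ ψ : ℤ) ^ 2 =
        (Nat.card G : ℤ) + ((q : ℤ) - 1) * q := by exact_mod_cast h1
    rw [Finset.sum_sub_distrib, Finset.sum_congr rfl fun χ _ => by rw [hsq2], h2, hsq, hG]
    push_cast [← hn, ← hq]
    ring
  have h2 : ∀ i j, i ≠ j → ∑ χ, (m χ i - m χ j) ^ 2 = 2 := by
    intro i j hij
    have key : (q : ℂ) ^ 2 * ∑ χ, ((m χ i : ℂ) - m χ j) ^ 2 = (q : ℂ) ^ 2 * 2 := by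
      simp only [m, Int.cast_natCast]
      rw [Finset.sum_congr rfl fun χ _ => show ((M χ (Quotient.out i).1 : ℂ) -
        M χ (Quotient.out j).1) ^ 2 = (M χ (Quotient.out i).1 : ℂ) * M χ (Quotient.out i).1 +
          (M χ (Quotient.out j).1 : ℂ) * M χ (Quotient.out j).1 -
          2 * ((M χ (Quotient.out i).1 : ℂ) * M χ (Quotient.out j).1) by ring]
      rw [Finset.sum_sub_distrib, Finset.sum_add_distrib, ← Finset.mul_sum, mul_sub, mul_add,
        mul_left_comm _ (2 : ℂ), hB, hB, hB, hcnt, hcnt, hcnt, if_pos rfl, if_pos rfl, if_neg hij]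
      push_cast
      ring
    exact_mod_cast mul_left_cancel₀ (pow_ne_zero 2 hq0) key
  have h0 : ∀ i j, ∑ χ, (m χ i - m χ j) * deg χ = 0 := by
    intro i j
    have h1 : ∀ ψ, (q : ℂ) * ∑ χ, (M χ ψ : ℂ) * D χ = (Nat.card G : ℂ) := by
      intro ψ
      simp_rw [Finset.mul_sum, ← mul_assoc, hqM, Finset.sum_mul]
      rw [Finset.sum_comm, Finset.sum_congr rfl fun (u : Q) _ => show
        (∑ χ : Cfsg.IrrCharacter G, (χ : G → ℂ) u * conj ((ψ : Q → ℂ) u) * (D χ : ℂ)) =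
          if u = 1 then (Nat.card G : ℂ) * conj ((ψ : Q → ℂ) u) else 0 by
        rw [← ite_zero_mul, ← hS1, Finset.sum_mul]
        exact Finset.sum_congr rfl fun χ _ => by ring, Finset.sum_ite_eq', if_pos (Finset.mem_univ _),
        hψ1, map_one, mul_one]
    have key : (q : ℂ) * ∑ χ, ((m χ i : ℂ) - m χ j) * deg χ = (q : ℂ) * 0 := by
      simp only [m, deg, Int.cast_natCast, sub_mul, Finset.sum_sub_distrib, mul_sub, h1, sub_self,
        mul_zero]
    exact_mod_cast mul_left_cancel₀ hq0 key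
  -- the trivial character
  have htriv : ∀ ψ, (M (triv G) ψ : ℂ) = if triv Q = ψ then 1 else 0 := fun ψ => by
    rw [← hM, ← Char.classInner_irrChar]
    rfl
  have hμ1 : μ (triv G) = 1 := by
    have := htriv (triv Q)
    rw [if_pos rfl] at this
    show (M (triv G) (triv Q) : ℤ) = 1
    exact_mod_cast this
  have hm1 : ∀ i, m (triv G) i = 0 := fun i => by
    have := htriv (Quotient.out i).1
    rw [if_neg (Quotient.out i).2.symm] at this
    show (M (triv G) _ : ℤ) = 0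
    exact_mod_cast this
  obtain ⟨⟨ξ, hξ⟩, hsmall⟩ := profile_exceptional (n : ℤ) (q : ℤ) (by omega) (by exact_mod_cast hle)
    μ deg m (fun χ => Int.natCast_nonneg _) (fun χ i => Int.natCast_nonneg _)
    (fun χ => Int.natCast_pos.mpr (hD0 χ)) hk hdeg hpars hnn hsq h2 h0 (triv G) hμ1 hm1
  -- a character containing `Q` in its kernel is trivial
  have htop : ∀ χ : Cfsg.IrrCharacter G, μ χ = deg χ → χ = triv G := by
    intro χ hχ
    have hz : ∀ ψ, ψ ≠ triv Q → M χ ψ = 0 := by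
      intro ψ hψ
      have h1 : (M χ (triv Q) : ℤ) = ∑ ψ', (M χ ψ' : ℤ) := hχ.trans (hdsum χ)
      rw [← Finset.add_sum_erase _ _ (Finset.mem_univ (triv Q)), left_eq_add,
        Finset.sum_eq_zero_iff_of_nonneg fun _ _ => Int.natCast_nonneg _] at h1
      exact_mod_cast h1 ψ (Finset.mem_erase.mpr ⟨hψ, Finset.mem_univ _⟩)
    have hker : Q ≤ Char.kerSubgroup (Char.IsIrr.isCharacter χ.2) := by
      intro u hu
      show (χ : G → ℂ) u = (χ : G → ℂ) 1
      have hu' : (χ : G → ℂ) u = ∑ ψ, (M χ ψ : ℂ) * (ψ : Q → ℂ) ⟨u, hu⟩ := hexp χ ⟨u, hu⟩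
      have h1' : (χ : G → ℂ) 1 = ∑ ψ, (M χ ψ : ℂ) * (ψ : Q → ℂ) 1 := hexp χ 1
      rw [hu', h1']
      refine Finset.sum_congr rfl fun ψ _ => ?_
      by_cases hψ : ψ = triv Q
      · subst hψ; rfl
      · rw [hz ψ hψ, Nat.cast_zero, zero_mul, zero_mul]
    have htop' : Char.kerSubgroup (Char.IsIrr.isCharacter χ.2) = ⊤ := by
      refine (Subgroup.Normal.eq_bot_or_eq_top inferInstance).resolve_left fun hb => ?_
      obtain ⟨u, hu, hu1⟩ := exists_ne_one hS
      exact hu1 ((Subgroup.mem_bot).mp (hb ▸ hker hu))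
    have hconst : ∀ g, (χ : G → ℂ) g = (D χ : ℂ) := fun g =>
      ((Char.mem_kerSubgroup _).mp (htop' ▸ Subgroup.mem_top g)).trans (hD χ)
    have h1 := Char.classInner_irr_self χ.2
    simp only [Cfsg.classInner, hconst, Complex.conj_natCast, Finset.sum_const, Finset.card_univ,
      ← Nat.card_eq_fintype_card, nsmul_eq_mul] at h1
    rw [inv_mul_cancel_left₀ Char.card_ne_zero] at h1
    have h2 : D χ = 1 := by
      have : D χ * D χ = 1 := by exact_mod_cast h1
      exact Nat.eq_one_of_mul_eq_one_left this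
    exact Subtype.ext (funext fun g => by rw [hconst, h2, Nat.cast_one]; rfl)
  -- decompose `ξ * conj ξ`
  have hξc := Char.IsIrr.isCharacter ξ.2
  have hψc : Cfsg.IsCharacter G ((ξ : G → ℂ) * fun g => conj ((ξ : G → ℂ) g)) :=
    Char.isCharacter_mul hξc (Char.isCharacter_conj hξc)
  obtain ⟨c, hc, hexp', -⟩ := Char.IsChar.exists_mult hψc
  have hc1 : c (triv G) = 1 := by
    have h1 : (c (triv G) : ℂ) = 1 := by
      rw [← hc, ← Char.classInner_irr_self ξ.2]
      simp [Cfsg.classInner, triv]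
    exact_mod_cast h1
  have hval : (n : ℤ) * n = ∑ χ, (c χ : ℤ) * deg χ := by
    have h1 := congrFun hexp' 1
    have hξn : (D ξ : ℤ) = n := hξ
    have hξn' : D ξ = n := by exact_mod_cast hξn
    simp only [Pi.mul_apply, Finset.sum_apply, Pi.smul_apply, smul_eq_mul, hD, Complex.conj_natCast,
      hξn'] at h1
    show _ = ∑ χ, (c χ : ℤ) * (D χ : ℤ)
    exact_mod_cast h1
  have hdvd : ∀ χ, χ ≠ triv G → (n : ℤ) ∣ (c χ : ℤ) * deg χ := by
    intro χ hχ
    by_cases h : c χ = 0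
    · simp [h]
    have hle' : (c χ : ℤ) * deg χ ≤ n * n := hval ▸ Finset.single_le_sum
      (fun χ _ => mul_nonneg (Int.natCast_nonneg _) (Int.natCast_nonneg _)) (Finset.mem_univ χ)
    have hdle : deg χ < (q : ℤ) - 1 := by
      have h1 : deg χ ≤ (c χ : ℤ) * deg χ :=
        le_mul_of_one_le_left (Int.natCast_nonneg _) (by omega)
      have h3 : ((n : ℤ) + 1) ^ 2 ≤ q := by exact_mod_cast hle
      nlinarith
    rcases hsmall χ hdle with h1 | h1
    · exact h1 ▸ dvd_mul_left _ _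
    · exact absurd (htop χ h1) hχ
  rw [← Finset.add_sum_erase _ _ (Finset.mem_univ (triv G)), hc1] at hval
  have hdeg1 : deg (triv G) = 1 := by
    rw [hdeg, hμ1]
    simp [hm1]
  rw [hdeg1] at hval
  have h4 : (n : ℤ) ∣ 1 := by
    have h5 : (n : ℤ) ∣ ∑ χ ∈ Finset.univ.erase (triv G), (c χ : ℤ) * deg χ :=
      Finset.dvd_sum fun χ hχ => hdvd χ (Finset.ne_of_mem_erase hχ)
    have h6 := dvd_sub (dvd_mul_left (n : ℤ) n) h5
    rw [hval] at h6
    simpa using h6
  have := Int.eq_one_of_dvd_one (Int.natCast_nonneg _) h4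
  omega

/-- An abelian 2-group kernel in a simple three-free group has exponent two. -/
theorem exponent_two [Finite G] [IsSimpleGroup G] (hT : IsThreeFree G Ω)
    (hS : Cfsg.IsRankOneSetup G Ω a t Q) (hab : ∀ x ∈ Q, ∀ y ∈ Q, x * y = y * x)
    (h2 : IsPGroup 2 Q) : ∀ x ∈ Q, x * x = 1 :=
  by_contra fun hne => not_sq_le hT hS hab (card_sq_le hT hS hab h2 hne)

/-- The structure equation: a unique non-identity `u ∈ Q` with `t u t = u t u`. -/
theorem existsUnique_structure [Finite G] [IsSimpleGroup G] (hT : IsThreeFree G Ω)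
    (hS : Cfsg.IsRankOneSetup G Ω a t Q) (hab : ∀ x ∈ Q, ∀ y ∈ Q, x * y = y * x)
    (h2 : IsPGroup 2 Q) : ∃! u : G, u ∈ Q ∧ u ≠ 1 ∧ t * u * t = u * t * u := by
  have hexp := exponent_two hT hS hab h2
  have h1mem : (1 : G) ∈ Cfsg.invertedBy (twoPt G a t) t :=
    ⟨one_mem _, by simp⟩
  obtain ⟨⟨s, r⟩, ⟨hs, hr, e⟩, huniq⟩ := link_exists_right hS h1mem
  simp only [one_mul] at e
  have hs' : s ∈ Q := mem_I_Q hS hs
  have hr_inv : r⁻¹ = r := inv_eq_of_mul_eq_one_right (hexp r hr)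
  rw [hr_inv] at e
  have e2 : t * r * t = s * t * r := by
    have h3 : s * t * r = t * (t * s * t) * r := by
      simp only [← mul_assoc, hS.mul_self, one_mul]
    rw [h3, e]
    simp only [mul_assoc, hexp r hr, mul_one]
  have e3 : t * r * t = r * t * s := by
    have h3 : (t * r * t)⁻¹ = t * r * t := by
      rw [mul_inv_rev, mul_inv_rev, t_inv hS, hr_inv, mul_assoc]
    calc t * r * t = (t * r * t)⁻¹ := h3.symm
      _ = r * t * s := by
        rw [e2, mul_inv_rev, mul_inv_rev, t_inv hS, hr_inv, inv_eq_of_mul_eq_one_right hs.2.2,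
          mul_assoc]
  obtain ⟨hsr, -⟩ := form_unique hS (hS.le hs') (hS.le hr) hr hs' (e2.symm.trans e3)
  subst hsr
  refine ⟨s, ⟨hs', hs.2.1, e⟩, ?_⟩
  rintro u ⟨hu, hu1, eu⟩
  have hp := huniq (u, u) ⟨⟨hS.le hu, hu1, hexp u hu⟩, hu, by
    simp only [one_mul]
    rw [inv_eq_of_mul_eq_one_right (hexp u hu)]; exact eu⟩
  exact congrArg Prod.fst hp

end Cfsg.Agent.RankOne.AbelianKernel
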