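import Mathlib
import Cfsg.Prelude.Def_LieRecognition

/-!
Higman: in a nonabelian 2-group with an odd abelian group of automorphisms transitive on the
involutions, the centre has exponent two.
-/

set_option autoImplicit false

open Subgroup
open scoped commutatorElement

namespace Cfsg.Agent.RankOne

universe u v

variable {P : Type u} [Group P] {K : Type v} [CommGroup K] {ρ : K →* MulAut P}

theorem rho_mul (a b : K) (x : P) : ρ (a * b) x = ρ a (ρ b x) := by rw [map_mul]; rfl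

theorem rho_inv_cancel (a : K) (x : P) : ρ a (ρ a⁻¹ x) = x := by
  rw [← rho_mul, mul_inv_cancel, map_one]; rfl

theorem rho_center (k : K) {z : P} (hz : z ∈ center P) : ρ k z ∈ center P := by
  rw [mem_center_iff] at hz ⊢
  intro w
  obtain ⟨w, rfl⟩ := (ρ k).surjective w
  rw [← map_mul, ← map_mul, hz]

/-- An equivariant alternating biadditive map on a module on which an odd abelian group is transitive
is trivial. -/
theorem alternating_trivial [Finite K] (hK : Odd (Nat.card K))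
    (hE : ∀ x : P, x * x = 1 → ∀ w, Commute x w)
    (htr : ∀ x y : P, x ≠ 1 → x * x = 1 → y ≠ 1 → y * y = 1 → ∃ k, ρ k x = y)
    (f : P → P → P) (hf : ∀ x y, x * x = 1 → y * y = 1 → f x y * f x y = 1)
    (hl : ∀ x x' y, x * x = 1 → x' * x' = 1 → y * y = 1 → f (x * x') y = f x y * f x' y)
    (hr : ∀ x y y', x * x = 1 → y * y = 1 → y' * y' = 1 → f x (y * y') = f x y * f x y')
    (halt : ∀ x, x * x = 1 → f x x = 1)
    (heq : ∀ k x y, x * x = 1 → y * y = 1 → f (ρ k x) (ρ k y) = ρ k (f x y))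
    {x y : P} (hx : x * x = 1) (hy : y * y = 1) : f x y = 1 := by
  have hρ : ∀ k (z : P), z * z = 1 → ρ k z * ρ k z = 1 := fun k z hz => by
    rw [← map_mul, hz, map_one]
  have hmul : ∀ {u w : P}, u * u = 1 → w * w = 1 → u * w * (u * w) = 1 := fun {u w} hu hw => by
    rw [mul_assoc, ← mul_assoc w u, ← (hE u hu w).eq, mul_assoc, hw, mul_one, hu]
  by_cases hx1 : x = 1
  · subst hx1
    have h := hl 1 1 y (mul_one 1) (mul_one 1) hy
    rwa [one_mul, left_eq_mul] at h
  by_cases hy1 : y = 1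
  · subst hy1
    have h := hr x 1 1 hx (mul_one 1) (mul_one 1)
    rwa [one_mul, left_eq_mul] at h
  obtain ⟨k, rfl⟩ := htr x y hx1 hx hy1 hy
  obtain ⟨a, rfl⟩ : ∃ a, a * a = k := by
    refine ⟨k ^ ((Nat.card K + 1) / 2), ?_⟩
    obtain ⟨j, hj⟩ := hK
    rw [← pow_add, show (Nat.card K + 1) / 2 + (Nat.card K + 1) / 2 = Nat.card K + 1 by omega,
      pow_succ, pow_card_eq_one', one_mul]
  by_cases hax : ρ a x = x
  · rw [rho_mul, hax, hax]
    exact halt x hx
  have hax1 : ρ a x * x ≠ 1 := fun h => hax (by rw [eq_inv_of_mul_eq_one_left h,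
    inv_eq_of_mul_eq_one_right hx])
  obtain ⟨b, hb⟩ := htr x (ρ a x * x) hx1 hx hax1 (hmul (hρ a x hx) hx)
  have hab : ρ (a * b) x = ρ (a * a) x * ρ a x := by rw [rho_mul, hb, map_mul, ← rho_mul]
  have hba : ρ b x * ρ a x = x := by
    rw [hb, mul_assoc, (hE x hx (ρ a x)).eq, ← mul_assoc, hρ a x hx, one_mul]
  have hinv : ρ (a * b)⁻¹ x = ρ a⁻¹ x * ρ b⁻¹ x := by
    apply (ρ (a * b)).injective
    rw [rho_inv_cancel, map_mul, mul_comm a b, rho_mul b a (ρ a⁻¹ x), rho_inv_cancel,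
      mul_comm b a, rho_mul a b (ρ b⁻¹ x), rho_inv_cancel, hba]
  set v := f x (ρ a x) with hvdef
  have hv : v * v = 1 := hf _ _ hx (hρ a x hx)
  have hfb : f x (ρ b x) = v := by rw [hb, hr x _ _ hx (hρ a x hx) hx, halt x hx, mul_one]
  have h1 : f x (ρ (a * b) x) = ρ b v * ρ a v := by
    calc f x (ρ (a * b) x) = f (ρ (a * b) (ρ (a * b)⁻¹ x)) (ρ (a * b) x) := by rw [rho_inv_cancel]
      _ = ρ (a * b) (f (ρ a⁻¹ x * ρ b⁻¹ x) x) := by rw [heq _ _ _ (hρ _ x hx) hx, hinv]
      _ = ρ (a * b) (f (ρ a⁻¹ x) x) * ρ (a * b) (f (ρ b⁻¹ x) x) := by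
          rw [hl _ _ _ (hρ _ x hx) (hρ _ x hx) hx, map_mul]
      _ = ρ b v * ρ a v := by
          congr 1
          · rw [mul_comm a b, rho_mul, ← heq _ _ _ (hρ _ x hx) hx, rho_inv_cancel]
          · rw [rho_mul, ← heq b _ _ (hρ _ x hx) hx, rho_inv_cancel, hfb]
  have h2 : ρ b v * ρ a v = v := by
    by_cases hv1 : v = 1
    · simp [hv1]
    obtain ⟨c, hc⟩ := htr x v hx1 hx hv1 hv
    rw [← hc, ← rho_mul, ← rho_mul, mul_comm b c, mul_comm a c, rho_mul, rho_mul, ← map_mul, hba]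
  rw [hab, hr x _ _ hx (hρ _ x hx) (hρ a x hx), h2] at h1
  exact mul_eq_right.mp h1

/-- Pulling the previous lemma back along a surjection onto the involutions. -/
theorem pullback_trivial [Finite K] (hK : Odd (Nat.card K))
    (hE : ∀ x : P, x * x = 1 → ∀ w, Commute x w)
    (htr : ∀ x y : P, x ≠ 1 → x * x = 1 → y ≠ 1 → y * y = 1 → ∃ k, ρ k x = y)
    (S : Subgroup P) (φ : P → P) (g : P → P → P)
    (hSρ : ∀ k, ∀ y ∈ S, ρ k y ∈ S)
    (hφ : ∀ y ∈ S, φ y * φ y = 1)
    (hφmul : ∀ y ∈ S, ∀ y' ∈ S, φ (y * y') = φ y * φ y')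
    (hφρ : ∀ k, ∀ y ∈ S, φ (ρ k y) = ρ k (φ y))
    (hne : ∃ y ∈ S, φ y ≠ 1)
    (hg : ∀ y ∈ S, ∀ w ∈ S, g y w * g y w = 1)
    (hgl : ∀ y ∈ S, ∀ y' ∈ S, ∀ w ∈ S, g (y * y') w = g y w * g y' w)
    (hgr : ∀ y ∈ S, ∀ w ∈ S, ∀ w' ∈ S, g y (w * w') = g y w * g y w')
    (hgalt : ∀ y ∈ S, g y y = 1)
    (hgρ : ∀ k, ∀ y ∈ S, ∀ w ∈ S, g (ρ k y) (ρ k w) = ρ k (g y w))
    (hkl : ∀ y ∈ S, ∀ w ∈ S, φ y = 1 → g y w = 1)
    (hkr : ∀ y ∈ S, ∀ w ∈ S, φ w = 1 → g y w = 1) :
    (∀ x : P, x * x = 1 → ∃ y ∈ S, φ y = x) ∧ ∀ y ∈ S, ∀ w ∈ S, g y w = 1 := by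
  classical
  obtain ⟨y₀, hy₀, hφy₀⟩ := hne
  have hsurj : ∀ x : P, x * x = 1 → ∃ y ∈ S, φ y = x := by
    intro x hx
    by_cases hx1 : x = 1
    · exact ⟨1, S.one_mem, by
        have h := hφmul 1 S.one_mem 1 S.one_mem
        rw [one_mul, left_eq_mul] at h
        rw [h, hx1]⟩
    obtain ⟨k, hk⟩ := htr (φ y₀) x hφy₀ (hφ y₀ hy₀) hx1 hx
    exact ⟨ρ k y₀, hSρ k y₀ hy₀, by rw [hφρ k y₀ hy₀, hk]⟩
  refine ⟨hsurj, ?_⟩
  let sec : P → P := fun x => if h : x * x = 1 then (hsurj x h).choose else 1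
  have hsec : ∀ x, x * x = 1 → sec x ∈ S ∧ φ (sec x) = x := fun x hx => by
    simp only [sec, dif_pos hx]
    exact (hsurj x hx).choose_spec
  have hker : ∀ y ∈ S, ∀ y' ∈ S, φ y = φ y' → φ (y'⁻¹ * y) = 1 := by
    intro y hy y' hy' h
    have h1 := hφmul y' hy' (y'⁻¹ * y) (S.mul_mem (S.inv_mem hy') hy)
    rwa [mul_inv_cancel_left, h, left_eq_mul] at h1
  have hwd : ∀ y ∈ S, ∀ w ∈ S, g y w = g (sec (φ y)) (sec (φ w)) := by
    intro y hy w hw
    obtain ⟨hy', ey⟩ := hsec _ (hφ y hy)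
    obtain ⟨hw', ew⟩ := hsec _ (hφ w hw)
    calc g y w = g (sec (φ y) * ((sec (φ y))⁻¹ * y)) w := by rw [mul_inv_cancel_left]
      _ = g (sec (φ y)) w := by
          rw [hgl _ hy' _ (S.mul_mem (S.inv_mem hy') hy) _ hw,
            hkl _ (S.mul_mem (S.inv_mem hy') hy) _ hw (hker _ hy _ hy' ey.symm), mul_one]
      _ = g (sec (φ y)) (sec (φ w) * ((sec (φ w))⁻¹ * w)) := by rw [mul_inv_cancel_left]
      _ = g (sec (φ y)) (sec (φ w)) := by
          rw [hgr _ hy' _ hw' _ (S.mul_mem (S.inv_mem hw') hw),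
            hkr _ hy' _ (S.mul_mem (S.inv_mem hw') hw) (hker _ hw _ hw' ew.symm), mul_one]
  intro y hy w hw
  rw [hwd y hy w hw]
  refine alternating_trivial hK hE htr (fun x x' => g (sec x) (sec x')) ?_ ?_ ?_ ?_ ?_ (hφ y hy)
    (hφ w hw)
  · exact fun x x' hx hx' => hg _ (hsec x hx).1 _ (hsec x' hx').1
  · intro x x' z hx hx' hz
    obtain ⟨h1, e1⟩ := hsec x hx
    obtain ⟨h2, e2⟩ := hsec x' hx'
    obtain ⟨h3, e3⟩ := hsec z hz
    have e := hwd _ (S.mul_mem h1 h2) _ h3
    rw [hφmul _ h1 _ h2, e1, e2, e3, hgl _ h1 _ h2 _ h3] at e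
    exact e.symm
  · intro x z z' hx hz hz'
    obtain ⟨h1, e1⟩ := hsec x hx
    obtain ⟨h2, e2⟩ := hsec z hz
    obtain ⟨h3, e3⟩ := hsec z' hz'
    have e := hwd _ h1 _ (S.mul_mem h2 h3)
    rw [hφmul _ h2 _ h3, e1, e2, e3, hgr _ h1 _ h2 _ h3] at e
    exact e.symm
  · exact fun x hx => hgalt _ (hsec x hx).1
  · intro k x z hx hz
    obtain ⟨h1, e1⟩ := hsec x hx
    obtain ⟨h2, e2⟩ := hsec z hz
    have e := hwd _ (hSρ k _ h1) _ (hSρ k _ h2)
    rw [hφρ k _ h1, hφρ k _ h2, e1, e2, hgρ k _ h1 _ h2] at e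
    exact e.symm

theorem comm_mul_left_of_central {y y' w : P} (h : ⁅y', w⁆ ∈ center P) :
    ⁅y * y', w⁆ = ⁅y, w⁆ * ⁅y', w⁆ := by
  have e : ⁅y * y', w⁆ = y * ⁅y', w⁆ * y⁻¹ * ⁅y, w⁆ := by
    simp only [commutatorElement_def, mul_inv_rev, mul_assoc, inv_mul_cancel_left]
  rw [e, mem_center_iff.mp h y, mul_inv_cancel_right]
  exact (mem_center_iff.mp h _).symm

theorem comm_mul_right_of_central {y w w' : P} (h : ⁅y, w'⁆ ∈ center P) :
    ⁅y, w * w'⁆ = ⁅y, w⁆ * ⁅y, w'⁆ := by
  have e : ⁅y, w * w'⁆ = ⁅y, w⁆ * (w * ⁅y, w'⁆ * w⁻¹) := by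
    simp only [commutatorElement_def, mul_inv_rev, mul_assoc, inv_mul_cancel_left]
  rw [e, mem_center_iff.mp h w, mul_inv_cancel_right]

theorem exists_invol_mod [Finite P] (hP : IsPGroup 2 P) (N : Subgroup P) [N.Normal] (hN : N ≠ ⊤) :
    ∃ y : P, y ∉ N ∧ y * y ∈ N ∧ ∀ w : P, ⁅y, w⁆ ∈ N := by
  have : Fact (Nat.Prime 2) := ⟨Nat.prime_two⟩
  have : Nontrivial (P ⧸ N) := QuotientGroup.nontrivial_iff.mpr hN
  have hq := hP.to_quotient N
  have hc : Nontrivial (center (P ⧸ N)) := hq.center_nontrivial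
  obtain ⟨n, hn, hcard⟩ := (hq.to_subgroup (center (P ⧸ N))).nontrivial_iff_card.mp hc
  obtain ⟨q, hord⟩ := exists_prime_orderOf_dvd_card' (G := center (P ⧸ N)) 2
    (hcard ▸ dvd_pow_self 2 hn.ne')
  obtain ⟨y, hy⟩ := QuotientGroup.mk_surjective (q : P ⧸ N)
  rw [← Subgroup.orderOf_coe] at hord
  have hqc : (y : P ⧸ N) ∈ center (P ⧸ N) := hy ▸ q.2
  rw [← hy] at hord
  refine ⟨y, fun h => ?_, ?_, fun w => ?_⟩
  · rw [(QuotientGroup.eq_one_iff y).mpr h, orderOf_one] at hord
    omega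
  · rw [← QuotientGroup.eq_one_iff, QuotientGroup.mk_mul, ← pow_two, ← hord, pow_orderOf_eq_one]
  · rw [← QuotientGroup.eq_one_iff, ← QuotientGroup.mk'_apply, map_commutatorElement,
      commutatorElement_eq_one_iff_mul_comm]
    exact (mem_center_iff.mp hqc _).symm

theorem invol_central_of_transitive [Finite P] (hP : IsPGroup 2 P)
    (htr : ∀ x y : P, x ≠ 1 → x * x = 1 → y ≠ 1 → y * y = 1 → ∃ k, ρ k x = y)
    (x : P) (hx : x * x = 1) : x ∈ center P := by
  by_cases hx1 : x = 1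
  · exact hx1 ▸ one_mem _
  have : Fact (Nat.Prime 2) := ⟨Nat.prime_two⟩
  have : Nontrivial P := ⟨⟨x, 1, hx1⟩⟩
  obtain ⟨n, hn, hcard⟩ := (hP.to_subgroup (center P)).nontrivial_iff_card.mp hP.center_nontrivial
  obtain ⟨z, hz⟩ := exists_prime_orderOf_dvd_card' (G := center P) 2
    (hcard ▸ dvd_pow_self 2 hn.ne')
  rw [← Subgroup.orderOf_coe] at hz
  have hz1 : (z : P) ≠ 1 := fun h => by rw [h, orderOf_one] at hz; omega
  obtain ⟨k, rfl⟩ := htr z x hz1 (by rw [← pow_two, ← hz, pow_orderOf_eq_one]) hx1 hx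
  exact rho_center k z.2

theorem suzuki_center_aux [Finite K] (hK : Odd (Nat.card K)) :
    ∀ (n : ℕ) {P : Type u} [Group P] [Finite P], Nat.card P ≤ n → IsPGroup 2 P →
      ∀ ρ : K →* MulAut P,
        (∀ x y : P, x ≠ 1 → x * x = 1 → y ≠ 1 → y * y = 1 → ∃ k, ρ k x = y) →
          (∃ x y : P, x * y ≠ y * x) → ∀ z ∈ center P, z * z = 1 := by
  intro n
  induction n with
  | zero => intro P _ _ h; exact absurd h (by have := Nat.card_pos (α := P); omega)
  | succ n ih =>
    intro P _ _ hcard hP ρ htr hnc z₁ hz₁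
    by_contra hz₁2
    have hE : ∀ x : P, x * x = 1 → ∀ w, Commute x w := fun x hx w =>
      (mem_center_iff.mp (invol_central_of_transitive hP htr x hx) w).symm
    have hEc : ∀ x : P, x * x = 1 → x ∈ center P := invol_central_of_transitive hP htr
    have hex : ∃ m : ℕ, ∀ z ∈ center P, z ^ (2 ^ m) = 1 := by
      obtain ⟨m, hm⟩ := IsPGroup.iff_card (p := 2).mp hP
      exact ⟨m, fun z _ => by rw [← hm]; exact pow_card_eq_one'⟩
    classical
    obtain ⟨e, he, hmin⟩ : ∃ e, (∀ z ∈ center P, z ^ (2 ^ e) = 1) ∧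
        ∀ m < e, ¬ ∀ z ∈ center P, z ^ (2 ^ m) = 1 :=
      ⟨Nat.find hex, Nat.find_spec hex, fun m hm => Nat.find_min hex hm⟩
    have he2 : 2 ≤ e := by
      by_contra h
      apply hz₁2
      rcases Nat.le_one_iff_eq_zero_or_eq_one.mp (by omega : e ≤ 1) with rfl | rfl
      · have := he z₁ hz₁; rw [pow_zero, pow_one] at this; rw [this, mul_one]
      · have := he z₁ hz₁; rwa [pow_one, pow_two] at this
    obtain ⟨f, rfl⟩ : ∃ f, e = f + 2 := ⟨e - 2, by omega⟩
    obtain ⟨w₁, hw₁, hw₁ne⟩ : ∃ w ∈ center P, w ^ (2 ^ (f + 1)) ≠ 1 := by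
      have h := hmin (f + 1) (by omega)
      push Not at h
      exact h
    -- squares of the centre
    have hroot : ∀ j ≤ f + 1, ∀ z ∈ center P, z ^ (2 ^ j) = 1 → ∃ w ∈ center P, w * w = z := by
      intro j
      induction j with
      | zero =>
        intro _ z _ h
        exact ⟨1, one_mem _, by rw [pow_zero, pow_one] at h; rw [h, mul_one]⟩
      | succ j ihj =>
        intro hj z hz h
        by_cases h1 : z ^ (2 ^ j) = 1
        · exact ihj (by omega) z hz h1
        have hx2 : z ^ (2 ^ j) * z ^ (2 ^ j) = 1 := by rw [← pow_add, ← two_mul, ← pow_succ', h]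
        have hw2 : w₁ ^ (2 ^ (f + 1)) * w₁ ^ (2 ^ (f + 1)) = 1 := by
          rw [← pow_add, ← two_mul, ← pow_succ']; exact he w₁ hw₁
        obtain ⟨k, hk⟩ := htr _ _ hw₁ne hw2 h1 hx2
        obtain ⟨i, hi⟩ : ∃ i, f + 1 = (j + 1) + i := ⟨f + 1 - (j + 1), by omega⟩
        set v := ρ k (w₁ ^ (2 ^ i)) with hv
        have hvc : v ∈ center P := rho_center k (pow_mem hw₁ _)
        have hvz : (v * v) ^ (2 ^ j) = z ^ (2 ^ j) := by
          rw [← hk, hv, ← map_mul, ← map_pow, ← pow_two, ← pow_mul, ← pow_mul]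
          congr 2
          rw [hi, pow_add, pow_succ]
          ring
        obtain ⟨w, hw, hww⟩ := ihj (by omega) (z * (v * v)⁻¹)
          (mul_mem hz (inv_mem (mul_mem hvc hvc)))
          (by
            rw [(show Commute z (v * v)⁻¹ from
              mem_center_iff.mp (inv_mem (mul_mem hvc hvc)) z).mul_pow, inv_pow, hvz, mul_inv_cancel])
        refine ⟨w * v, mul_mem hw hvc, ?_⟩
        rw [mul_assoc w v, ← mul_assoc v w, mem_center_iff.mp hw v, mul_assoc w v v, ← mul_assoc,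
          hww, inv_mul_cancel_right]
    -- lemma A
    have hA : ∀ y : P, y * y ∈ center P → (y * y) ^ (2 ^ (f + 1)) = 1 → y ∈ center P := by
      intro y hy h
      obtain ⟨w, hw, hww⟩ := hroot (f + 1) le_rfl _ hy h
      have hyw : y * w⁻¹ * (y * w⁻¹) = 1 := by
        have hc : Commute y w⁻¹ := mem_center_iff.mp (inv_mem hw) y
        rw [← pow_two, hc.mul_pow, pow_two, pow_two, ← mul_inv_rev, hww, mul_inv_cancel]
      have := mul_mem (hEc _ hyw) hw
      rwa [inv_mul_cancel_right] at this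
    let φ : P → P := fun y => y ^ (2 ^ (f + 2))
    have hφ2 : ∀ y : P, φ y = (y * y) ^ (2 ^ (f + 1)) := fun y => by
      simp only [φ]
      rw [← pow_two, ← pow_mul, ← pow_succ']
    have hφZ : ∀ z ∈ center P, φ z = 1 := he
    have hφsq : ∀ y, y * y ∈ center P → φ y * φ y = 1 := fun y hy => by
      rw [hφ2, ← pow_add, ← two_mul, ← pow_succ']
      exact he _ hy
    have hρcomm : ∀ k (a b : P), ρ k ⁅a, b⁆ = ⁅ρ k a, ρ k b⁆ := fun k a b =>
      map_commutatorElement (ρ k).toMonoidHom a b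
    have hcen : ∀ {c : P}, c ∈ center P → ∀ w, Commute c w := fun hc w =>
      (mem_center_iff.mp hc w).symm
    -- the subgroup `T`
    let T : Subgroup P :=
      { carrier := {y | y * y ∈ center P ∧ ∀ w : P, ⁅y, w⁆ ∈ center P}
        one_mem' := ⟨by rw [one_mul]; exact one_mem _, fun w => by
          rw [commutatorElement_one_left]; exact one_mem _⟩
        mul_mem' := fun {a b} ha hb => ⟨by
            have e : a * b * (a * b) = ⁅b, a⁆ * (a * a) * (b * b) := by
              have h : b * a = ⁅b, a⁆ * (a * b) := by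
                simp only [commutatorElement_def, mul_assoc, inv_mul_cancel_left, inv_mul_cancel,
                  mul_one]
              calc a * b * (a * b) = a * (b * a) * b := by simp only [mul_assoc]
                _ = a * (⁅b, a⁆ * (a * b)) * b := by rw [h]
                _ = ⁅b, a⁆ * a * (a * b) * b := by
                  rw [← mul_assoc a, (hcen (hb.2 a) a).symm.eq]
                _ = _ := by simp only [mul_assoc]
            rw [e]
            exact mul_mem (mul_mem (hb.2 a) ha.1) hb.1,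
          fun w => by rw [comm_mul_left_of_central (hb.2 w)]; exact mul_mem (ha.2 w) (hb.2 w)⟩
        inv_mem' := fun {a} ha => ⟨by rw [← mul_inv_rev]; exact inv_mem ha.1, fun w => by
          have h := comm_mul_right_of_central (y := w) (w := a⁻¹) (w' := a)
            (by rw [← commutatorElement_inv]; exact inv_mem (ha.2 w))
          rw [inv_mul_cancel, commutatorElement_one_right] at h
          rw [← commutatorElement_inv, eq_inv_of_mul_eq_one_left h.symm, inv_inv,
            ← commutatorElement_inv]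
          exact inv_mem (ha.2 w)⟩ }
    have hTρ : ∀ k, ∀ y ∈ T, ρ k y ∈ T := fun k y hy => ⟨by rw [← map_mul]; exact rho_center k hy.1,
      fun w => by
        obtain ⟨w, rfl⟩ := (ρ k).surjective w
        rw [← hρcomm]; exact rho_center k (hy.2 w)⟩
    have hZT : center P ≤ T := fun z hz => ⟨mul_mem hz hz, fun w => by
      rw [commutatorElement_eq_one_iff_mul_comm.mpr (hcen hz w).eq]; exact one_mem _⟩
    have hTcomm : ∀ y ∈ T, ∀ w : P, ⁅y, w⁆ * ⁅y, w⁆ = 1 := fun y hy w => by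
      rw [← comm_mul_left_of_central (hy.2 w)]
      exact commutatorElement_eq_one_iff_mul_comm.mpr (hcen hy.1 w).eq
    have hTn : T.Normal := ⟨fun y hy w => by
      have e : w * y * w⁻¹ = ⁅y, w⁆⁻¹ * y := by
        simp only [commutatorElement_def, mul_inv_rev, inv_inv, mul_assoc, inv_mul_cancel, mul_one]
      rw [e]
      exact T.mul_mem (T.inv_mem (hZT (hy.2 w))) hy⟩
    have hφmul : ∀ y ∈ T, ∀ y' ∈ T, φ (y * y') = φ y * φ y' := by
      intro y hy y' hy'
      have hc := hy'.2 y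
      have e : y * y' * (y * y') = ⁅y', y⁆ * (y * y) * (y' * y') := by
        calc y * y' * (y * y') = y * (⁅y', y⁆ * (y * y')) * y' := by
              simp only [commutatorElement_def, mul_assoc, inv_mul_cancel_left, inv_mul_cancel,
                mul_one]
          _ = ⁅y', y⁆ * y * (y * y') * y' := by rw [← mul_assoc y, (hcen hc y).symm.eq]
          _ = _ := by simp only [mul_assoc]
      rw [hφ2, hφ2, hφ2, e, ((hcen (hy'.1)) _).symm.mul_pow, (hcen hc _).mul_pow]
      have hc1 : ⁅y', y⁆ ^ (2 ^ (f + 1)) = 1 := by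
        rw [pow_succ', pow_mul, pow_two, hTcomm y' hy' y, one_pow]
      rw [hc1, one_mul]
    have hφker : ∀ y ∈ T, φ y = 1 → y ∈ center P := fun y hy h =>
      hA y hy.1 (by rw [← hφ2]; exact h)
    have hφρ : ∀ k, ∀ y : P, φ (ρ k y) = ρ k (φ y) := fun k y => (map_pow (ρ k) y _).symm
    have hZtop : center P ≠ ⊤ := fun h => by
      obtain ⟨a, b, hab⟩ := hnc
      exact hab (hcen (h ▸ Subgroup.mem_top a) b).eq
    obtain ⟨y₀, hy₀Z, hy₀2, hy₀c⟩ := exists_invol_mod hP (center P) hZtop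
    have hy₀ : y₀ ∈ T := ⟨hy₀2, hy₀c⟩
    obtain ⟨hTsurj, hTab⟩ := pullback_trivial hK hE htr T φ (fun a b => ⁅a, b⁆) hTρ
      (fun y hy => hφsq y hy.1) hφmul (fun k y _ => hφρ k y)
      ⟨y₀, hy₀, fun h => hy₀Z (hφker y₀ hy₀ h)⟩
      (fun y hy w _ => hTcomm y hy w)
      (fun y _ y' hy' w _ => comm_mul_left_of_central (hy'.2 w))
      (fun y hy w _ w' _ => comm_mul_right_of_central (hy.2 w'))
      (fun y _ => commutatorElement_self y)
      (fun k y _ w _ => (hρcomm k y w).symm)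
      (fun y hy w _ h => commutatorElement_eq_one_iff_mul_comm.mpr (hcen (hφker y hy h) w).eq)
      (fun y _ w hw h => commutatorElement_eq_one_iff_mul_comm.mpr (hcen (hφker w hw h) y).symm.eq)
    have hTtop : T ≠ ⊤ := fun h => by
      obtain ⟨a, b, hab⟩ := hnc
      exact hab (commutatorElement_eq_one_iff_mul_comm.mp
        (hTab a (h ▸ Subgroup.mem_top a) b (h ▸ Subgroup.mem_top b)))
    -- the subgroup `U`
    let U : Set P := {y | y * y ∈ T ∧ ∀ w : P, ⁅y, w⁆ ∈ T}
    have hU : ∀ y ∈ U, ∀ w : P, ⁅y, w⁆ ∈ center P := by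
      intro y hy w
      set c := ⁅y, w⁆ with hc
      have hcT : c ∈ T := hy.2 w
      have e : ⁅y * y, w⁆ = ⁅c, y⁆⁻¹ * (c * c) := by
        rw [hc, commutatorElement_inv]
        simp only [commutatorElement_def, mul_inv_rev, inv_inv, mul_assoc, inv_mul_cancel_left,
          mul_inv_cancel_left]
      have h1 : c * c = ⁅c, y⁆ * ⁅y * y, w⁆ := by rw [e, mul_inv_cancel_left]
      have h2 : c * c * (c * c) = 1 := by
        rw [h1, ← pow_two, (hcen (hcT.2 y) _).mul_pow, pow_two, pow_two, hTcomm c hcT y,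
          hTcomm _ hy.1 w, one_mul]
      refine hφker c hcT ?_
      rw [hφ2, pow_succ', pow_mul, pow_two, h2, one_pow]
    let U' : Subgroup P :=
      { carrier := U
        one_mem' := ⟨by rw [one_mul]; exact T.one_mem, fun w => by
          rw [commutatorElement_one_left]; exact T.one_mem⟩
        mul_mem' := fun {a b} ha hb => ⟨by
            have e : a * b * (a * b) = ⁅b, a⁆ * (a * a) * (b * b) := by
              calc a * b * (a * b) = a * (⁅b, a⁆ * (a * b)) * b := by
                    simp only [commutatorElement_def, mul_assoc, inv_mul_cancel_left,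
                      inv_mul_cancel, mul_one]
                _ = ⁅b, a⁆ * a * (a * b) * b := by
                  rw [← mul_assoc a, (hcen (hU b hb a) a).symm.eq]
                _ = _ := by simp only [mul_assoc]
            rw [e]
            exact T.mul_mem (T.mul_mem (hb.2 a) ha.1) hb.1,
          fun w => by rw [comm_mul_left_of_central (hU b hb w)]; exact T.mul_mem (ha.2 w) (hb.2 w)⟩
        inv_mem' := fun {a} ha => ⟨by rw [← mul_inv_rev]; exact T.inv_mem ha.1, fun w => by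
          have h := comm_mul_right_of_central (y := w) (w := a⁻¹) (w' := a)
            (by rw [← commutatorElement_inv]; exact inv_mem (hU a ha w))
          rw [inv_mul_cancel, commutatorElement_one_right] at h
          rw [← commutatorElement_inv, eq_inv_of_mul_eq_one_left h.symm, inv_inv,
            ← commutatorElement_inv]
          exact T.inv_mem (ha.2 w)⟩ }
    have hUρ : ∀ k, ∀ y ∈ U', ρ k y ∈ U' := fun k y hy =>
      ⟨by rw [← map_mul]; exact hTρ k _ hy.1, fun w => by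
        obtain ⟨w, rfl⟩ := (ρ k).surjective w
        rw [← hρcomm]; exact hTρ k _ (hy.2 w)⟩
    obtain ⟨u₀, hu₀T, hu₀2, hu₀c⟩ :=
      letI := hTn; exists_invol_mod hP T hTtop
    have hu₀ : u₀ ∈ U' := ⟨hu₀2, hu₀c⟩
    have hψker : ∀ y ∈ U', φ (y * y) = 1 → y ∈ T := fun y hy h =>
      ⟨hφker _ hy.1 h, hU y hy⟩
    have hsq : ∀ a ∈ U', ∀ b ∈ U', a * b * (a * b) = ⁅b, a⁆ * (a * a) * (b * b) := by
      intro a _ b hb
      calc a * b * (a * b) = a * (⁅b, a⁆ * (a * b)) * b := by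
            simp only [commutatorElement_def, mul_assoc, inv_mul_cancel_left, inv_mul_cancel,
              mul_one]
        _ = ⁅b, a⁆ * a * (a * b) * b := by rw [← mul_assoc a, (hcen (hU b hb a) a).symm.eq]
        _ = _ := by simp only [mul_assoc]
    obtain ⟨hUsurj, hUT⟩ := pullback_trivial hK hE htr U' (fun y => φ (y * y))
      (fun a b => ⁅a * a, b⁆) hUρ
      (fun y hy => hφsq _ hy.1.1)
      (fun y hy y' hy' => by
        show φ (y * y' * (y * y')) = φ (y * y) * φ (y' * y')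
        rw [hsq y hy y' hy', hφmul _ (T.mul_mem (hy'.2 y) hy.1) _ hy'.1,
          hφmul _ (hy'.2 y) _ hy.1, hφZ _ (hU y' hy' y), one_mul])
      (fun k y _ => by
        show φ (ρ k y * ρ k y) = ρ k (φ (y * y))
        rw [← map_mul, hφρ])
      ⟨u₀, hu₀, fun h => hu₀T (hψker u₀ hu₀ h)⟩
      (fun y hy w _ => hTcomm _ hy.1 w)
      (fun y hy y' hy' w _ => by
        show ⁅y * y' * (y * y'), w⁆ = ⁅y * y, w⁆ * ⁅y' * y', w⁆
        rw [hsq y hy y' hy', comm_mul_left_of_central (hy'.1.2 w),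
          comm_mul_left_of_central (hy.1.2 w),
          commutatorElement_eq_one_iff_mul_comm.mpr (hcen (hU y' hy' y) w).eq, one_mul])
      (fun y hy w _ w' _ => comm_mul_right_of_central (hy.1.2 w'))
      (fun y _ => commutatorElement_eq_one_iff_mul_comm.mpr (by simp only [mul_assoc]))
      (fun k y _ w _ => by
        show ⁅ρ k y * ρ k y, ρ k w⁆ = ρ k ⁅y * y, w⁆
        rw [← map_mul, hρcomm])
      (fun y hy w _ h => commutatorElement_eq_one_iff_mul_comm.mpr
        (hcen (hφker _ hy.1 h) w).eq)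
      (fun y hy w hw h => hTab _ hy.1 _ (hψker w hw h))
    -- the centraliser of `T`
    set C : Subgroup P := centralizer (T : Set P) with hC
    have hu₀C : u₀ ∈ C := by
      refine mem_centralizer_iff.mpr fun s hs => ?_
      obtain ⟨y, hy, hys⟩ := hUsurj (φ s) (hφsq s (hs : s ∈ T).1)
      have hmem : (y * y)⁻¹ * s ∈ center P := by
        refine hφker _ (T.mul_mem (T.inv_mem hy.1) hs) ?_
        have h1 := hφmul _ hy.1 _ (T.mul_mem (T.inv_mem hy.1) hs)
        rw [mul_inv_cancel_left, hys, left_eq_mul] at h1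
        exact h1
      have h1 : Commute (y * y) u₀ :=
        commutatorElement_eq_one_iff_mul_comm.mp (hUT y hy u₀ hu₀)
      have h2 := h1.mul_left (hcen hmem u₀)
      rwa [mul_inv_cancel_left] at h2
    have hCtop : C ≠ ⊤ := fun h => by
      refine hy₀Z (mem_center_iff.mpr fun w => ?_)
      exact (mem_centralizer_iff.mp (h ▸ Subgroup.mem_top w : w ∈ C) y₀ hy₀).symm
    have hTC : T ≤ C := fun y hy => mem_centralizer_iff.mpr fun s hs =>
      commutatorElement_eq_one_iff_mul_comm.mp (hTab s hs y hy)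
    have hCρ : ∀ k, ∀ d ∈ C, ρ k d ∈ C := fun k d hd => mem_centralizer_iff.mpr fun s hs => by
      have h := congrArg (ρ k) (mem_centralizer_iff.mp hd _ (hTρ k⁻¹ s hs))
      simpa only [map_mul, rho_inv_cancel] using h
    have hCab : ∀ a ∈ C, ∀ b ∈ C, a * b = b * a := by
      by_contra hcon
      push Not at hcon
      obtain ⟨a, ha, b, hb, hab⟩ := hcon
      let ρC : K →* MulAut C :=
        { toFun := fun k =>
            { toFun := fun d => ⟨ρ k d, hCρ k d d.2⟩
              invFun := fun d => ⟨ρ k⁻¹ d, hCρ k⁻¹ d d.2⟩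
              left_inv := fun d => Subtype.ext (by
                show ρ k⁻¹ (ρ k d) = d
                rw [← rho_mul, inv_mul_cancel, map_one]; rfl)
              right_inv := fun d => Subtype.ext (rho_inv_cancel k (d : P))
              map_mul' := fun d d' => Subtype.ext (map_mul (ρ k) (d : P) d') }
          map_one' := MulEquiv.ext fun d => Subtype.ext (by
            show ρ 1 (d : P) = d
            rw [map_one]; rfl)
          map_mul' := fun k k' => MulEquiv.ext fun d => Subtype.ext (rho_mul k k' (d : P)) }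
      have hlt : Nat.card C ≤ n := by
        have h1 : Nat.card C < Nat.card P :=
          lt_of_le_of_ne (Nat.le_of_dvd Nat.card_pos C.card_subgroup_dvd_card)
            (fun h => hCtop (Subgroup.eq_top_of_card_eq C h))
        omega
      refine hz₁2 (congrArg Subtype.val (ih hlt (hP.to_subgroup C) ρC ?_
        ⟨⟨a, ha⟩, ⟨b, hb⟩, fun h => hab (congrArg Subtype.val h)⟩ ⟨z₁, hTC (hZT hz₁)⟩
        (mem_center_iff.mpr fun d => Subtype.ext (mem_center_iff.mp hz₁ d))))
      intro x y hx hx2 hy hy2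
      obtain ⟨k, hk⟩ := htr x y (fun h => hx (Subtype.ext h)) (congrArg Subtype.val hx2)
        (fun h => hy (Subtype.ext h)) (congrArg Subtype.val hy2)
      exact ⟨k, Subtype.ext hk⟩
    have hlowC : ∀ j ≤ f + 2, ∀ d ∈ C, d ^ (2 ^ j) = 1 → d ∈ center P := by
      intro j
      induction j with
      | zero =>
        intro _ d _ h
        rw [pow_zero, pow_one] at h
        exact h ▸ one_mem _
      | succ j ihj =>
        intro hj d hd h
        rw [pow_succ', pow_mul, pow_two] at h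
        refine hA d (ihj (by omega) _ (C.mul_mem hd hd) h) ?_
        obtain ⟨i, hi⟩ : ∃ i, f + 1 = j + i := ⟨f + 1 - j, by omega⟩
        rw [hi, pow_add, pow_mul, h, one_pow]
    -- every element squares into `C`
    have hsqC : ∀ y : P, y * y ∈ C := by
      intro y
      refine mem_centralizer_iff.mpr fun s hs => commutatorElement_eq_one_iff_mul_comm.mp ?_
      rw [comm_mul_right_of_central ((hs : s ∈ T).2 y)]
      exact hTcomm s hs y
    have hCn : C.Normal := by rw [hC]; infer_instance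
    have key : ∀ y : P, ∀ j : ℕ, ∀ d ∈ C, (∀ d' ∈ C, ⁅y, d'⁆ ^ (2 ^ (j + 2)) = 1) →
        ⁅y, d⁆ ^ (2 ^ (j + 1)) = 1 := by
      intro y j d hd hj
      have hmem : ∀ d ∈ C, ⁅y, d⁆ ∈ C := fun d hd => by
        rw [commutatorElement_def]; exact C.mul_mem (hCn.conj_mem d hd y) (C.inv_mem hd)
      have hhom : ∀ d ∈ C, ∀ d' ∈ C, ⁅y, d * d'⁆ = ⁅y, d⁆ * ⁅y, d'⁆ := by
        intro d hd d' hd'
        have e : ⁅y, d * d'⁆ = ⁅y, d⁆ * (d * ⁅y, d'⁆ * d⁻¹) := by
          simp only [commutatorElement_def, mul_inv_rev, mul_assoc, inv_mul_cancel_left]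
        rw [e, hCab d hd _ (hmem d' hd'), mul_inv_cancel_right]
      have hpow : ∀ d ∈ C, ∀ i : ℕ, ⁅y, d ^ i⁆ = ⁅y, d⁆ ^ i := by
        intro d hd i
        induction i with
        | zero => simp
        | succ i ihi => rw [pow_succ, pow_succ, hhom _ (C.pow_mem hd i) _ hd, ihi]
      have h2 : ⁅y, ⁅y, d⁆⁆ = (⁅y, d⁆ * ⁅y, d⁆)⁻¹ := by
        have hyd : y * (y * d) = d * (y * y) := by
          rw [← mul_assoc]; exact hCab _ (hsqC y) d hd
        have e : y * ⁅y, d⁆ * y⁻¹ = ⁅y, d⁆⁻¹ := by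
          have e' : y * ⁅y, d⁆ * y⁻¹ = y * (y * d) * (y⁻¹ * (d⁻¹ * y⁻¹)) := by
            simp only [commutatorElement_def, mul_assoc]
          rw [e', hyd]
          simp only [commutatorElement_def, mul_inv_rev, inv_inv, mul_assoc, mul_inv_cancel_left]
        rw [commutatorElement_def, e, mul_inv_rev]
      have h3 : ⁅y, ⁅y, d⁆ ^ (2 ^ j)⁆ = 1 := by
        have hz := hlowC (min 2 (f + 2)) (min_le_right _ _) _ (C.pow_mem (hmem d hd) (2 ^ j)) (by
          rw [min_eq_left (by omega), ← pow_mul, ← pow_add]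
          exact hj d hd)
        exact commutatorElement_eq_one_iff_mul_comm.mpr (mem_center_iff.mp hz y)
      rw [hpow _ (hmem d hd), h2, inv_pow, inv_eq_one, ← pow_two, ← pow_mul, ← pow_succ'] at h3
      exact h3
    have hC2 : ∀ d ∈ C, ∀ y : P, ⁅y, d⁆ * ⁅y, d⁆ = 1 := by
      intro d hd y
      obtain ⟨m, hm⟩ := IsPGroup.iff_card (p := 2).mp hP
      have hdown : ∀ i j : ℕ, j + i = m → ∀ d' ∈ C, ⁅y, d'⁆ ^ (2 ^ (j + 1)) = 1 := by
        intro i
        induction i with
        | zero =>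
          intro j hj d' _
          rw [pow_succ, pow_mul, show j = m by omega, ← hm, pow_card_eq_one', one_pow]
        | succ i ihi =>
          intro j hj d' hd'
          exact key y j d' hd' (ihi (j + 1) (by omega))
      have := hdown m 0 (by omega) d hd
      rwa [zero_add, pow_one, pow_two] at this
    refine hu₀T ⟨?_, hU u₀ hu₀⟩
    refine mem_center_iff.mpr fun w => commutatorElement_eq_one_iff_mul_comm.mp ?_
    have hcz : ⁅w, u₀⁆ ∈ center P := hEc _ (hC2 u₀ hu₀C w)
    rw [comm_mul_right_of_central hcz]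
    exact hC2 u₀ hu₀C w

/-- **Higman**: the centre of a Suzuki 2-group consists of the involutions and the identity. -/
theorem isSuzuki_center {P : Type u} [Group P] (hP : Cfsg.IsSuzukiTwoGroup P) :
    (∀ x : P, x * x = 1 → x ∈ center P) ∧ ∀ z ∈ center P, z * z = 1 := by
  obtain ⟨hfin, h2, hnc, ⟨x₀, y₀, -, hx₀, hx₀2, -, -⟩, K, hK, hreg⟩ := hP
  letI : CommGroup K := IsCyclic.commGroup
  have htr : ∀ x y : P, x ≠ 1 → x * x = 1 → y ≠ 1 → y * y = 1 → ∃ k : K, K.subtype k x = y :=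
    fun x y hx hx2 hy hy2 => (hreg x y hx hx2 hy hy2).exists
  refine ⟨fun x hx => invol_central_of_transitive (ρ := K.subtype) h2 htr x hx, fun z hz => ?_⟩
  have hKfin : Finite K := inferInstance
  have hcard : Odd (Nat.card K) := by
    by_contra h
    obtain ⟨k, hk⟩ := exists_prime_orderOf_dvd_card' (G := K) 2
      (even_iff_two_dvd.mp (Nat.not_odd_iff_even.mp h))
    have hk2 : k * k = 1 := by rw [← pow_two, ← hk, pow_orderOf_eq_one]
    have hk1 : k ≠ 1 := fun h => by rw [h, orderOf_one] at hk; omega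
    let s : Set P := {x | x ≠ 1 ∧ x * x = 1}
    have hfree : ∀ x, x ≠ 1 → x * x = 1 → (k : MulAut P) x ≠ x := fun x hx hx2 h =>
      hk1 ((hreg x x hx hx2 hx hx2).unique h (by simp))
    have : Fact (Nat.Prime 2) := ⟨Nat.prime_two⟩
    classical
    -- `k` fixes an involution: the involutions are odd in number
    let E : Subgroup P :=
      { carrier := {x | x ∈ center P ∧ x * x = 1}
        one_mem' := ⟨one_mem _, mul_one 1⟩
        mul_mem' := fun {a b} ha hb => ⟨mul_mem ha.1 hb.1, by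
          rw [mul_assoc, ← mul_assoc b a, mem_center_iff.mp ha.1 b, mul_assoc, hb.2, mul_one,
            ha.2]⟩
        inv_mem' := fun {a} ha => ⟨inv_mem ha.1, by rw [← mul_inv_rev, ha.2, inv_one]⟩ }
    let σ : E → E := fun x => ⟨(k : MulAut P) x, rho_center (ρ := K.subtype) k x.2.1, by
      rw [← map_mul, x.2.2, map_one]⟩
    have hσ : ∀ x, σ (σ x) = x := fun x => Subtype.ext (by
      show ((k : MulAut P) * (k : MulAut P)) (x : P) = x
      rw [← Subgroup.coe_mul, hk2]; rfl)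
    have hfix : ∀ x : E, σ x = x ↔ x = 1 := fun x => by
      refine ⟨fun h => ?_, fun h => h ▸ Subtype.ext (map_one _)⟩
      by_contra hx
      exact hfree x (fun h' => hx (Subtype.ext h')) x.2.2 (congrArg Subtype.val h)
    letI : Fintype E := Fintype.ofFinite _
    have hpar := Equiv.Perm.card_fixedPoints_modEq (p := 2) (n := 1) (f := (σ : Function.End E))
      (funext fun x => hσ x)
    have hone : Fintype.card (Function.fixedPoints (σ : Function.End E)) = 1 :=
      Fintype.card_eq_one_iff.mpr ⟨⟨1, (hfix 1).mpr rfl⟩, fun y =>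
        Subtype.ext ((hfix (y : E)).mp y.2)⟩
    obtain ⟨j, hj⟩ := IsPGroup.iff_card.mp (h2.to_subgroup E)
    have hE0 : j ≠ 0 := by
      rintro rfl
      rw [pow_zero, Nat.card_eq_one_iff_unique] at hj
      obtain ⟨hj, -⟩ := hj
      exact hx₀ (congrArg Subtype.val (Subsingleton.elim
        (⟨x₀, invol_central_of_transitive (ρ := K.subtype) h2 htr x₀ hx₀2, hx₀2⟩ : E) 1))
    rw [hone, ← Nat.card_eq_fintype_card, hj] at hpar
    obtain ⟨i, rfl⟩ := Nat.exists_eq_succ_of_ne_zero hE0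
    rw [Nat.ModEq, pow_succ, Nat.mul_mod_left] at hpar
    omega
  exact suzuki_center_aux hcard (Nat.card P) le_rfl h2 K.subtype htr hnc z hz

end Cfsg.Agent.RankOne
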