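import Cfsg.Agent.RankOne.Central

/-!
Fusion in `V = C_D(t)` of a rank-one group with a four-group.
-/

set_option autoImplicit false

open Subgroup MulAction

namespace Cfsg.Agent.RankOne

variable {G Ω : Type*} [Group G] [MulAction G Ω] {a : Ω} {t : G} {Q : Subgroup G} {X : Set G}

/-- An inverted element is determined by the image of an involution under it. -/
theorem conj_invertedBy_inj [Finite G] (hS : Cfsg.IsRankOneSetup G Ω a t Q) {s c c' : G}
    (hs : s ∈ Cfsg.involutionsIn (stabilizer G a : Set G))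
    (hc : c ∈ Cfsg.invertedBy (twoPt G a t) t) (hc' : c' ∈ Cfsg.invertedBy (twoPt G a t) t)
    (h : c⁻¹ * s * c = c'⁻¹ * s * c') : c = c' := by
  let φ : Cfsg.invertedBy (twoPt G a t) t → Cfsg.involutionsIn (stabilizer G a : Set G) :=
    fun c => ⟨(c : G)⁻¹ * s * c, conj_I hS hs (twoPt_le c.2.1)⟩
  have hsurj : Function.Surjective φ := fun s' => by
    obtain ⟨c, hc, e⟩ := exists_conj_invertedBy hS hs s'.2
    exact ⟨⟨c, hc⟩, Subtype.ext e⟩
  have hinj := ((Nat.bijective_iff_surjective_and_card φ).2 ⟨hsurj, card_invertedBy hS⟩).1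
  exact congrArg Subtype.val (hinj (a₁ := ⟨c, hc⟩) (a₂ := ⟨c', hc'⟩) (Subtype.ext h))

/-- Elements of `V` commute with the inverted element moving one centralised involution to
another. -/
theorem exists_conj_invertedBy_cent [Finite G] (hS : Cfsg.IsRankOneSetup G Ω a t Q)
    (hX : ∀ x ∈ X, x ∈ twoPt G a t) (hXt : ∀ x ∈ X, t * x = x * t) {s s' : G}
    (hs : s ∈ Cfsg.involutionsIn (stabilizer G a : Set G))
    (hs' : s' ∈ Cfsg.involutionsIn (stabilizer G a : Set G)) (hsX : s ∈ centralizer X)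
    (hsX' : s' ∈ centralizer X) : ∃ c ∈ centralizer X, c⁻¹ * s * c = s' := by
  obtain ⟨c, hc, e⟩ := exists_conj_invertedBy hS hs hs'
  refine ⟨c, mem_centralizer_iff.mpr fun x hx => ?_, e⟩
  have hc2 := ((mem_invertedBy hS.mul_self).mp hc).2
  have hxc : x * c * x⁻¹ ∈ Cfsg.invertedBy (twoPt G a t) t := by
    refine (mem_invertedBy hS.mul_self).mpr
      ⟨mul_mem (mul_mem (hX x hx) hc.1) (inv_mem (hX x hx)), ?_⟩
    have h1 : x⁻¹ * t = t * x⁻¹ := ((show Commute t x from hXt x hx).inv_right).eq.symm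
    calc t * (x * c * x⁻¹) * t = t * x * c * (x⁻¹ * t) := by simp only [mul_assoc]
      _ = x * (t * c * t) * x⁻¹ := by rw [h1, hXt x hx]; simp only [mul_assoc]
      _ = (x * c * x⁻¹)⁻¹ := by rw [hc2]; simp [mul_assoc]
  refine mul_inv_eq_iff_eq_mul.mp (conj_invertedBy_inj hS hs hxc hc ?_)
  have h1 : x⁻¹ * s * x = s := by
    rw [mul_assoc, ← mem_centralizer_iff.mp hsX x hx, inv_mul_cancel_left]
  have h2 : x * s' * x⁻¹ = s' := by
    rw [mem_centralizer_iff.mp hsX' x hx, mul_inv_cancel_right]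
  calc (x * c * x⁻¹)⁻¹ * s * (x * c * x⁻¹) = x * (c⁻¹ * (x⁻¹ * s * x) * c) * x⁻¹ := by
        simp [mul_assoc]
    _ = c⁻¹ * s * c := by rw [h1, e, h2]

/-- In the centraliser of a subset of `V` any two involutions are conjugate. -/
theorem exists_conj_cent [Finite G] (hS : Cfsg.IsRankOneSetup G Ω a t Q)
    (hX : ∀ x ∈ X, x ∈ twoPt G a t) (hXt : ∀ x ∈ X, t * x = x * t) {u w : G}
    (hu : u * u = 1) (hu1 : u ≠ 1) (hw : w * w = 1) (hw1 : w ≠ 1) (huX : u ∈ centralizer X)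
    (hwX : w ∈ centralizer X) : ∃ m ∈ centralizer X, m * u * m⁻¹ = w := by
  obtain ⟨p, hp⟩ := exists_fixed_point hS hS.mul_self
  have h3 : ∃ d : Ω, d ≠ a ∧ d ≠ t • a ∧ ∀ x ∈ X, x • d = d :=
    ⟨p, fun e => t_smul_ne hS (by rw [e] at hp; exact hp), fun e => t_smul_ne hS (by
      rw [e, t_smul_smul hS] at hp; exact hp.symm),
      fun x hx => commute_fixed_point hS hS.mul_self hS.ne_one hp (hXt x hx)⟩
  have move : ∀ {v : G}, v * v = 1 → v ≠ 1 → v ∈ centralizer X →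
      ∃ h ∈ centralizer X, h⁻¹ * v * h ∈ Cfsg.involutionsIn (stabilizer G a : Set G) := by
    intro v hv hv1 hvX
    obtain ⟨c, hc⟩ := exists_fixed_point hS hv
    obtain ⟨g, hg, hga⟩ := cent_trans hS hX h3 (fun x hx =>
      commute_fixed_point hS hv hv1 hc (mem_centralizer_iff.mp hvX x hx).symm)
    refine ⟨g, hg, ?_⟩
    simpa using conj_mem_I hS hv hv1 (g := g⁻¹) (c := c) (by rw [← hga, inv_smul_smul]) hc
  obtain ⟨h, hh, hhu⟩ := move hu hu1 huX
  obtain ⟨h', hh', hhw⟩ := move hw hw1 hwX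
  obtain ⟨c, hc, e⟩ := exists_conj_invertedBy_cent hS hX hXt hhu hhw
    (mul_mem (mul_mem (inv_mem hh) huX) hh) (mul_mem (mul_mem (inv_mem hh') hwX) hh')
  refine ⟨h' * c⁻¹ * h⁻¹, mul_mem (mul_mem hh' (inv_mem hc)) (inv_mem hh), ?_⟩
  calc h' * c⁻¹ * h⁻¹ * u * (h' * c⁻¹ * h⁻¹)⁻¹ = h' * (c⁻¹ * (h⁻¹ * u * h) * c) * h'⁻¹ := by
        simp [mul_assoc]
    _ = w := by rw [e]; simp [mul_assoc]

/-- Subsets of `V` conjugate in `G` are conjugate in `V`, elementwise by the same map. -/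
theorem exists_conj_V [Finite G] (hS : Cfsg.IsRankOneSetup G Ω a t Q)
    (h2 : ∃ x y : G, x ≠ 1 ∧ y ≠ 1 ∧ x ≠ y ∧ x * x = 1 ∧ y * y = 1 ∧ x * y = y * x) {g : G}
    (hX : ∀ x ∈ X, x ∈ twoPt G a t ∧ t * x = x * t)
    (hY : ∀ x ∈ X, g * x * g⁻¹ ∈ twoPt G a t ∧ t * (g * x * g⁻¹) = g * x * g⁻¹ * t) :
    ∃ v ∈ twoPt G a t ⊓ centralizer ({t} : Set G), ∀ x ∈ X, v * x * v⁻¹ = g * x * g⁻¹ := by
  set u := g * t * g⁻¹ with hudef
  have hu : u * u = 1 := by
    calc u * u = g * (t * t) * g⁻¹ := by simp [hudef, mul_assoc]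
      _ = 1 := by rw [hS.mul_self, mul_one, mul_inv_cancel]
  have hu1 : u ≠ 1 := fun h => hS.ne_one (by simpa [hudef, mul_inv_eq_one, mul_eq_left] using h)
  obtain ⟨m, hm, hmu⟩ := exists_conj_cent hS (X := (fun x => g * x * g⁻¹) '' X)
    (by rintro _ ⟨x, hx, rfl⟩; exact (hY x hx).1) (by rintro _ ⟨x, hx, rfl⟩; exact (hY x hx).2)
    hu hu1 hS.mul_self hS.ne_one
    (mem_centralizer_iff.mpr (by
      rintro _ ⟨x, hx, rfl⟩
      calc g * x * g⁻¹ * u = g * (x * t) * g⁻¹ := by simp [hudef, mul_assoc]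
        _ = g * (t * x) * g⁻¹ := by rw [(hX x hx).2]
        _ = u * (g * x * g⁻¹) := by simp [hudef, mul_assoc]))
    (mem_centralizer_iff.mpr (by rintro _ ⟨x, hx, rfl⟩; exact (hY x hx).2.symm))
  -- `w` centralises `t` and induces the given map on `X`
  set w := m * g with hwdef
  have hwt : Commute w t := by
    show w * t = t * w
    calc w * t = (m * u * m⁻¹) * w := by simp [hwdef, hudef, mul_assoc]
      _ = t * w := by rw [hmu]
  have hwX : ∀ x ∈ X, w * x * w⁻¹ = g * x * g⁻¹ := fun x hx => by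
    have := mem_centralizer_iff.mp hm _ ⟨x, hx, rfl⟩
    calc w * x * w⁻¹ = m * (g * x * g⁻¹) * m⁻¹ := by simp [hwdef, mul_assoc]
      _ = g * x * g⁻¹ := by rw [← this, mul_inv_cancel_right]
  obtain ⟨p, hp⟩ := exists_fixed_point hS hS.mul_self
  have hfix : ∀ z : G, Commute t z → z • p = p := fun z hz =>
    commute_fixed_point hS hS.mul_self hS.ne_one hp hz
  obtain ⟨k, hk⟩ := exists_smul hS p a
  have hs := conj_mem_I hS hS.mul_self hS.ne_one hk hp
  set s := k * t * k⁻¹ with hsdef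
  set a' := k • a with ha'
  have ha'ne : a' ≠ a := fun e => t_smul_ne hS (by
    have hpa : a = p := MulAction.injective k (e.trans hk.symm)
    rw [← hpa] at hp
    exact hp)
  have hfa : ∀ z : G, Commute t z → (k * z * k⁻¹) • a = a := fun z hz => by
    rw [mul_smul, mul_smul, ← hk, inv_smul_smul, hfix z hz]
  have hwa : (k * w * k⁻¹) • a' ≠ a := fun e =>
    ha'ne (MulAction.injective _ (e.trans (hfa w hwt.symm).symm))
  obtain ⟨⟨q, hq⟩, hqe, -⟩ := regular hS ha'ne hwa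
  set v' := q⁻¹ * (k * w * k⁻¹) with hv'
  have hv'a : v' • a = a := by
    rw [hv', mul_smul, hfa w hwt.symm, smul_a_of_mem_Q hS (Q.inv_mem hq)]
  have hv'a' : v' • a' = a' := by
    rw [hv', mul_smul, ← hqe, inv_smul_smul]
  have hv's : Commute s v' := by
    refine (Commute.inv_right (invol_central hS h2 hs hq)).mul_right ?_
    show s * (k * w * k⁻¹) = k * w * k⁻¹ * s
    calc s * (k * w * k⁻¹) = k * (t * w) * k⁻¹ := by simp [hsdef, mul_assoc]
      _ = k * (w * t) * k⁻¹ := by rw [hwt.eq]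
      _ = k * w * k⁻¹ * s := by simp [hsdef, mul_assoc]
  set v := k⁻¹ * v' * k with hvdef
  have hvt : Commute v t := by
    show v * t = t * v
    calc v * t = k⁻¹ * (v' * s) * k := by simp [hvdef, hsdef, mul_assoc]
      _ = k⁻¹ * (s * v') * k := by rw [hv's.eq]
      _ = t * v := by simp [hvdef, hsdef, mul_assoc]
  have hva : v • a = a := by
    rw [hvdef, mul_smul, mul_smul, ← ha', hv'a', ha', inv_smul_smul]
  refine ⟨v, ⟨mem_twoPt.mpr ⟨hva, by rw [← mul_smul, hvt.eq, mul_smul, hva]⟩,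
    mem_centralizer_singleton_iff.mpr hvt.eq⟩, fun x hx => ?_⟩
  -- both conjugates lie in the stabiliser of `a` and `a'`, and differ by an element of `Q`
  set z := v' * (k * x * k⁻¹) * v'⁻¹ with hz
  have hza : z • a = a := by
    rw [hz, mul_smul, mul_smul, inv_smul_eq_iff.mpr hv'a.symm, hfa x (hX x hx).2, hv'a]
  have hxa' : (k * x * k⁻¹) • a' = a' := by
    rw [mul_smul, mul_smul, ha', inv_smul_smul, (mem_twoPt.mp (hX x hx).1).1]
  have hza' : z • a' = a' := by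
    rw [hz, mul_smul, mul_smul, inv_smul_eq_iff.mpr hv'a'.symm, hxa', hv'a']
  have hy : q * z * q⁻¹ = k * (g * x * g⁻¹) * k⁻¹ := by
    rw [← hwX x hx]; simp [hz, hv', mul_assoc]
  have hya' : (q * z * q⁻¹) • a' = a' := by
    rw [hy, mul_smul, mul_smul, ha', inv_smul_smul, (mem_twoPt.mp (hY x hx).1).1]
  have hcomm : q * z * q⁻¹ * z⁻¹ = 1 := by
    refine Q_free hS ?_ ha'ne ?_
    · rw [show q * z * q⁻¹ * z⁻¹ = q * (z * q⁻¹ * z⁻¹) by simp [mul_assoc]]
      exact Q.mul_mem hq (conj_mem_Q hS (show z ∈ stabilizer G a from hza) (Q.inv_mem hq))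
    · rw [mul_smul, inv_smul_eq_iff.mpr hza'.symm, hya']
  rw [mul_inv_eq_one] at hcomm
  calc v * x * v⁻¹ = k⁻¹ * z * k := by simp [hvdef, hz, mul_assoc]
    _ = k⁻¹ * (q * z * q⁻¹) * k := by rw [hcomm]
    _ = g * x * g⁻¹ := by rw [hy]; simp [mul_assoc]

end Cfsg.Agent.RankOne
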