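import Cfsg.Agent.RankOne.Odd

/-!
The standing set-up of a rank-one group: regularity of `Q`, the canonical form `g = q h t f`,
involutions, and the bijection between involutions fixing `a` and elements of `D` inverted by `t`.
-/

set_option autoImplicit false

open Subgroup MulAction

namespace Cfsg.Agent.RankOne

variable {G Ω : Type*} [Group G] [MulAction G Ω] {a : Ω} {t : G} {Q : Subgroup G}

/-- The two-point stabiliser of the set-up. -/
abbrev twoPt (G : Type*) [Group G] {Ω : Type*} [MulAction G Ω] (a : Ω) (t : G) : Subgroup G :=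
  stabilizer G a ⊓ stabilizer G (t • a)

theorem t_inv (hS : Cfsg.IsRankOneSetup G Ω a t Q) : t⁻¹ = t :=
  inv_eq_self_of_invol hS.mul_self

theorem t_conj_conj (hS : Cfsg.IsRankOneSetup G Ω a t Q) (x : G) : t * (t * x * t) * t = x :=
  conj_conj_of_invol hS.mul_self x

theorem t_smul_ne (hS : Cfsg.IsRankOneSetup G Ω a t Q) : t • a ≠ a := hS.not_mem

theorem t_smul_smul (hS : Cfsg.IsRankOneSetup G Ω a t Q) : t • t • a = a := by
  rw [smul_smul, hS.mul_self, one_smul]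

theorem t_smul_t_mul (hS : Cfsg.IsRankOneSetup G Ω a t Q) (g h : G) :
    t * g * h * t = (t * g * t) * (t * h * t) := by
  simp only [mul_assoc]
  simp only [← mul_assoc t t, hS.mul_self, one_mul]

theorem mem_twoPt {x : G} : x ∈ twoPt G a t ↔ x • a = a ∧ x • (t • a) = t • a := Iff.rfl

theorem twoPt_le : twoPt G a t ≤ stabilizer G a := inf_le_left

theorem isPretransitive (hS : Cfsg.IsRankOneSetup G Ω a t Q) : IsPretransitive G Ω :=
  haveI := hS.two_transitive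
  isPretransitive_of_is_two_pretransitive

theorem exists_smul_pair (hS : Cfsg.IsRankOneSetup G Ω a t Q) {b c d e : Ω} (h₁ : b ≠ c)
    (h₂ : d ≠ e) : ∃ g : G, g • b = d ∧ g • c = e :=
  (is_two_pretransitive_iff.mp hS.two_transitive) h₁ h₂

theorem exists_smul (hS : Cfsg.IsRankOneSetup G Ω a t Q) (b c : Ω) : ∃ g : G, g • b = c :=
  (isPretransitive hS).exists_smul_eq b c

theorem finite_points [Finite G] (hS : Cfsg.IsRankOneSetup G Ω a t Q) : Finite Ω :=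
  Finite.of_surjective (fun g : G => g • a) (fun c => exists_smul hS a c)

theorem stabilizer_normalizes (hS : Cfsg.IsRankOneSetup G Ω a t Q) :
    stabilizer G a ≤ normalizer (Q : Set G) := by
  intro g hg n
  refine ⟨fun hn => hS.conj_mem g hg n hn, fun hn => ?_⟩
  have := hS.conj_mem g⁻¹ (inv_mem hg) _ hn
  simpa [mul_assoc] using this

theorem conj_mem_Q (hS : Cfsg.IsRankOneSetup G Ω a t Q) {g x : G} (hg : g ∈ stabilizer G a)
    (hx : x ∈ Q) : g * x * g⁻¹ ∈ Q := hS.conj_mem g hg x hx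

theorem conj_mem_Q' (hS : Cfsg.IsRankOneSetup G Ω a t Q) {g x : G} (hg : g ∈ stabilizer G a)
    (hx : x ∈ Q) : g⁻¹ * x * g ∈ Q := by
  simpa using hS.conj_mem g⁻¹ (inv_mem hg) x hx

theorem t_conj_twoPt (hS : Cfsg.IsRankOneSetup G Ω a t Q) {d : G} (hd : d ∈ twoPt G a t) :
    t * d * t ∈ twoPt G a t := by
  obtain ⟨h1, h2⟩ := mem_twoPt.mp hd
  refine mem_twoPt.mpr ⟨?_, ?_⟩
  · rw [mul_smul, mul_smul, h2, t_smul_smul hS]
  · rw [mul_smul, mul_smul, t_smul_smul hS, h1]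

theorem t_conj_twoPt' (hS : Cfsg.IsRankOneSetup G Ω a t Q) :
    ∀ d ∈ twoPt G a t, t * d * t⁻¹ ∈ twoPt G a t := fun d hd => by
  rw [t_inv hS]; exact t_conj_twoPt hS hd

theorem eq_one_of_mem (hS : Cfsg.IsRankOneSetup G Ω a t Q) {q : G} (hq : q ∈ Q)
    (hd : q • (t • a) = t • a) : q = 1 :=
  (Subgroup.mem_bot).mp (hS.inf_eq_bot ▸ (⟨hq, hd⟩ : q ∈ Q ⊓ stabilizer G (t • a)))

theorem eq_one_of_mem_twoPt (hS : Cfsg.IsRankOneSetup G Ω a t Q) {q : G} (hq : q ∈ Q)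
    (hd : q ∈ twoPt G a t) : q = 1 := eq_one_of_mem hS hq (mem_twoPt.mp hd).2

theorem stabilizer_split (hS : Cfsg.IsRankOneSetup G Ω a t Q) {h : G} (hh : h ∈ stabilizer G a) :
    ∃ q ∈ Q, ∃ d ∈ twoPt G a t, h = q * d := by
  rw [← hS.sup_eq, ← SetLike.mem_coe,
    Subgroup.coe_mul_of_right_le_normalizer_left Q _ (twoPt_le.trans (stabilizer_normalizes hS))] at hh
  obtain ⟨q, hq, d, hd, rfl⟩ := hh
  exact ⟨q, hq, d, hd, rfl⟩

theorem split_unique (hS : Cfsg.IsRankOneSetup G Ω a t Q) {q₁ q₂ d₁ d₂ : G} (hq₁ : q₁ ∈ Q)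
    (hq₂ : q₂ ∈ Q) (hd₁ : d₁ ∈ twoPt G a t) (hd₂ : d₂ ∈ twoPt G a t) (h : q₁ * d₁ = q₂ * d₂) :
    q₁ = q₂ ∧ d₁ = d₂ := by
  have h1 : q₂⁻¹ * q₁ = d₂ * d₁⁻¹ := by
    rw [inv_mul_eq_iff_eq_mul, ← mul_assoc, ← h, mul_inv_cancel_right]
  have h2 : q₂⁻¹ * q₁ = 1 := eq_one_of_mem_twoPt hS (Q.mul_mem (Q.inv_mem hq₂) hq₁)
    (h1 ▸ mul_mem hd₂ (inv_mem hd₁))
  have h3 : q₂ = q₁ := inv_mul_eq_one.mp h2
  subst h3
  exact ⟨rfl, mul_left_cancel h⟩

theorem exists_Q_smul (hS : Cfsg.IsRankOneSetup G Ω a t Q) {c : Ω} (hc : c ≠ a) :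
    ∃ q ∈ Q, q • (t • a) = c := by
  obtain ⟨g, hga, hgb⟩ := exists_smul_pair hS (t_smul_ne hS).symm hc.symm
  obtain ⟨q, hq, d, hd, rfl⟩ := stabilizer_split hS (show g ∈ stabilizer G a from hga)
  exact ⟨q, hq, by rwa [mul_smul, (mem_twoPt.mp hd).2] at hgb⟩

theorem Q_free (hS : Cfsg.IsRankOneSetup G Ω a t Q) {x : G} (hx : x ∈ Q) {c : Ω} (hc : c ≠ a)
    (h : x • c = c) : x = 1 := by
  obtain ⟨q, hq, rfl⟩ := exists_Q_smul hS hc
  have h1 : (q⁻¹ * x * q) • (t • a) = t • a := by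
    rw [mul_smul, mul_smul, h, inv_smul_smul]
  have := eq_one_of_mem hS (Q.mul_mem (Q.mul_mem (Q.inv_mem hq) hx) hq) h1
  rwa [mul_assoc, inv_mul_eq_one, eq_comm, mul_eq_right] at this

theorem fixes_only (hS : Cfsg.IsRankOneSetup G Ω a t Q) {x : G} (hx : x ∈ Q) (hx1 : x ≠ 1) {c : Ω}
    (h : x • c = c) : c = a := by
  by_contra hc
  exact hx1 (Q_free hS hx hc h)

theorem smul_a_of_mem_Q (hS : Cfsg.IsRankOneSetup G Ω a t Q) {x : G} (hx : x ∈ Q) : x • a = a :=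
  hS.le hx

theorem Q_smul_inj (hS : Cfsg.IsRankOneSetup G Ω a t Q) {x y : G} (hx : x ∈ Q) (hy : y ∈ Q) {c : Ω}
    (hc : c ≠ a) (h : x • c = y • c) : x = y := by
  have := Q_free hS (Q.mul_mem (Q.inv_mem hy) hx) hc (by rw [mul_smul, h, inv_smul_smul])
  exact (inv_mul_eq_one.mp this).symm

theorem Q_smul_ne (hS : Cfsg.IsRankOneSetup G Ω a t Q) {x : G} (hx : x ∈ Q) {c : Ω} (hc : c ≠ a) :
    x • c ≠ a := fun h => hc (MulAction.injective x (h.trans (smul_a_of_mem_Q hS hx).symm))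

theorem regular (hS : Cfsg.IsRankOneSetup G Ω a t Q) {b c : Ω} (hb : b ≠ a) (hc : c ≠ a) :
    ∃! x : Q, (x : G) • b = c := by
  obtain ⟨p, hp, rfl⟩ := exists_Q_smul hS hb
  obtain ⟨q, hq, rfl⟩ := exists_Q_smul hS hc
  refine ⟨⟨q * p⁻¹, Q.mul_mem hq (Q.inv_mem hp)⟩, ?_, ?_⟩
  · simp [mul_smul]
  · rintro ⟨y, hy⟩ h
    refine Subtype.ext (Q_smul_inj hS hy (Q.mul_mem hq (Q.inv_mem hp)) hb ?_)
    simpa [mul_smul] using h

theorem exists_ne_one [Finite G] (hS : Cfsg.IsRankOneSetup G Ω a t Q) : ∃ x ∈ Q, x ≠ 1 := by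
  by_contra h
  push Not at h
  have hQ : Q = ⊥ := eq_bot_iff.mpr fun x hx => Subgroup.mem_bot.mpr (h x hx)
  have := hS.even_card
  rw [hQ, Subgroup.card_bot] at this
  simp at this

/-! ### Two-elements of the point stabiliser lie in `Q` -/

theorem mem_Q_of_sq_mem (hS : Cfsg.IsRankOneSetup G Ω a t Q) {x : G} (hx : x ∈ stabilizer G a)
    (h : x * x ∈ Q) : x ∈ Q := by
  obtain ⟨q, hq, d, hd, rfl⟩ := stabilizer_split hS hx
  have h1 : d * d = (q * (d * q * d⁻¹))⁻¹ * (q * d * (q * d)) := by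
    simp only [mul_inv_rev, inv_inv, mul_assoc, inv_mul_cancel_left]
  have h2 : d * d ∈ Q := h1 ▸ Q.mul_mem (Q.inv_mem (Q.mul_mem hq (conj_mem_Q hS (twoPt_le hd) hq))) h
  have h3 := eq_one_of_sq_eq_one hS.odd_card hd (eq_one_of_mem_twoPt hS h2 (mul_mem hd hd))
  rwa [h3, mul_one]

theorem mem_Q_of_pow_two_pow (hS : Cfsg.IsRankOneSetup G Ω a t Q) :
    ∀ (k : ℕ) {x : G}, x ∈ stabilizer G a → x ^ (2 ^ k) = 1 → x ∈ Q
  | 0, x, _, h => by
      rw [pow_zero, pow_one] at h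
      exact h ▸ Q.one_mem
  | k + 1, x, hx, h => by
      refine mem_Q_of_sq_mem hS hx (mem_Q_of_pow_two_pow hS k (mul_mem hx hx) ?_)
      rw [← pow_two, ← pow_mul, ← pow_succ', h]

theorem invol_mem_Q (hS : Cfsg.IsRankOneSetup G Ω a t Q) {s : G} (hs : s ∈ stabilizer G a)
    (h : s * s = 1) : s ∈ Q :=
  mem_Q_of_sq_mem hS hs (h ▸ Q.one_mem)

theorem mem_I_Q (hS : Cfsg.IsRankOneSetup G Ω a t Q) {s : G}
    (hs : s ∈ Cfsg.involutionsIn (stabilizer G a : Set G)) : s ∈ Q :=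
  invol_mem_Q hS hs.1 hs.2.2

theorem I_fixes_only (hS : Cfsg.IsRankOneSetup G Ω a t Q) {s : G}
    (hs : s ∈ Cfsg.involutionsIn (stabilizer G a : Set G)) {c : Ω} (h : s • c = c) : c = a :=
  fixes_only hS (mem_I_Q hS hs) hs.2.1 h

/-! ### Counting -/

theorem card_points [Finite G] (hS : Cfsg.IsRankOneSetup G Ω a t Q) :
    Nat.card Ω = Nat.card Q + 1 := by
  classical
  have : Finite Ω := finite_points hS
  let φ : Option Q → Ω := fun o => o.elim a (fun q => (q : G) • (t • a))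
  have hbij : Function.Bijective φ := by
    refine ⟨?_, fun c => ?_⟩
    · rintro (_ | x) (_ | y) h
      · rfl
      · exact absurd h.symm (Q_smul_ne hS y.2 (t_smul_ne hS))
      · exact absurd h (Q_smul_ne hS x.2 (t_smul_ne hS))
      · exact congrArg some (Subtype.ext (Q_smul_inj hS x.2 y.2 (t_smul_ne hS) h))
    · by_cases hc : c = a
      · exact ⟨none, hc.symm⟩
      · obtain ⟨q, hq, h⟩ := exists_Q_smul hS hc
        exact ⟨some ⟨q, hq⟩, h⟩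
  rw [← Nat.card_eq_of_bijective φ hbij, Finite.card_option]

theorem card_stabilizer [Finite G] (hS : Cfsg.IsRankOneSetup G Ω a t Q) :
    Nat.card (stabilizer G a) = Nat.card Q * Nat.card (twoPt G a t) := by
  let φ : Q × twoPt G a t → stabilizer G a :=
    fun p => ⟨(p.1 : G) * p.2, mul_mem (hS.le p.1.2) (twoPt_le p.2.2)⟩
  have hbij : Function.Bijective φ := by
    refine ⟨?_, ?_⟩
    · rintro ⟨⟨q₁, hq₁⟩, ⟨d₁, hd₁⟩⟩ ⟨⟨q₂, hq₂⟩, ⟨d₂, hd₂⟩⟩ h
      obtain ⟨rfl, rfl⟩ := split_unique hS hq₁ hq₂ hd₁ hd₂ (congrArg Subtype.val h)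
      rfl
    · rintro ⟨h, hh⟩
      obtain ⟨q, hq, d, hd, e⟩ := stabilizer_split hS hh
      exact ⟨(⟨q, hq⟩, ⟨d, hd⟩), Subtype.ext e.symm⟩
  rw [← Nat.card_eq_of_bijective φ hbij, Nat.card_prod]

theorem card_group [Finite G] (hS : Cfsg.IsRankOneSetup G Ω a t Q) :
    Nat.card G = Nat.card Q * Nat.card (twoPt G a t) * (Nat.card Q + 1) := by
  have := isPretransitive hS
  rw [← card_stabilizer hS, ← card_points hS, ← MulAction.index_stabilizer_of_transitive G a]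
  exact (Subgroup.card_mul_index _).symm

theorem exists_sylow [Finite G] (hS : Cfsg.IsRankOneSetup G Ω a t Q) :
    ∃ P : Sylow 2 G, (P : Subgroup G) ≤ Q := by
  classical
  have : Finite Ω := finite_points hS
  have : Fact (Nat.Prime 2) := ⟨Nat.prime_two⟩
  obtain ⟨P⟩ : Nonempty (Sylow 2 G) := inferInstance
  have hodd : ¬ 2 ∣ Nat.card Ω := by
    rw [card_points hS]
    obtain ⟨k, hk⟩ := hS.even_card
    omega
  obtain ⟨c, hc⟩ := P.2.nonempty_fixed_point_of_prime_not_dvd_card Ω hodd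
  obtain ⟨g, hg⟩ := exists_smul hS c a
  refine ⟨g • P, fun x hx => ?_⟩
  have hxP : g⁻¹ * x * g ∈ (P : Subgroup G) := by
    rw [Sylow.coe_subgroup_smul, Subgroup.mem_pointwise_smul_iff_inv_smul_mem] at hx
    simpa using hx
  obtain ⟨k, hk⟩ := (g • P).2 ⟨x, hx⟩
  refine mem_Q_of_pow_two_pow hS k ?_ (congrArg Subtype.val hk)
  have h1 : (g⁻¹ * x * g) • c = c := hc ⟨_, hxP⟩
  rw [mul_smul, mul_smul, hg, inv_smul_eq_iff, hg] at h1
  exact h1

/-! ### Involutions -/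

theorem exists_conj_mem_stabilizer [Finite G] (hS : Cfsg.IsRankOneSetup G Ω a t Q) {u : G}
    (hu : u * u = 1) : ∃ g : G, g * u * g⁻¹ ∈ stabilizer G a := by
  obtain ⟨P, hP⟩ := exists_sylow hS
  have : Fact (Nat.Prime 2) := ⟨Nat.prime_two⟩
  have hz : IsPGroup 2 (zpowers u) := fun x => by
    obtain ⟨x, hx⟩ := x
    obtain ⟨i, rfl⟩ := Subgroup.mem_zpowers_iff.mp hx
    refine ⟨1, Subtype.ext ?_⟩
    show (u ^ i) ^ (2 ^ 1) = 1
    rw [pow_one, pow_two, ← (Commute.refl u).mul_zpow, hu, one_zpow]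
  obtain ⟨P', hP'⟩ := hz.exists_le_sylow
  obtain ⟨g, hg⟩ := MulAction.exists_smul_eq G P' P
  refine ⟨g, hS.le (hP ?_)⟩
  rw [← hg, Sylow.coe_subgroup_smul, Subgroup.mem_pointwise_smul_iff_inv_smul_mem]
  simpa [mul_assoc] using hP' (mem_zpowers u)

theorem exists_fixed_point [Finite G] (hS : Cfsg.IsRankOneSetup G Ω a t Q) {u : G}
    (hu : u * u = 1) : ∃ c : Ω, u • c = c := by
  obtain ⟨g, hg⟩ := exists_conj_mem_stabilizer hS hu
  refine ⟨g⁻¹ • a, ?_⟩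
  have h : (g * u * g⁻¹) • a = a := hg
  rwa [mul_smul, mul_smul, smul_eq_iff_eq_inv_smul] at h

theorem conj_mem_I (hS : Cfsg.IsRankOneSetup G Ω a t Q) {u : G} (hu : u * u = 1) (hu1 : u ≠ 1)
    {g : G} {c : Ω} (hg : g • c = a) (hc : u • c = c) :
    g * u * g⁻¹ ∈ Cfsg.involutionsIn (stabilizer G a : Set G) := by
  refine ⟨?_, ?_, ?_⟩
  · show (g * u * g⁻¹) • a = a
    rw [mul_smul, mul_smul, ← hg, inv_smul_smul, hc]
  · simpa [mul_inv_eq_one, mul_eq_left] using hu1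
  · calc g * u * g⁻¹ * (g * u * g⁻¹) = g * (u * u) * g⁻¹ := by simp [mul_assoc]
      _ = 1 := by rw [hu, mul_one, mul_inv_cancel]

theorem fixed_point_unique (hS : Cfsg.IsRankOneSetup G Ω a t Q) {u : G} (hu : u * u = 1)
    (hu1 : u ≠ 1) {c c' : Ω} (hc : u • c = c) (hc' : u • c' = c') : c' = c := by
  obtain ⟨g, hg⟩ := exists_smul hS c a
  have h := I_fixes_only hS (conj_mem_I hS hu hu1 hg hc) (c := g • c') (by
    rw [mul_smul, mul_smul, inv_smul_smul, hc'])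
  exact MulAction.injective g (h.trans hg.symm)

theorem commute_fixed_point (hS : Cfsg.IsRankOneSetup G Ω a t Q) {u x : G} (hu : u * u = 1)
    (hu1 : u ≠ 1) {c : Ω} (hc : u • c = c) (hx : Commute u x) : x • c = c :=
  fixed_point_unique hS hu hu1 hc (by rw [← mul_smul, hx.eq, mul_smul, hc])

/-! ### The canonical form -/

theorem form_exists (hS : Cfsg.IsRankOneSetup G Ω a t Q) {g : G} (hg : g ∉ stabilizer G a) :
    ∃ p : G × G, p.1 ∈ stabilizer G a ∧ p.2 ∈ Q ∧ g = p.1 * t * p.2 := by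
  have hne : g⁻¹ • a ≠ a := fun h => hg (inv_mem_iff.mp h)
  obtain ⟨q, hq, hqb⟩ := exists_Q_smul hS hne
  refine ⟨(g * q * t, q⁻¹), ?_, Q.inv_mem hq, ?_⟩
  · show (g * q * t) • a = a
    rw [mul_smul, mul_smul, hqb, smul_inv_smul]
  · simp only [mul_assoc]
    simp only [← mul_assoc t t, hS.mul_self, one_mul, mul_inv_cancel, mul_one]

theorem form_unique (hS : Cfsg.IsRankOneSetup G Ω a t Q) {h₁ h₂ f₁ f₂ : G}
    (hh₁ : h₁ ∈ stabilizer G a) (hh₂ : h₂ ∈ stabilizer G a) (hf₁ : f₁ ∈ Q) (hf₂ : f₂ ∈ Q)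
    (h : h₁ * t * f₁ = h₂ * t * f₂) : h₁ = h₂ ∧ f₁ = f₂ := by
  have h1 : f₁⁻¹ • (t • a) = f₂⁻¹ • (t • a) := by
    have e1 : (h₁ * t * f₁)⁻¹ • a = f₁⁻¹ • (t • a) := by
      rw [mul_inv_rev, mul_inv_rev, mul_smul, mul_smul, t_inv hS,
        (show h₁⁻¹ • a = a from inv_mem hh₁)]
    have e2 : (h₂ * t * f₂)⁻¹ • a = f₂⁻¹ • (t • a) := by
      rw [mul_inv_rev, mul_inv_rev, mul_smul, mul_smul, t_inv hS,
        (show h₂⁻¹ • a = a from inv_mem hh₂)]
    rw [← e1, ← e2, h]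
  have h2 : f₁ = f₂ :=
    inv_injective (Q_smul_inj hS (Q.inv_mem hf₁) (Q.inv_mem hf₂) (t_smul_ne hS) h1)
  subst h2
  exact ⟨mul_right_cancel (mul_right_cancel h), rfl⟩

theorem canon_exists (hS : Cfsg.IsRankOneSetup G Ω a t Q) {x : G} (hx : x ∉ stabilizer G a) :
    ∃ g h f : G, g ∈ Q ∧ h ∈ twoPt G a t ∧ f ∈ Q ∧ x = g * h * t * f := by
  obtain ⟨p, hp1, hp2, rfl⟩ := form_exists hS hx
  obtain ⟨g, hg, h, hh, e⟩ := stabilizer_split hS hp1
  exact ⟨g, h, p.2, hg, hh, hp2, by rw [e]⟩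

theorem canon_unique (hS : Cfsg.IsRankOneSetup G Ω a t Q) {g₁ g₂ h₁ h₂ f₁ f₂ : G}
    (hg₁ : g₁ ∈ Q) (hg₂ : g₂ ∈ Q) (hh₁ : h₁ ∈ twoPt G a t) (hh₂ : h₂ ∈ twoPt G a t)
    (hf₁ : f₁ ∈ Q) (hf₂ : f₂ ∈ Q) (h : g₁ * h₁ * t * f₁ = g₂ * h₂ * t * f₂) :
    g₁ = g₂ ∧ h₁ = h₂ ∧ f₁ = f₂ := by
  obtain ⟨e, hf⟩ := form_unique hS (mul_mem (hS.le hg₁) (twoPt_le hh₁))
    (mul_mem (hS.le hg₂) (twoPt_le hh₂)) hf₁ hf₂ h
  obtain ⟨hg, hh⟩ := split_unique hS hg₁ hg₂ hh₁ hh₂ e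
  exact ⟨hg, hh, hf⟩

theorem t_Q_t_not_mem (hS : Cfsg.IsRankOneSetup G Ω a t Q) {x : G} (hx : x ∈ Q) (hx1 : x ≠ 1) :
    t * x * t ∉ stabilizer G a := by
  intro h
  have h1 : (t * x * t) • a = a := h
  rw [mul_smul, mul_smul, smul_eq_iff_eq_inv_smul, t_inv hS] at h1
  exact hx1 (eq_one_of_mem hS hx h1)

/-! ### Involutions fixing `a` and inverted elements of `D` -/

/-- `s` and `k` are linked when `t s t = r⁻¹ (k t) r` for some `r ∈ Q`. -/
def Link (Q : Subgroup G) (t s k : G) : Prop := ∃ r ∈ Q, t * s * t = r⁻¹ * (k * t) * r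

theorem link_exists_left (hS : Cfsg.IsRankOneSetup G Ω a t Q) {s : G}
    (hs : s ∈ Cfsg.involutionsIn (stabilizer G a : Set G)) :
    ∃ k ∈ Cfsg.invertedBy (twoPt G a t) t, Link Q t s k := by
  obtain ⟨g, h, f, hg, hh, hf, e⟩ := canon_exists hS (t_Q_t_not_mem hS (mem_I_Q hS hs) hs.2.1)
  have hinv : (t * s * t)⁻¹ = t * s * t := by
    rw [mul_inv_rev, mul_inv_rev, t_inv hS, inv_eq_of_mul_eq_one_right hs.2.2, mul_assoc]
  have e' : f⁻¹ * (t * h⁻¹ * t) * t * g⁻¹ = g * h * t * f := by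
    calc f⁻¹ * (t * h⁻¹ * t) * t * g⁻¹ = f⁻¹ * t * h⁻¹ * g⁻¹ := by
          simp only [mul_assoc]
          simp only [← mul_assoc t t, hS.mul_self, one_mul]
      _ = (g * h * t * f)⁻¹ := by simp [mul_inv_rev, t_inv hS, mul_assoc]
      _ = g * h * t * f := by rw [← e, hinv]
  obtain ⟨e1, e2, -⟩ := canon_unique hS (Q.inv_mem hf) hg (t_conj_twoPt hS (inv_mem hh)) hh
    (Q.inv_mem hg) hf e'
  refine ⟨h, (mem_invertedBy hS.mul_self).mpr ⟨hh, ?_⟩, f, hf, ?_⟩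
  · conv_lhs => rw [← e2]
    exact t_conj_conj hS _
  · rw [e, ← e1, mul_assoc f⁻¹ h t]

theorem link_unique_right (hS : Cfsg.IsRankOneSetup G Ω a t Q) {s k k' : G}
    (hk : k ∈ twoPt G a t) (hk' : k' ∈ twoPt G a t) (h : Link Q t s k) (h' : Link Q t s k') :
    k = k' := by
  obtain ⟨r, hr, e⟩ := h
  obtain ⟨r', hr', e'⟩ := h'
  refine (canon_unique hS (Q.inv_mem hr) (Q.inv_mem hr') hk hk' hr hr' ?_).2.1
  rw [mul_assoc r⁻¹ k t, mul_assoc r'⁻¹ k' t, ← e, ← e']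

theorem swap_invol (hS : Cfsg.IsRankOneSetup G Ω a t Q) {k : G}
    (hk : k ∈ Cfsg.invertedBy (twoPt G a t) t) :
    (k * t) * (k * t) = 1 ∧ k * t ≠ 1 ∧ (k * t) • a = t • a := by
  have h2 := ((mem_invertedBy hS.mul_self).mp hk).2
  refine ⟨?_, fun h => ?_, by rw [mul_smul, (mem_twoPt.mp hk.1).2]⟩
  · calc k * t * (k * t) = k * (t * k * t) := by simp only [mul_assoc]
      _ = 1 := by rw [h2, mul_inv_cancel]
  · apply hS.not_mem
    rw [eq_inv_of_mul_eq_one_right h]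
    exact inv_mem (twoPt_le hk.1)

theorem mem_invertedBy_of_swap (hS : Cfsg.IsRankOneSetup G Ω a t Q) {u : G} (hu : u * u = 1)
    (ha : u • a = t • a) : u * t ∈ Cfsg.invertedBy (twoPt G a t) t := by
  refine (mem_invertedBy hS.mul_self).mpr ⟨mem_twoPt.mpr ⟨?_, ?_⟩, ?_⟩
  · have hb : u • (t • a) = a := by rw [← ha, smul_smul, hu, one_smul]
    rw [mul_smul, hb]
  · rw [mul_smul, t_smul_smul hS, ha]
  · rw [mul_inv_rev, t_inv hS, inv_eq_of_mul_eq_one_right hu]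
    simp only [mul_assoc, hS.mul_self, mul_one]

theorem link_exists_right [Finite G] (hS : Cfsg.IsRankOneSetup G Ω a t Q) {k : G}
    (hk : k ∈ Cfsg.invertedBy (twoPt G a t) t) :
    ∃! p : G × G, p.1 ∈ Cfsg.involutionsIn (stabilizer G a : Set G) ∧ p.2 ∈ Q ∧
      t * p.1 * t = p.2⁻¹ * (k * t) * p.2 := by
  obtain ⟨hu, hu1, hua⟩ := swap_invol hS hk
  set u := k * t
  obtain ⟨c, hc⟩ := exists_fixed_point hS hu
  have hca : c ≠ a := by rintro rfl; exact t_smul_ne hS (hua.symm.trans hc)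
  obtain ⟨r, hr, hrc⟩ := exists_Q_smul hS hca
  refine ⟨(t * r⁻¹ * u * r * t, r), ⟨?_, hr, ?_⟩, ?_⟩
  · have h := conj_mem_I hS hu hu1 (g := t * r⁻¹) (c := c)
      (by rw [mul_smul, ← hrc, inv_smul_smul, t_smul_smul hS]) hc
    simpa [mul_inv_rev, t_inv hS, mul_assoc] using h
  · rw [← t_conj_conj hS (r⁻¹ * u * r)]
    simp only [mul_assoc]
  · rintro ⟨s', r'⟩ ⟨hs', hr', e⟩
    simp only at hs' hr' e
    have h1 : u • (r' • (t • a)) = r' • (t • a) := by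
      have : (r'⁻¹ * u * r') • (t • a) = t • a := by
        rw [← e, mul_smul, mul_smul, t_smul_smul hS, (show s' • a = a from hs'.1)]
      rwa [mul_smul, mul_smul, inv_smul_eq_iff] at this
    have h2 : r' = r := Q_smul_inj hS hr' hr (t_smul_ne hS)
      ((fixed_point_unique hS hu hu1 hc h1).trans hrc.symm)
    subst h2
    refine Prod.ext ?_ rfl
    show s' = _
    rw [← t_conj_conj hS s', e]
    simp only [mul_assoc]

theorem link_unique_left [Finite G] (hS : Cfsg.IsRankOneSetup G Ω a t Q) {s s' k : G}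
    (hk : k ∈ Cfsg.invertedBy (twoPt G a t) t)
    (hs : s ∈ Cfsg.involutionsIn (stabilizer G a : Set G))
    (hs' : s' ∈ Cfsg.involutionsIn (stabilizer G a : Set G)) (h : Link Q t s k)
    (h' : Link Q t s' k) : s = s' := by
  obtain ⟨r, hr, e⟩ := h
  obtain ⟨r', hr', e'⟩ := h'
  obtain ⟨p, -, hp⟩ := link_exists_right hS hk
  exact congrArg Prod.fst ((hp (s, r) ⟨hs, hr, e⟩).trans (hp (s', r') ⟨hs', hr', e'⟩).symm)

theorem conj_I (hS : Cfsg.IsRankOneSetup G Ω a t Q) {s c : G}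
    (hs : s ∈ Cfsg.involutionsIn (stabilizer G a : Set G)) (hc : c ∈ stabilizer G a) :
    c⁻¹ * s * c ∈ Cfsg.involutionsIn (stabilizer G a : Set G) := by
  have h := conj_mem_I hS hs.2.2 hs.2.1 (g := c⁻¹) (c := a) (inv_mem hc) hs.1
  simpa using h

theorem link_conj (hS : Cfsg.IsRankOneSetup G Ω a t Q) {s k c : G} (hc : c ∈ twoPt G a t)
    (h : Link Q t s k) : Link Q t (c⁻¹ * s * c) ((t * c * t)⁻¹ * k * c) := by
  obtain ⟨r, hr, e⟩ := h
  refine ⟨(t * c * t)⁻¹ * r * (t * c * t), conj_mem_Q' hS (twoPt_le (t_conj_twoPt hS hc)) hr, ?_⟩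
  have h1 : t * (c⁻¹ * s * c) * t = (t * c * t)⁻¹ * (t * s * t) * (t * c * t) := by
    simp only [mul_inv_rev, t_inv hS, mul_assoc]
    simp only [← mul_assoc t t, hS.mul_self, one_mul]
  rw [h1, e]
  simp only [mul_inv_rev, t_inv hS, inv_inv, mul_assoc]
  simp only [← mul_assoc t t, hS.mul_self, one_mul, mul_inv_cancel_left, inv_mul_cancel_left,
    mul_assoc]

/-- The bijection between involutions fixing `a` and inverted elements of `D`. -/
theorem exists_link_equiv [Finite G] (hS : Cfsg.IsRankOneSetup G Ω a t Q) :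
    ∃ φ : Cfsg.involutionsIn (stabilizer G a : Set G) ≃ Cfsg.invertedBy (twoPt G a t) t,
      ∀ s : Cfsg.involutionsIn (stabilizer G a : Set G), Link Q t (s : G) (φ s) := by
  choose k hk hlink using fun s : Cfsg.involutionsIn (stabilizer G a : Set G) =>
    link_exists_left hS s.2
  refine ⟨Equiv.ofBijective (fun s => ⟨k s, hk s⟩) ⟨fun s s' h => ?_, fun x => ?_⟩, hlink⟩
  · have h' : k s = k s' := congrArg Subtype.val h
    exact Subtype.ext (link_unique_left hS (hk s) s.2 s'.2 (hlink s) (h'.symm ▸ hlink s'))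
  · obtain ⟨p, ⟨hp1, hp2, e⟩, -⟩ := link_exists_right hS x.2
    exact ⟨⟨p.1, hp1⟩, Subtype.ext
      (link_unique_right hS (hk _).1 x.2.1 (hlink _) ⟨p.2, hp2, e⟩)⟩

theorem card_invertedBy [Finite G] (hS : Cfsg.IsRankOneSetup G Ω a t Q) :
    Nat.card (Cfsg.invertedBy (twoPt G a t) t) =
      Nat.card (Cfsg.involutionsIn (stabilizer G a : Set G)) := by
  obtain ⟨φ, -⟩ := exists_link_equiv hS
  exact (Nat.card_congr φ).symm

/-- The inverted elements of `D` permute the involutions fixing `a` transitively. -/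
theorem exists_conj_invertedBy [Finite G] (hS : Cfsg.IsRankOneSetup G Ω a t Q) {s s' : G}
    (hs : s ∈ Cfsg.involutionsIn (stabilizer G a : Set G))
    (hs' : s' ∈ Cfsg.involutionsIn (stabilizer G a : Set G)) :
    ∃ c ∈ Cfsg.invertedBy (twoPt G a t) t, c⁻¹ * s * c = s' := by
  obtain ⟨k, hk, hl⟩ := link_exists_left hS hs
  obtain ⟨k', hk', hl'⟩ := link_exists_left hS hs'
  let ψ : Cfsg.invertedBy (twoPt G a t) t → Cfsg.invertedBy (twoPt G a t) t :=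
    fun c => ⟨c * k * c, invertedBy_conj_conj hS.mul_self c.2 hk⟩
  have hinj : Function.Injective ψ := fun c c' h =>
    Subtype.ext (invertedBy_translation_inj hS.mul_self hS.odd_card c.2 c'.2 hk
      (congrArg Subtype.val h))
  obtain ⟨c, hc⟩ := Finite.injective_iff_surjective.mp hinj ⟨k', hk'⟩
  refine ⟨c, c.2, link_unique_left hS hk' (conj_I hS hs (twoPt_le c.2.1)) hs' ?_ hl'⟩
  have h := link_conj hS c.2.1 hl
  rwa [((mem_invertedBy hS.mul_self).mp c.2).2, inv_inv,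
    show (c : G) * k * c = k' from congrArg Subtype.val hc] at h

theorem invol_conj_t [Finite G] (hS : Cfsg.IsRankOneSetup G Ω a t Q) {u v : G} (hu1 : u ≠ 1)
    (hu : u * u = 1) (hv1 : v ≠ 1) (hv : v * v = 1) : ∃ g : G, g * u * g⁻¹ = v := by
  obtain ⟨c, hc⟩ := exists_fixed_point hS hu
  obtain ⟨d, hd⟩ := exists_fixed_point hS hv
  obtain ⟨g, hg⟩ := exists_smul hS c a
  obtain ⟨h, hh⟩ := exists_smul hS d a
  obtain ⟨k, -, e⟩ :=
    exists_conj_invertedBy hS (conj_mem_I hS hu hu1 hg hc) (conj_mem_I hS hv hv1 hh hd)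
  refine ⟨h⁻¹ * k⁻¹ * g, ?_⟩
  calc h⁻¹ * k⁻¹ * g * u * (h⁻¹ * k⁻¹ * g)⁻¹
      = h⁻¹ * (k⁻¹ * (g * u * g⁻¹) * k) * h := by simp only [mul_inv_rev, inv_inv, mul_assoc]
    _ = v := by rw [e]; simp [mul_assoc]

/-- With a four-group present, the point stabiliser contains two involutions. -/
theorem exists_two_invol [Finite G] (hS : Cfsg.IsRankOneSetup G Ω a t Q)
    (h2 : ∃ x y : G, x ≠ 1 ∧ y ≠ 1 ∧ x ≠ y ∧ x * x = 1 ∧ y * y = 1 ∧ x * y = y * x) :
    ∃ s ∈ Cfsg.involutionsIn (stabilizer G a : Set G),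
      ∃ s' ∈ Cfsg.involutionsIn (stabilizer G a : Set G), s ≠ s' ∧ Commute s s' := by
  obtain ⟨x, y, hx1, hy1, hxy, hx, hy, hc⟩ := h2
  obtain ⟨c, hcx⟩ := exists_fixed_point hS hx
  obtain ⟨g, hg⟩ := exists_smul hS c a
  refine ⟨_, conj_mem_I hS hx hx1 hg hcx, _,
    conj_mem_I hS hy hy1 hg (commute_fixed_point hS hx hx1 hcx hc), ?_, ?_⟩
  · exact fun h => hxy (mul_left_cancel (mul_right_cancel h))
  · show g * x * g⁻¹ * (g * y * g⁻¹) = g * y * g⁻¹ * (g * x * g⁻¹)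
    calc g * x * g⁻¹ * (g * y * g⁻¹) = g * (x * y) * g⁻¹ := by simp [mul_assoc]
      _ = g * (y * x) * g⁻¹ := by rw [hc]
      _ = g * y * g⁻¹ * (g * x * g⁻¹) := by simp [mul_assoc]

end Cfsg.Agent.RankOne
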