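import Mathlib
import Cfsg.Prelude.Def_LieRecognition

/-!
An involution acting on a group of odd order: unique square roots, the decomposition into a
centralised and an inverted element, and the translations of the inverted set.
-/

set_option autoImplicit false

open Subgroup

namespace Cfsg.Agent.RankOne

variable {M : Type*} [Group M]

/-- The square root of an element of odd order. -/
noncomputable def oddRoot (z : M) : M := z ^ ((orderOf z + 1) / 2)

theorem oddRoot_mul_self {z : M} (hz : Odd (orderOf z)) : oddRoot z * oddRoot z = z := by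
  obtain ⟨k, hk⟩ := hz
  have h : (orderOf z + 1) / 2 + (orderOf z + 1) / 2 = orderOf z + 1 := by omega
  rw [oddRoot, ← pow_add, h, pow_add, pow_orderOf_eq_one, pow_one, one_mul]

theorem oddRoot_mem {X : Subgroup M} {z : M} (hz : z ∈ X) : oddRoot z ∈ X := X.pow_mem hz _

theorem odd_orderOf_of_mem {X : Subgroup M} (hodd : Odd (Nat.card X)) {z : M} (hz : z ∈ X) :
    Odd (orderOf z) :=
  hodd.of_dvd_nat (X.orderOf_dvd_natCard hz)

theorem oddRoot_sq {z : M} (hz : Odd (orderOf z)) : oddRoot (z * z) = z := by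
  obtain ⟨k, hk⟩ := hz
  have h2 : orderOf (z * z) = orderOf z := by
    rw [← pow_two]
    exact Nat.Coprime.orderOf_pow (by rw [hk]; simp)
  have h : 2 * ((orderOf z + 1) / 2) = orderOf z + 1 := by omega
  rw [oddRoot, h2, ← pow_two, ← pow_mul, h, pow_add, pow_orderOf_eq_one, pow_one, one_mul]

theorem eq_of_sq_eq {X : Subgroup M} (hodd : Odd (Nat.card X)) {x y : M} (hx : x ∈ X) (hy : y ∈ X)
    (h : x * x = y * y) : x = y := by
  rw [← oddRoot_sq (odd_orderOf_of_mem hodd hx), h, oddRoot_sq (odd_orderOf_of_mem hodd hy)]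

theorem eq_one_of_sq_eq_one {X : Subgroup M} (hodd : Odd (Nat.card X)) {x : M} (hx : x ∈ X)
    (h : x * x = 1) : x = 1 :=
  eq_of_sq_eq hodd hx X.one_mem (by rw [h, one_mul])

theorem commute_of_commute_sq {X : Subgroup M} (hodd : Odd (Nat.card X)) {x c : M} (hx : x ∈ X)
    (h : Commute (x * x) c) : Commute x c := by
  rw [← oddRoot_sq (odd_orderOf_of_mem hodd hx)]
  exact h.pow_left _

variable {X : Subgroup M} {t : M}

/-- The involution `t` twice. -/
theorem conj_conj_of_invol (ht : t * t = 1) (x : M) : t * (t * x * t) * t = x := by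
  calc t * (t * x * t) * t = (t * t) * x * (t * t) := by simp only [mul_assoc]
    _ = x := by rw [ht, one_mul, mul_one]

theorem inv_eq_self_of_invol (ht : t * t = 1) : t⁻¹ = t := inv_eq_of_mul_eq_one_right ht

theorem mem_invertedBy (ht : t * t = 1) {x : M} :
    x ∈ Cfsg.invertedBy X t ↔ x ∈ X ∧ t * x * t = x⁻¹ := by
  simp [Cfsg.invertedBy, inv_eq_self_of_invol ht]

theorem invertedBy_conj_conj (ht : t * t = 1) {x y : M} (hx : x ∈ Cfsg.invertedBy X t)
    (hy : y ∈ Cfsg.invertedBy X t) : x * y * x ∈ Cfsg.invertedBy X t := by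
  rw [mem_invertedBy ht] at hx hy ⊢
  refine ⟨X.mul_mem (X.mul_mem hx.1 hy.1) hx.1, ?_⟩
  calc t * (x * y * x) * t
      = (t * x * t) * (t * y * t) * (t * x * t) := by
        simp only [mul_assoc]
        simp only [← mul_assoc t t, ht, one_mul]
    _ = (x * y * x)⁻¹ := by rw [hx.2, hy.2]; simp [mul_assoc]

theorem one_mem_invertedBy (ht : t * t = 1) : (1 : M) ∈ Cfsg.invertedBy X t := by
  rw [mem_invertedBy ht]
  exact ⟨X.one_mem, by rw [mul_one, ht, inv_one]⟩

theorem inv_mem_invertedBy (ht : t * t = 1) {x : M} (hx : x ∈ Cfsg.invertedBy X t) :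
    x⁻¹ ∈ Cfsg.invertedBy X t := by
  rw [mem_invertedBy ht] at hx ⊢
  refine ⟨X.inv_mem hx.1, ?_⟩
  rw [inv_inv, ← hx.2, conj_conj_of_invol ht]

theorem pow_mem_invertedBy (ht : t * t = 1) {x : M} (hx : x ∈ Cfsg.invertedBy X t) (n : ℕ) :
    x ^ n ∈ Cfsg.invertedBy X t := by
  rw [mem_invertedBy ht] at hx ⊢
  refine ⟨X.pow_mem hx.1 n, ?_⟩
  have h := map_pow (MulAut.conj t) x n
  rw [MulAut.conj_apply, MulAut.conj_apply, inv_eq_self_of_invol ht, hx.2] at h
  rw [h, inv_pow]

theorem oddRoot_mem_invertedBy (ht : t * t = 1) {x : M} (hx : x ∈ Cfsg.invertedBy X t) :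
    oddRoot x ∈ Cfsg.invertedBy X t :=
  pow_mem_invertedBy ht hx _

/-- The translation `x ↦ x y x` of the inverted set is injective. -/
theorem invertedBy_translation_inj (ht : t * t = 1) (hodd : Odd (Nat.card X)) {x₁ x₂ y : M}
    (h₁ : x₁ ∈ Cfsg.invertedBy X t) (h₂ : x₂ ∈ Cfsg.invertedBy X t)
    (hy : y ∈ Cfsg.invertedBy X t) (h : x₁ * y * x₁ = x₂ * y * x₂) : x₁ = x₂ := by
  obtain ⟨hw, hwy⟩ : oddRoot y ∈ X ∧ oddRoot y * oddRoot y = y :=
    ⟨oddRoot_mem hy.1, oddRoot_mul_self (odd_orderOf_of_mem hodd hy.1)⟩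
  set w := oddRoot y
  have key : ∀ x : M, (w * x * w) * (w * x * w) = w * (x * y * x) * w := by
    intro x
    simp only [← hwy, mul_assoc]
  have := eq_of_sq_eq hodd (X.mul_mem (X.mul_mem hw h₁.1) hw) (X.mul_mem (X.mul_mem hw h₂.1) hw)
    (by rw [key, key, h])
  exact mul_left_cancel (mul_right_cancel this)

/-- Every element of `X` is a centralised element times an inverted one. -/
theorem exists_decomp (ht : t * t = 1) (hodd : Odd (Nat.card X))
    (hnorm : ∀ x ∈ X, t * x * t⁻¹ ∈ X) {x : M} (hx : x ∈ X) :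
    ∃ c k : M, c ∈ X ∧ Commute t c ∧ k ∈ Cfsg.invertedBy X t ∧ x = c * k := by
  have hti := inv_eq_self_of_invol ht
  have htx : t * x * t ∈ X := by
    have := hnorm x hx
    rwa [hti] at this
  set z := (t * x * t)⁻¹ * x with hzdef
  have hz : z ∈ Cfsg.invertedBy X t := by
    rw [mem_invertedBy ht]
    refine ⟨X.mul_mem (X.inv_mem htx) hx, ?_⟩
    simp only [hzdef, mul_inv_rev, inv_inv, hti, mul_assoc]
    simp only [← mul_assoc t t, ht, one_mul]
  set k := oddRoot z
  have hkk : k * k = z := oddRoot_mul_self (odd_orderOf_of_mem hodd hz.1)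
  have hk : k ∈ Cfsg.invertedBy X t := oddRoot_mem_invertedBy ht hz
  have hk' := ((mem_invertedBy ht).mp hk).2
  refine ⟨x * k⁻¹, k, X.mul_mem hx (X.inv_mem hk.1), ?_, hk, by simp⟩
  have h1 : t * x * t = x * z⁻¹ := by
    simp only [hzdef, mul_inv_rev, inv_inv, ← mul_assoc]
    simp
  have h2 : t * (x * k⁻¹) * t = x * k⁻¹ := by
    calc t * (x * k⁻¹) * t = (t * x * t) * (t * k⁻¹ * t) := by
          simp only [mul_assoc]
          simp only [← mul_assoc t t, ht, one_mul]
      _ = x * (k * k)⁻¹ * k := by rw [h1, hkk, ← hk', conj_conj_of_invol ht]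
      _ = x * k⁻¹ := by simp [mul_assoc]
  calc t * (x * k⁻¹) = t * (x * k⁻¹) * (t * t) := by rw [ht, mul_one]
    _ = (t * (x * k⁻¹) * t) * t := by simp only [mul_assoc]
    _ = x * k⁻¹ * t := by rw [h2]

theorem decomp_unique (ht : t * t = 1) (hodd : Odd (Nat.card X)) {c₁ c₂ k₁ k₂ : M}
    (hc₁ : Commute t c₁) (hc₂ : Commute t c₂) (hk₁ : k₁ ∈ Cfsg.invertedBy X t)
    (hk₂ : k₂ ∈ Cfsg.invertedBy X t) (h : c₁ * k₁ = c₂ * k₂) : c₁ = c₂ ∧ k₁ = k₂ := by
  have key : ∀ c k : M, Commute t c → k ∈ Cfsg.invertedBy X t →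
      (t * (c * k) * t)⁻¹ * (c * k) = k * k := by
    intro c k hc hk
    have h1 : t * (c * k) * t = c * k⁻¹ := by
      rw [← ((mem_invertedBy ht).mp hk).2, ← mul_assoc t c k, hc.eq]
      simp only [mul_assoc]
    rw [h1]
    simp [mul_assoc]
  have hk : k₁ = k₂ := eq_of_sq_eq hodd hk₁.1 hk₂.1 (by
    rw [← key c₁ k₁ hc₁ hk₁, ← key c₂ k₂ hc₂ hk₂, h])
  exact ⟨mul_right_cancel (h.trans (by rw [hk])), hk⟩

end Cfsg.Agent.RankOne
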