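import Cfsg.Agent.RankOne.SingerNormalizer
import Cfsg.Agent.RankOne.ConstStabilizer
import Cfsg.Agent.S0035
import Cfsg.Agent.S0042

/-!
A doubly transitive group in which no non-identity element fixes three points, with a non-trivial
two-point stabiliser and a regular normal subgroup: the degree is `2 ^ p` with `p` prime.
-/

set_option autoImplicit false

open Subgroup MulAction
open scoped Pointwise

namespace Cfsg.Agent.RankOne

variable {G Ω : Type*} [Group G] [MulAction G Ω]

theorem exists_prime_pow_of_regular_normal [Finite G] [Finite Ω] [FaithfulSMul G Ω]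
    (h2 : MulAction.IsMultiplyPretransitive G Ω 2)
    (h3 : ∀ g : G, ∀ a b c : Ω, a ≠ b → b ≠ c → a ≠ c → g • a = a → g • b = b → g • c = c → g = 1)
    (hfix : ∃ g : G, g ≠ 1 ∧ ∃ a b : Ω, a ≠ b ∧ g • a = a ∧ g • b = b)
    (N : Subgroup G) [hNn : N.Normal] (hNt : MulAction.IsPretransitive N Ω)
    (hNr : ∀ a : Ω, MulAction.stabilizer N a = ⊥) :
    ∃ p : ℕ, p.Prime ∧ Nat.card Ω = 2 ^ p := by
  classical
  obtain ⟨g₀, hg₀, a, b, hab, hga, hgb⟩ := hfix
  have pairs : ∀ {x y z w : Ω}, x ≠ y → z ≠ w → ∃ g : G, g • x = z ∧ g • y = w :=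
    fun hxy hzw => (is_two_pretransitive_iff.mp h2) hxy hzw
  -- a third point
  obtain ⟨c, hca, hcb⟩ : ∃ c : Ω, c ≠ a ∧ c ≠ b := by
    by_contra h
    push Not at h
    apply hg₀
    refine FaithfulSMul.eq_of_smul_eq_smul (α := Ω) fun x => ?_
    rw [one_smul]
    by_cases hx : x = a
    · rw [hx, hga]
    · rw [h x hx, hgb]
  -- `h` of prime order fixing exactly `a` and `b`
  obtain ⟨r, hr, hdvd⟩ := Nat.exists_prime_and_dvd
    (fun h1 : orderOf g₀ = 1 => hg₀ (orderOf_eq_one_iff.mp h1))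
  set h := g₀ ^ (orderOf g₀ / r)
  have hh : orderOf h = r := orderOf_pow_orderOf_div (orderOf_pos g₀).ne' hdvd
  have hh1 : h ≠ 1 := fun e => hr.ne_one (by rw [← hh, e, orderOf_one])
  have hha : h • a = a := pow_mem (show g₀ ∈ stabilizer G a from hga) _
  have hhb : h • b = b := pow_mem (show g₀ ∈ stabilizer G b from hgb) _
  -- `N` is regular
  have hinj : ∀ n ∈ N, ∀ m ∈ N, ∀ x : Ω, n • x = m • x → n = m := by
    intro n hn m hm x e
    have : (⟨m⁻¹ * n, N.mul_mem (N.inv_mem hm) hn⟩ : N) ∈ stabilizer N x := by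
      show (m⁻¹ * n) • x = x
      rw [mul_smul, e, inv_smul_smul]
    rw [hNr x, Subgroup.mem_bot] at this
    exact (inv_mul_eq_one.mp (congrArg Subtype.val this)).symm
  have hsurj : ∀ x : Ω, ∃ n ∈ N, n • a = x := fun x => by
    obtain ⟨n, hn⟩ := hNt.exists_smul_eq a x
    exact ⟨n, n.2, hn⟩
  have hconj : ∀ g : G, g • a = a → ∀ n ∈ N, (g * n * g⁻¹) • a = g • (n • a) := by
    intro g hg n _
    rw [mul_smul, mul_smul, inv_smul_eq_iff.mpr hg.symm]
  -- `G_a` is transitive on `N \ {1}` by conjugation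
  have hNconj : ∀ n ∈ N, ∀ m ∈ N, n ≠ 1 → m ≠ 1 → ∃ g : G, g • a = a ∧ g * n * g⁻¹ = m := by
    intro n hn m hm hn1 hm1
    have e1 : a ≠ n • a := fun e => hn1 (hinj n hn 1 N.one_mem a (by rw [one_smul, ← e]))
    have e2 : a ≠ m • a := fun e => hm1 (hinj m hm 1 N.one_mem a (by rw [one_smul, ← e]))
    obtain ⟨g, hg, hgn⟩ := pairs e1 e2
    exact ⟨g, hg, hinj _ (hNn.conj_mem n hn g) m hm a (by rw [hconj g hg n hn, hgn])⟩
  obtain ⟨n₁, hn₁, hn₁b⟩ := hsurj b
  have hn₁1 : n₁ ≠ 1 := fun e => hab (by rw [← hn₁b, e, one_smul])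
  have hhn₁ : h * n₁ * h⁻¹ = n₁ :=
    hinj _ (hNn.conj_mem n₁ hn₁ h) n₁ hn₁ a (by rw [hconj h hha n₁ hn₁, hn₁b, hhb])
  have hcent : ∀ n ∈ N, h * n * h⁻¹ = n → n = 1 ∨ n = n₁ := by
    intro n hn e
    by_contra hc
    push Not at hc
    refine hh1 (h3 h a b (n • a) hab ?_ ?_ hha hhb ?_)
    · intro e'; exact hc.2 (hinj n hn n₁ hn₁ a (by rw [← e', hn₁b]))
    · intro e'; exact hc.1 (hinj n hn 1 N.one_mem a (by rw [one_smul, ← e']))
    · rw [← hconj h hha n hn, e]
  have hn₁2 : n₁ * n₁ = 1 := by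
    rcases hcent (n₁ * n₁) (N.mul_mem hn₁ hn₁)
      (by rw [← MulAut.conj_apply, map_mul, MulAut.conj_apply, hhn₁]) with e | e
    · exact e
    · exact absurd (mul_eq_right.mp e) hn₁1
  have hN2 : ∀ n ∈ N, n * n = 1 := by
    intro n hn
    by_cases hn1 : n = 1
    · rw [hn1, one_mul]
    obtain ⟨g, -, rfl⟩ := hNconj n₁ hn₁ n hn hn₁1 hn1
    calc g * n₁ * g⁻¹ * (g * n₁ * g⁻¹) = g * (n₁ * n₁) * g⁻¹ := by simp [mul_assoc]
      _ = 1 := by rw [hn₁2, mul_one, mul_inv_cancel]
  have hNcomm : ∀ n ∈ N, ∀ m ∈ N, n * m = m * n := fun n hn m hm => by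
    have e1 := inv_eq_of_mul_eq_one_right (hN2 _ (N.mul_mem hn hm))
    rw [mul_inv_rev, inv_eq_of_mul_eq_one_right (hN2 n hn),
      inv_eq_of_mul_eq_one_right (hN2 m hm)] at e1
    exact e1.symm
  -- the Frobenius group `G_a`
  set H := stabilizer G a with hHdef
  let D : Subgroup H := stabilizer H b
  have hD1 : (⟨g₀, hga⟩ : H) ∈ D := hgb
  have hDbot : D ≠ ⊥ := fun e => by
    rw [e] at hD1
    exact hg₀ (congrArg Subtype.val ((Subgroup.mem_bot).mp hD1))
  have hDtop : D ≠ ⊤ := fun e => by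
    obtain ⟨g, hg, hgc⟩ := pairs hab hca.symm
    have : (⟨g, hg⟩ : H) ∈ D := e ▸ Subgroup.mem_top _
    exact hcb (hgc.symm.trans this)
  have hfrob : Cfsg.IsFrobeniusComplement D := by
    refine ⟨hDbot, hDtop, fun g hg => eq_bot_iff.mpr ?_⟩
    rintro x ⟨hx, hx₂⟩
    have hx' : x ∈ MulAut.conj g • D := hx₂
    rw [Subgroup.mem_pointwise_smul_iff_inv_smul_mem] at hx'
    have hgb' : (g : G) • b ≠ b := fun e => hg e
    have hxg : (x : G) • ((g : G) • b) = (g : G) • b := by
      have h' : ((g : G)⁻¹ * (x : G) * (g : G)) • b = b := by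
        have e : (MulAut.conj g)⁻¹ • x = g⁻¹ * x * g := by simp
        rw [e] at hx'
        exact hx'
      rw [mul_smul, mul_smul, inv_smul_eq_iff] at h'
      exact h'
    have hgba : (g : G) • b ≠ a := fun e =>
      hab (MulAction.injective (g : G) ((show (g : G) • a = a from g.2).trans e.symm))
    exact (Subgroup.mem_bot).mpr (Subtype.ext
      (h3 x a b ((g : G) • b) hab hgb'.symm hgba.symm x.2 hx hxg))
  obtain ⟨K, hKset, hKn, hKnil⟩ := S0042.result D hfrob
  obtain ⟨K', hK'set, -, hKcompl⟩ := S0035.result D hfrob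
  have hKK : K' = K := SetLike.coe_injective (hK'set.trans hKset.symm)
  subst hKK
  have horb : ∀ x : Ω, x ≠ a → ∃ g : H, (g : G) • b = x := fun x hx => by
    obtain ⟨g, hg, hgx⟩ := pairs hab hx.symm
    exact ⟨⟨g, hg⟩, hgx⟩
  have hKfree : ∀ k ∈ K', ∀ x : Ω, x ≠ a → (k : G) • x = x → k = 1 := by
    intro k hk x hx hkx
    have hk' : k ∈ Cfsg.frobeniusKernel D := hKset ▸ hk
    refine hk'.resolve_right fun hno => ?_
    obtain ⟨g, rfl⟩ := horb x hx
    apply hno g
    rw [Subgroup.mem_pointwise_smul_iff_inv_smul_mem]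
    show ((MulAut.conj g)⁻¹ • k : H) ∈ D
    have h' : ((g : G)⁻¹ * (k : G) * (g : G)) • b = b := by
      rw [mul_smul, mul_smul, inv_smul_eq_iff]; exact hkx
    have e : (MulAut.conj g)⁻¹ • k = g⁻¹ * k * g := by simp
    rw [e]
    exact h'
  have hKtrans : ∀ x y : Ω, x ≠ a → y ≠ a → ∃ k ∈ K', (k : G) • x = y := by
    intro x y hx hy
    let S := {z : Ω // z ≠ a}
    have hmem : ∀ k : K', ((k : H) : G) • x ≠ a := fun k e =>
      hx (MulAction.injective ((k : H) : G) (e.trans ((k : H).2 : ((k : H) : G) • a = a).symm))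
    let φ : K' → S := fun k => ⟨((k : H) : G) • x, hmem k⟩
    have hinjφ : Function.Injective φ := by
      intro k k' e
      have e1 : ((k : H) : G) • x = ((k' : H) : G) • x := congrArg Subtype.val e
      have := hKfree _ (K'.mul_mem (K'.inv_mem k'.2) k.2) x hx (by
        show (((k' : H) : G)⁻¹ * ((k : H) : G)) • x = x
        rw [mul_smul, e1, inv_smul_smul])
      exact (Subtype.ext (inv_mul_eq_one.mp this)).symm
    have hcard : Nat.card S ≤ Nat.card K' := by
      have h1 : Nat.card H = Nat.card D * Nat.card (MulAction.orbit H b) := by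
        rw [← Nat.card_congr (MulAction.orbitProdStabilizerEquivGroup H b), Nat.card_prod, mul_comm]
      have h2' : Nat.card K' * Nat.card D = Nat.card H := hKcompl.card_mul
      have h3' : Nat.card S ≤ Nat.card (MulAction.orbit H b) := by
        refine Nat.card_le_card_of_injective (fun z : S => ⟨(z : Ω), ?_⟩)
          (fun z z' e => Subtype.ext (congrArg Subtype.val e :))
        obtain ⟨g, hg⟩ := horb z z.2
        exact ⟨g, hg⟩
      have hpos : 0 < Nat.card D := Nat.card_pos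
      calc Nat.card S ≤ Nat.card (MulAction.orbit H b) := h3'
        _ ≤ Nat.card K' := Nat.le_of_mul_le_mul_left (le_of_eq (by rw [← h1, ← h2', mul_comm])) hpos
    obtain ⟨k, hk⟩ := (hinjφ.bijective_of_nat_card_le hcard).2 ⟨y, hy⟩
    exact ⟨k, k.2, congrArg Subtype.val hk⟩
  -- transport to `N`
  letI : CommGroup N :=
    { (inferInstance : Group N) with mul_comm := fun x y => Subtype.ext (hNcomm x x.2 y y.2) }
  letI : MulDistribMulAction K' N :=
    { smul := fun k n => ⟨((k : H) : G) * n * ((k : H) : G)⁻¹, hNn.conj_mem n n.2 _⟩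
      one_smul := fun n => Subtype.ext (by show (1 : G) * n * (1 : G)⁻¹ = n; simp)
      mul_smul := fun k k' n => Subtype.ext (by
        show (((k : H) : G) * ((k' : H) : G)) * n * (((k : H) : G) * ((k' : H) : G))⁻¹ = _
        show _ = ((k : H) : G) * (((k' : H) : G) * n * ((k' : H) : G)⁻¹) * ((k : H) : G)⁻¹
        simp [mul_assoc])
      smul_mul := fun k n n' => Subtype.ext (by
        show ((k : H) : G) * ((n : G) * n') * ((k : H) : G)⁻¹ =
          ((k : H) : G) * n * ((k : H) : G)⁻¹ * (((k : H) : G) * n' * ((k : H) : G)⁻¹)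
        simp [mul_assoc])
      smul_one := fun k => Subtype.ext (by
        show ((k : H) : G) * (1 : G) * ((k : H) : G)⁻¹ = 1
        simp) }
  letI : DistribMulAction K' (Additive N) :=
    { smul := fun k e => Additive.ofMul (k • e.toMul)
      one_smul := fun e => congrArg Additive.ofMul (one_smul K' e.toMul)
      mul_smul := fun k k' e => congrArg Additive.ofMul (mul_smul k k' e.toMul)
      smul_zero := fun k => congrArg Additive.ofMul (MulDistribMulAction.smul_one k)
      smul_add := fun k e e' => congrArg Additive.ofMul (MulDistribMulAction.smul_mul k e.toMul e'.toMul) }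
  have hval : ∀ (k : K') (e : Additive N),
      (((k • e).toMul : N) : G) = ((k : H) : G) * (e.toMul : N) * ((k : H) : G)⁻¹ := fun _ _ => rfl
  have hne : ∀ {e : Additive N}, e ≠ 0 → (((e.toMul : N) : G)) • a ≠ a := fun {e} he e' =>
    he (Subtype.ext (hinj _ e.toMul.2 1 N.one_mem a (by rw [e', one_smul])))
  have hfree' : ∀ (k : K') (e : Additive N), e ≠ 0 → k • e = e → k = 1 := by
    intro k e he hke
    refine Subtype.ext (hKfree k k.2 _ (hne he) ?_)
    rw [← hconj _ (k : H).2 _ e.toMul.2, ← hval, hke]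
  have htrans' : ∀ e e' : Additive N, e ≠ 0 → e' ≠ 0 → ∃ k : K', k • e = e' := by
    intro e e' he he'
    obtain ⟨k, hk, hkx⟩ := hKtrans _ _ (hne he) (hne he')
    refine ⟨⟨k, hk⟩, Subtype.ext (hinj _ ((⟨k, hk⟩ : K') • e).toMul.2 _ e'.toMul.2 a ?_)⟩
    rw [hval, hconj _ k.2 _ e.toMul.2]
    exact hkx
  have hE2 : ∀ e : Additive N, e + e = 0 := fun e => Subtype.ext (hN2 _ e.toMul.2)
  obtain ⟨n₂, hn₂, hn₂c⟩ := hsurj c
  set e₀ : Additive N := Additive.ofMul (⟨n₁, hn₁⟩ : N)
  have he₀ : e₀ ≠ 0 := fun e => hn₁1 (congrArg (fun x : Additive N => ((x.toMul : N) : G)) e)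
  haveI : Nontrivial (Additive N) := ⟨⟨e₀, 0, he₀⟩⟩
  -- `K` is cyclic
  haveI : IsCyclic K' := by
    haveI := hKnil
    haveI : IsZGroup K' := by
      refine ⟨fun p hp P => ?_⟩
      haveI := Fact.mk hp
      by_cases hP1 : (P : Subgroup K') = ⊥
      · rw [hP1]; infer_instance
      have hfree : ∀ (x : P) (e : Additive N), e ≠ 0 → (x : K') • e = e → x = 1 :=
        fun x e he hx => Subtype.ext (hfree' x e he hx)
      haveI : FaithfulSMul (P : Subgroup K') (Additive N) := ⟨fun {x y} hxy => by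
        have := hfree (y⁻¹ * x) e₀ he₀ (by
          show ((y⁻¹ * x : P) : K') • e₀ = e₀
          rw [Subgroup.coe_mul, Subgroup.coe_inv, mul_smul]
          have h' : ((x : P) : K') • e₀ = ((y : P) : K') • e₀ := hxy e₀
          rw [h', inv_smul_smul])
        exact (inv_mul_eq_one.mp this).symm⟩
      have hp2 : p ≠ 2 := by
        rintro rfl
        -- an element of order two of `P` moves some vector to a fixed one
        obtain ⟨x, hx, hx1⟩ := (Subgroup.bot_or_exists_ne_one _).resolve_left hP1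
        obtain ⟨n, hn⟩ := P.2 ⟨x, hx⟩
        have hx' : x ^ (2 ^ n) = 1 := congrArg Subtype.val hn
        obtain ⟨j, hj⟩ : ∃ j, x ^ (2 ^ j) ≠ 1 ∧ x ^ (2 ^ (j + 1)) = 1 := by
          by_contra hcon
          push Not at hcon
          have : ∀ j, x ^ (2 ^ j) ≠ 1 := by
            intro j
            induction j with
            | zero => rw [pow_zero, pow_one]; exact hx1
            | succ j ih => exact hcon j ih
          exact this n hx'
        set y := x ^ (2 ^ j)
        have hy2 : y * y = 1 := by rw [← pow_add, ← two_mul, ← pow_succ']; exact hj.2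
        by_cases hfix0 : e₀ + y • e₀ = 0
        · have : y • e₀ = e₀ := add_left_cancel (hfix0.trans (hE2 e₀).symm)
          exact hj.1 (hfree' y e₀ he₀ this)
        · refine hj.1 (hfree' y _ hfix0 ?_)
          rw [smul_add, smul_smul, hy2, one_smul, add_comm]
      refine isCyclic_of_const (E := Additive N) hp2 P.2 Nat.prime_two hp2
        (fun e => by rw [two_nsmul]; exact hE2 e) fun x y hx hy => ?_
      have hbot : ∀ e : Additive N, e ≠ 0 → stabilizer (P : Subgroup K') e = ⊥ := fun e he =>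
        eq_bot_iff.mpr fun x hx => (Subgroup.mem_bot).mpr (hfree x e he hx)
      rw [hbot x hx, hbot y hy]
    infer_instance
  -- the automorphism induced by `h`
  let η : Additive N →+ Additive N :=
    AddMonoidHom.mk' (fun e => Additive.ofMul (⟨h * (e.toMul : N) * h⁻¹, hNn.conj_mem _ e.toMul.2 h⟩ : N))
      (fun e e' => Subtype.ext (by
        show h * (((e.toMul : N) : G) * (e'.toMul : N)) * h⁻¹ = _ * _
        show _ = h * ((e.toMul : N) : G) * h⁻¹ * (h * ((e'.toMul : N) : G) * h⁻¹)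
        simp [mul_assoc]))
  have hηval : ∀ e : Additive N, (((η e).toMul : N) : G) = h * (e.toMul : N) * h⁻¹ := fun _ => rfl
  have hηiter : ∀ (i : ℕ) (e : Additive N),
      (((η^[i] e).toMul : N) : G) = h ^ i * (e.toMul : N) * (h ^ i)⁻¹ := by
    intro i
    induction i with
    | zero => intro e; simp
    | succ i ih =>
      intro e
      rw [Function.iterate_succ_apply', hηval, ih, pow_succ']
      simp [mul_assoc]
  refine ⟨r, hr, ?_⟩
  have hcardN : Nat.card (Additive N) = Nat.card Ω :=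
    Nat.card_eq_of_bijective (fun e : Additive N => ((e.toMul : N) : G) • a)
      ⟨fun e e' he => Subtype.ext (hinj _ e.toMul.2 _ e'.toMul.2 a he),
        fun x => by obtain ⟨n, hn, hnx⟩ := hsurj x; exact ⟨Additive.ofMul ⟨n, hn⟩, hnx⟩⟩
  rw [← hcardN]
  refine card_eq_two_pow_of_singer (F := K') hE2 htrans' hfree' η hr ?_ ?_ he₀ ?_ ?_ ?_
  · intro e
    refine Subtype.ext ((hηiter r e).trans ?_)
    rw [show h ^ r = 1 by rw [← hh]; exact pow_orderOf_eq_one h, one_mul, inv_one, mul_one]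
    rfl
  · intro k
    have hmem : (⟨h, hha⟩ : H) * (k : H) * (⟨h, hha⟩ : H)⁻¹ ∈ K' := hKn.conj_mem _ k.2 _
    refine ⟨⟨_, hmem⟩, fun e => Subtype.ext ?_⟩
    show h * (((k : H) : G) * _ * ((k : H) : G)⁻¹) * h⁻¹ =
      (h * ((k : H) : G) * h⁻¹) * (h * _ * h⁻¹) * (h * ((k : H) : G) * h⁻¹)⁻¹
    simp [mul_assoc]
  · exact Subtype.ext hhn₁
  · intro e he
    rcases hcent _ e.toMul.2 ((hηval e).symm.trans (congrArg (fun x => ((x.toMul : N) : G)) he))
      with h' | h'
    · exact Or.inl (Subtype.ext h')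
    · exact Or.inr (Subtype.ext h')
  · refine ⟨Additive.ofMul ⟨n₂, hn₂⟩, fun e => hca ?_, fun e => hcb ?_⟩
    · rw [← hn₂c, show n₂ = 1 from congrArg (fun x : Additive N => ((x.toMul : N) : G)) e, one_smul]
    · rw [← hn₂c, show n₂ = n₁ from congrArg (fun x : Additive N => ((x.toMul : N) : G)) e, hn₁b]

end Cfsg.Agent.RankOne
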