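import Mathlib

/-!
A cyclic regular group on the non-zero vectors of a group of exponent two, normalised by an
automorphism of prime order `r` fixing a single non-zero vector: the group has order `2 ^ r`.
-/

set_option autoImplicit false

namespace Cfsg.Agent.RankOne

variable {E F : Type*} [AddCommGroup E] [Group F] [DistribMulAction F E]

theorem card_eq_two_pow_of_singer [Finite E] [Finite F] [IsCyclic F] (hE : ∀ e : E, e + e = 0)
    (htrans : ∀ x y : E, x ≠ 0 → y ≠ 0 → ∃ f : F, f • x = y)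
    (hfree : ∀ (f : F) (x : E), x ≠ 0 → f • x = x → f = 1)
    (h : E →+ E) {r : ℕ} (hr : r.Prime) (hiter : ∀ x, h^[r] x = x)
    (hnorm : ∀ f : F, ∃ f' : F, ∀ x, h (f • x) = f' • h x)
    {e0 : E} (he0 : e0 ≠ 0) (hh : h e0 = e0) (hfix : ∀ x, h x = x → x = 0 ∨ x = e0)
    (hbig : ∃ x : E, x ≠ 0 ∧ x ≠ e0) : Nat.card E = 2 ^ r := by
  classical
  obtain ⟨k, hk⟩ := IsCyclic.exists_generator (α := F)
  have hFcomm : ∀ f g : F, f * g = g * f := fun f g => by
    letI := IsCyclic.commGroup (α := F)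
    exact mul_comm f g
  let T : F →* AddMonoid.End E := DistribMulAction.toAddMonoidEnd F E
  have hT : ∀ (f : F) (x : E), T f x = f • x := fun _ _ => rfl
  let L : Subring (AddMonoid.End E) := Subring.centralizer {T k}
  have hTL : ∀ f : F, T f ∈ L := fun f => Subring.mem_centralizer_iff.mpr fun g hg => by
    rw [Set.mem_singleton_iff.mp hg, ← map_mul, ← map_mul, hFcomm]
  have hL : ∀ φ ∈ L, ∀ (f : F) (x : E), φ (f • x) = f • φ x := by
    intro φ hφ f x
    obtain ⟨n, rfl⟩ := Submonoid.mem_powers_iff f k |>.mp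
      ((mem_powers_iff_mem_zpowers).mpr (hk f))
    have hc : Commute (T k) φ := Subring.mem_centralizer_iff.mp hφ _ rfl
    have h1 := (hc.pow_left n).eq
    rw [← map_pow] at h1
    have := DFunLike.congr_fun h1 x
    exact this.symm
  let ev : L → E := fun φ => (φ : AddMonoid.End E) e0
  have hev : Function.Bijective ev := by
    refine ⟨fun φ ψ hφψ => Subtype.ext (DFunLike.ext _ _ fun x => ?_), fun x => ?_⟩
    · by_cases hx : x = 0
      · rw [hx, map_zero, map_zero]
      · obtain ⟨f, rfl⟩ := htrans e0 x he0 hx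
        have h1 : (φ : AddMonoid.End E) e0 = (ψ : AddMonoid.End E) e0 := hφψ
        rw [hL _ φ.2, hL _ ψ.2, h1]
    · by_cases hx : x = 0
      · exact ⟨0, hx.symm⟩
      · obtain ⟨f, rfl⟩ := htrans e0 x he0 hx
        exact ⟨⟨T f, hTL f⟩, rfl⟩
  have hcases : ∀ φ : L, φ = 0 ∨ ∃ f : F, φ = ⟨T f, hTL f⟩ := by
    intro φ
    by_cases hx : ev φ = 0
    · exact Or.inl (hev.1 (hx.trans rfl))
    · obtain ⟨f, hf⟩ := htrans e0 (ev φ) he0 hx
      exact Or.inr ⟨f, hev.1 (hf.symm.trans rfl)⟩
  have hne1 : (0 : L) ≠ 1 := fun h01 => he0 (congrArg ev h01).symm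
  have hfield : IsField L := by
    refine ⟨⟨0, 1, hne1⟩, fun φ ψ => ?_, fun {φ} hφ => ?_⟩
    · rcases hcases φ with rfl | ⟨f, rfl⟩
      · rw [zero_mul, mul_zero]
      rcases hcases ψ with rfl | ⟨g, rfl⟩
      · rw [zero_mul, mul_zero]
      exact Subtype.ext (show T f * T g = T g * T f by rw [← map_mul, ← map_mul, hFcomm])
    · obtain ⟨f, rfl⟩ := (hcases φ).resolve_left hφ
      exact ⟨⟨T f⁻¹, hTL _⟩, Subtype.ext (show T f * T f⁻¹ = 1 by rw [← map_mul, mul_inv_cancel, map_one])⟩
  letI : Field L := hfield.toField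
  haveI : Finite L := Finite.of_injective ev hev.1
  -- conjugation by `h`
  have hhinj : Function.Injective h := by
    intro x y hxy
    obtain ⟨n, rfl⟩ := Nat.exists_eq_succ_of_ne_zero hr.ne_zero
    rw [← hiter x, ← hiter y, Function.iterate_succ_apply, Function.iterate_succ_apply, hxy]
  have hhsurj : Function.Surjective h := Finite.surjective_of_injective hhinj
  have hconj : ∀ φ : L, ∃ ψ : L, ∀ x, (ψ : AddMonoid.End E) (h x) = h ((φ : AddMonoid.End E) x) := by
    intro φ
    rcases hcases φ with rfl | ⟨f, rfl⟩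
    · exact ⟨0, fun x => (map_zero h).symm⟩
    · obtain ⟨f', hf'⟩ := hnorm f
      exact ⟨⟨T f', hTL f'⟩, fun x => (hf' x).symm⟩
  choose s hs using hconj
  have hsev : ∀ φ, ev (s φ) = h (ev φ) := fun φ => by
    show (s φ : AddMonoid.End E) e0 = _
    nth_rw 1 [← hh]
    exact hs φ e0
  let σ : L →+* L :=
    { toFun := s
      map_one' := hev.1 (by rw [hsev]; exact hh)
      map_mul' := fun φ ψ => hev.1 (by
        rw [hsev]
        show h ((φ : AddMonoid.End E) (ev ψ)) = (s φ : AddMonoid.End E) (ev (s ψ))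
        rw [hsev, hs])
      map_zero' := hev.1 (by rw [hsev]; exact map_zero h)
      map_add' := fun φ ψ => hev.1 (by
        rw [hsev]
        show h (ev φ + ev ψ) = ev (s φ) + ev (s ψ)
        rw [map_add, hsev, hsev]) }
  let τ : RingAut L := RingEquiv.ofBijective σ
    ⟨σ.injective, Finite.surjective_of_injective σ.injective⟩
  have hτ : ∀ (n : ℕ) (φ : L), ev ((τ ^ n) φ) = h^[n] (ev φ) := by
    intro n
    induction n with
    | zero => intro φ; rfl
    | succ n ih =>
      intro φ
      rw [pow_succ, Function.iterate_succ_apply, ← hsev]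
      exact ih (s φ)
  have hτr : τ ^ r = 1 := RingEquiv.ext fun φ => hev.1 (by rw [hτ, hiter]; rfl)
  have hτ1 : τ ≠ 1 := by
    intro h1
    obtain ⟨x, hx0, hxe⟩ := hbig
    obtain ⟨φ, rfl⟩ := hev.2 x
    rcases hfix (ev φ) (by rw [← Function.iterate_one h, ← hτ 1 φ, pow_one, h1]; rfl) with h2 | h2
    · exact hx0 h2
    · exact hxe h2
  haveI := Fact.mk hr
  have hord : orderOf τ = r := orderOf_eq_prime hτr hτ1
  let S := FixedPoints.subfield (Subgroup.zpowers τ) L
  haveI : Finite (RingAut L) :=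
    Finite.of_injective (fun e : RingAut L => (e : L → L)) DFunLike.coe_injective
  letI : Fintype (Subgroup.zpowers τ) := Fintype.ofFinite _
  have hrank : Module.finrank S L = r := by
    rw [FixedPoints.finrank_eq_card, ← Nat.card_eq_fintype_card, Nat.card_zpowers, hord]
  have hScard : Nat.card S = 2 := by
    have key : ∀ φ : S, (φ : L) = 0 ∨ (φ : L) = 1 := by
      intro φ
      have h1 : τ (φ : L) = φ := φ.2 ⟨τ, Subgroup.mem_zpowers τ⟩
      rcases hfix (ev φ) (by rw [← hsev]; exact congrArg ev h1) with h2 | h2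
      · exact Or.inl (hev.1 (h2.trans rfl))
      · exact Or.inr (hev.1 (h2.trans rfl))
    rw [Nat.card_eq_two_iff]
    refine ⟨0, 1, zero_ne_one, Set.eq_univ_of_forall fun φ => ?_⟩
    rcases key φ with h1 | h1
    · exact Or.inl (Subtype.ext h1)
    · exact Or.inr (Subtype.ext h1)
  rw [← Nat.card_eq_of_bijective ev hev, Module.natCard_eq_pow_finrank (K := S), hrank, hScard]

end Cfsg.Agent.RankOne
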